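import Cfsg.Agent.Lib.Modular.Decomposition
import Cfsg.Agent.Lib.Char.PiSection
import Cfsg.Agent.Lib.Blocks.Covering
import Cfsg.Agent.Lib.CharBlocks.Degree

/-!
# Brauer characters of `p'`-groups and the generalized-character extension

* `isCharacter_brauerFun`: on a group of order prime to `p` a Brauer character is a character;
* `isGen_extension`: `g ↦ φ(g_{p'})` is a generalized character;
* `exists_int_combination`: a block Brauer character is an integral combination over the block.
-/

set_option autoImplicit false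

noncomputable section

namespace CfsgLib.Modular

open Cfsg CfsgLib.Blocks CfsgLib.Char CfsgLib.BlockArith

attribute [local instance] CfsgLib.Blocks.resField

variable {M : Ideal AlgInt} [M.IsMaximal] {G : Type*} [Group G] [Fintype G] {p : ℕ}

theorem ibr_one_pos (hM : IsPModular p M) {φ : G → ℂ} (hφ : φ ∈ ibrF hM G) :
    ∃ n : ℕ, 0 < n ∧ φ 1 = (n : ℂ) := by
  obtain ⟨n, σ, hσ, rfl⟩ := mem_ibrF.mp hφ
  refine ⟨n, Nat.pos_of_ne_zero fun h => ?_, by rw [brauerFun_one σ hM]; simp⟩
  subst h
  obtain ⟨a, b, hab⟩ := hσ.exists_pair_ne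
  exact hab (Subrepresentation.toSubmodule_injective (Subsingleton.elim _ _))

theorem res_char_eq (hM : IsPModular p M) (hG : ¬ p ∣ Nat.card G) (χ : IrrCharacter G) (g : G) :
    pRegularPart p (χ : G → ℂ) g = (χ : G → ℂ) g := by
  classical
  rw [pRegularPart_apply, if_neg fun h => hG (h.trans (orderOf_dvd_natCard g))]

/-- On a group of order prime to `p` every irreducible Brauer character is a character. -/
theorem isCharacter_ibr (hM : IsPModular p M) (hG : ¬ p ∣ Nat.card G) {φ : G → ℂ}
    (hφ : φ ∈ ibrF hM G) : IsCharacter G φ := by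
  classical
  have : Fact p.Prime := ⟨hM.1⟩
  have hsel : ∀ ψ ∈ ibrF hM G, ∃ χ : IrrCharacter G, dnum hM χ ψ ≠ 0 := fun ψ hψ => by
    obtain ⟨B, hB, hψB⟩ := exists_ibrOf hM hψ
    obtain ⟨-, χ, -, hd⟩ := mem_ibrOf.mp hψB
    exact ⟨χ, hd⟩
  choose f hf using fun x : ibrF hM G => hsel x x.2
  have honly : ∀ (x : ibrF hM G) (ψ : G → ℂ), dnum hM (f x) ψ ≠ 0 → ψ = x := by
    intro x ψ hψ
    have hB := isPBlock_blockOf (M := M) (f x)
    have hcard : (ibrOf hM (blockOf M (f x : G → ℂ))).card ≤ 1 := by
      rw [← blockRank_eq_card hM hB, blockRank]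
      refine (finrank_span_le_card _).trans ?_
      rw [Set.toFinset_image]
      refine Finset.card_image_le.trans ?_
      rw [Finset.card_le_one]
      intro a ha b hb
      rw [Set.mem_toFinset] at ha hb
      rw [← (sameBlock_iff_eq hM hG (f x) a).mp ha, ← (sameBlock_iff_eq hM hG (f x) b).mp hb]
    exact Finset.card_le_one.mp hcard ψ (mem_ibrOf.mpr ⟨mem_of_dnum_ne_zero hM hψ, f x,
      mem_blockOf_self _, hψ⟩) x (mem_ibrOf.mpr ⟨x.2, f x, mem_blockOf_self _, hf x⟩)
  have hfinj : Function.Injective f := fun a b h =>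
    Subtype.ext ((honly b a (h ▸ hf a)))
  have hval : ∀ x : ibrF hM G, (f x : G → ℂ) = (dnum hM (f x) x : ℂ) • (x : G → ℂ) := by
    intro x
    funext g
    rw [← res_char_eq hM hG (f x) g, regPart_eq hM (f x), Finset.sum_eq_single (x : G → ℂ)]
    · intro b _ hb
      have : dnum hM (f x) b = 0 := by by_contra h; exact hb (honly x b h)
      rw [this, Nat.cast_zero, zero_smul]
    · exact fun h => absurd x.2 h
  -- the degrees of the irreducible Brauer characters reach the group order
  choose i σ hirr hσ using fun x : ibrF hM G => mem_ibrF.mp x.2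
  let Ψ : MonoidAlgebra (Res M) G →ₗ[Res M] ∀ x, Module.End (Res M) (Fin (i x) → Res M) :=
    LinearMap.pi fun x => (σ x).asAlgebraHom.toLinearMap
  have hΨ : LinearMap.ker Ψ = ⊥ := by
    rw [LinearMap.ker_eq_bot']
    intro r hr
    apply MonoidAlgebra.coeff_injective
    ext h
    have hsum : ∀ χ : IrrCharacter G, ∑ g, r.coeff (h * g) * resI M ((χ : G → ℂ) g) = 0 := by
      intro χ
      have hreg : ∀ g : G, ¬ p ∣ orderOf g := fun g hd => hG (hd.trans (orderOf_dvd_natCard g))
      have hχ : ∀ g, resI M ((χ : G → ℂ) g) = ∑ x : ibrF hM G,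
          (dnum hM χ x : Res M) * LinearMap.trace (Res M) _ (σ x g) := by
        intro g
        let b : ibrF hM G → locRing M := fun x => ⟨_, (resI_brauerFun (σ x) hM (hreg g)).1⟩
        have he : (χ : G → ℂ) g = ((∑ x : ibrF hM G, (dnum hM χ x : locRing M) * b x : locRing M) : ℂ) := by
          rw [← res_char_eq hM hG χ g, regPart_eq hM χ, Finset.sum_apply, AddSubmonoidClass.coe_finsetSum]
          rw [← Finset.sum_coe_sort]
          refine Finset.sum_congr rfl fun x _ => ?_
          simp [b, hσ x]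
        rw [he, resI_coe, map_sum]
        refine Finset.sum_congr rfl fun x _ => ?_
        rw [map_mul, map_natCast, ← (resI_brauerFun (σ x) hM (hreg g)).2, ← resI_coe]
      simp only [hχ, Finset.mul_sum]
      rw [Finset.sum_comm]
      refine Finset.sum_eq_zero fun x _ => ?_
      have h1 : (σ x).asAlgebraHom (MonoidAlgebra.single h⁻¹ (1 : Res M) * r) = 0 := by
        rw [map_mul, show (σ x).asAlgebraHom r = 0 from congrFun hr x, mul_zero]
      have h2 := congrArg (LinearMap.trace (Res M) _) h1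
      rw [asAlgebraHom_eq_sum, map_sum, map_zero] at h2
      simp only [map_smul, smul_eq_mul, MonoidAlgebra.single_mul_apply, inv_inv, one_mul] at h2
      simp only [mul_left_comm (r.coeff _), ← Finset.mul_sum, h2, mul_zero]
    have hδ : ∀ g : G, (∑ χ : IrrCharacter G, (charDegree (χ : G → ℂ) : Res M) * resI M ((χ : G → ℂ) g)) =
        if g = 1 then (Nat.card G : Res M) else 0 := by
      intro g
      let b : IrrCharacter G → locRing M := fun χ =>
        ⟨_, algInt_le_locRing M (char_isIntegral (isCharacter_of_isIrr χ.2) g)⟩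
      have he : ((∑ χ : IrrCharacter G, (charDegree (χ : G → ℂ) : locRing M) * b χ : locRing M) : ℂ) =
          ((if g = 1 then (Nat.card G : locRing M) else 0 : locRing M) : ℂ) := by
        rw [AddSubmonoidClass.coe_finsetSum]
        refine Eq.trans (Finset.sum_congr rfl fun χ _ => ?_) ((sum_degree_mul_apply g).trans ?_)
        · simp [b, CfsgLib.CharBlocks.coe_charDegree_irr]
        · split_ifs <;> simp
      have h := congrArg (res M) (Subtype.ext he)
      rw [map_sum, apply_ite (res M), map_natCast, map_zero] at h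
      rw [← h]
      refine Finset.sum_congr rfl fun χ _ => ?_
      rw [map_mul, map_natCast, ← resI_coe]
    have key : ∑ g, r.coeff (h * g) * (if g = 1 then (Nat.card G : Res M) else 0) = 0 := by
      simp only [← hδ, Finset.mul_sum, mul_left_comm (r.coeff _)]
      rw [Finset.sum_comm]
      simp only [← Finset.mul_sum, hsum, mul_zero, Finset.sum_const_zero]
    simp only [mul_ite, mul_zero, Finset.sum_ite_eq', Finset.mem_univ, if_true, mul_one] at key
    have hne : (Nat.card G : Res M) ≠ 0 := by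
      have : CharP (Res M) p := res_charP M hM
      rwa [Ne, CharP.cast_eq_zero_iff (Res M) p]
    simp only [mul_eq_zero] at key
    simpa using key.resolve_right hne
  have hdim := LinearMap.finrank_le_finrank_of_injective (LinearMap.ker_eq_bot.mp hΨ)
  rw [Module.finrank_eq_card_basis (MonoidAlgebra.basis G (Res M)), Module.finrank_pi_fintype] at hdim
  simp only [Module.finrank_linearMap, Module.finrank_fintype_fun_eq_card, Fintype.card_fin] at hdim
  let d : ibrF hM G → ℕ := fun x => dnum hM (f x) x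
  have hdeg : ∀ x, (f x : G → ℂ) 1 = ((d x * i x : ℕ) : ℂ) := by
    intro x
    rw [congrFun (hval x) 1, Pi.smul_apply, smul_eq_mul, ← hσ x, brauerFun_one (σ x) hM, Nat.cast_mul]
    simp [d, hσ]
  have hsq : ∑ x, d x * i x * (d x * i x) ≤ Fintype.card G := by
    have h1 : ∑ χ : IrrCharacter G, charDegree (χ : G → ℂ) ^ 2 = Fintype.card G := by
      have h := sum_degree_sq (G := G)
      simp only [← CfsgLib.CharBlocks.coe_charDegree_irr] at h
      rw [Nat.card_eq_fintype_card] at h
      exact_mod_cast h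
    rw [← h1, Finset.sum_congr rfl (g := fun x => charDegree (f x : G → ℂ) ^ 2) fun x _ => ?_]
    · rw [← Finset.sum_image (f := fun χ : IrrCharacter G => charDegree (χ : G → ℂ) ^ 2)
        (fun a _ b _ h => hfinj h)]
      exact Finset.sum_le_sum_of_subset (Finset.subset_univ _)
    · have := (CfsgLib.CharBlocks.coe_charDegree_irr (f x)).trans (hdeg x)
      rw [Nat.cast_inj] at this
      rw [this]; ring
  have hd1 : d ⟨φ, hφ⟩ = 1 := by
    have hge : ∀ x, i x * i x ≤ d x * i x * (d x * i x) := fun x =>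
      Nat.mul_le_mul (Nat.le_mul_of_pos_left _ (Nat.pos_of_ne_zero (hf x)))
        (Nat.le_mul_of_pos_left _ (Nat.pos_of_ne_zero (hf x)))
    have heq := (Finset.sum_eq_sum_iff_of_le fun x _ => hge x).mp
      (le_antisymm (Finset.sum_le_sum fun x _ => hge x) (hsq.trans hdim)) ⟨φ, hφ⟩ (Finset.mem_univ _)
    obtain ⟨m, hm, hm'⟩ := ibr_one_pos hM hφ
    have hi : i ⟨φ, hφ⟩ ≠ 0 := fun h => by
      have h1 := brauerFun_one (p := p) (σ ⟨φ, hφ⟩) hM
      rw [hσ] at h1
      change φ 1 = _ at h1
      rw [hm'] at h1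
      simp [h] at h1
      omega
    have h2 : d ⟨φ, hφ⟩ * d ⟨φ, hφ⟩ = 1 := by
      refine Nat.eq_of_mul_eq_mul_right (Nat.mul_pos (Nat.pos_of_ne_zero hi) (Nat.pos_of_ne_zero hi)) ?_
      rw [one_mul]; linarith [heq]
    exact Nat.eq_one_of_mul_eq_one_right h2
  have := hval ⟨φ, hφ⟩
  rw [show dnum hM (f ⟨φ, hφ⟩) φ = 1 from hd1, Nat.cast_one, one_smul] at this
  exact (show (f ⟨φ, hφ⟩ : G → ℂ) = φ from this) ▸ isCharacter_of_isIrr (f ⟨φ, hφ⟩).2

theorem isCharacter_brauerFun (hM : IsPModular p M) (hG : ¬ p ∣ Nat.card G) {V : Type*} [AddCommGroup V]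
    [Module (Res M) V] [FiniteDimensional (Res M) V] (ρ : Representation (Res M) G V) :
    IsCharacter G (brauerFun p M ρ) := by
  obtain ⟨s, hs, hmem⟩ := exists_constituents (p := p) ρ
  rw [← hs]
  clear hs
  induction s using Multiset.induction with
  | empty => rw [Multiset.sum_zero]; exact isCharacter_zero
  | cons a t ih =>
    rw [Multiset.sum_cons]
    obtain ⟨j, σ, h1, h2, -⟩ := hmem a (Multiset.mem_cons_self a t)
    exact isCharacter_add (isCharacter_ibr hM hG (mem_ibrF.mpr ⟨j, σ, h1, h2⟩))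
      (ih fun φ hφ => hmem φ (Multiset.mem_cons_of_mem hφ))

theorem liftRoot_of_dvd (hM : IsPModular p M) {m m' : ℕ} (hd : m' ∣ m) (hm : ¬ p ∣ m) {l : Res M}
    (hl : l ^ m' = 1) : liftRoot M m' l = liftRoot M m l := by
  obtain ⟨k, rfl⟩ := hd
  have hm' : ¬ p ∣ m' := fun h => hm (h.mul_right k)
  obtain ⟨h1, h2⟩ := liftRoot_spec hM hm' hl
  conv_rhs => rw [← h2]
  exact (liftRoot_resI hM hm (by rw [pow_mul, h1, one_pow])).symm

theorem brauerFun_comp (hM : IsPModular p M) {H : Type*} [Group H] [Fintype H] (f : H →* G)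
    (hf : Function.Injective f) {V : Type*} [AddCommGroup V] [Module (Res M) V]
    [FiniteDimensional (Res M) V] (ρ : Representation (Res M) G V) (h : H) :
    brauerFun p M (ρ.comp f : Representation (Res M) H V) h = brauerFun p M ρ (f h) := by
  classical
  by_cases hh : p ∣ orderOf h
  · rw [brauerFun_singular _ hh, brauerFun_singular _ (by rwa [orderOf_injective f hf])]
  rw [brauerFun_regular _ hh, brauerFun_regular _ (by rwa [orderOf_injective f hf])]
  congr 1
  refine Multiset.map_congr rfl fun l hl => ?_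
  have hl' : l ^ pm p H = 1 := pow_of_isRoot (ρ.comp f : Representation (Res M) H V) hM.1 hh hl
  have hdvd : pm p H ∣ pm p G := Nat.ordCompl_dvd_ordCompl_of_dvd (Subgroup.card_dvd_of_injective f hf) p
  exact liftRoot_of_dvd hM hdvd (not_dvd_pm hM.1) hl'

/-- `g ↦ φ(g_{p'})` is a generalized character. -/
theorem isGen_extension (hM : IsPModular p M) {φ : G → ℂ} (hφ : φ ∈ ibrF hM G) :
    IsGeneralizedCharacter G
      (fun g => φ (piPart (p ^ (Nat.card G).factorization p) (pm p G) g)) := by
  classical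
  obtain ⟨j, σ, -, rfl⟩ := mem_ibrF.mp hφ
  have hpm := not_dvd_pm (G := G) hM.1
  have hcop : Nat.Coprime (p ^ (Nat.card G).factorization p) (pm p G) :=
    (hM.1.coprime_iff_not_dvd.mpr hpm).pow_left _
  have hcard : Nat.card G ∣ p ^ (Nat.card G).factorization p * pm p G :=
    (dvd_of_eq (Nat.ordProj_mul_ordCompl_eq_self _ p).symm)
  refine isGen_of_elementary ?_ ?_
  · intro g h
    show brauerFun p M σ _ = brauerFun p M σ _
    rw [piPart_conj, brauerFun_conj]
  · intro E q hq hE
    have := Fintype.ofFinite E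
    have := isNilpotent_of_isElementary hq hE
    have hE' : Nat.card E ∣ p ^ (Nat.card G).factorization p * pm p G :=
      (Subgroup.card_subgroup_dvd_card E).trans hcard
    let Hs := piSubgroup (G := E) hcop hE'
    have := Fintype.ofFinite Hs
    have hHs : ¬ p ∣ Nat.card Hs := fun h => hpm (h.trans (card_piSubgroup_dvd hcop hE'))
    let π : E →* Hs := MonoidHom.mk' (fun e => ⟨piPart (p ^ (Nat.card G).factorization p) (pm p G) e,
      piPart_pow_eq_one (pow_eq_one_of_dvd hE' e)⟩) fun a b => Subtype.ext (piPart_mul hcop hE' a b)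
    let ι : Hs →* G := E.subtype.comp Hs.subtype
    have hι : Function.Injective ι := fun a b h => Subtype.ext (Subtype.ext h)
    have key : (fun e : E => brauerFun p M σ (piPart (p ^ (Nat.card G).factorization p) (pm p G) (e : G))) =
        (brauerFun p M (σ.comp ι : Representation (Res M) Hs _)) ∘ π := by
      funext e
      rw [Function.comp_apply, brauerFun_comp hM ι hι]
      congr 1
    rw [key]
    exact isGen_of_char (isCharacter_comp (isCharacter_brauerFun hM hHs _) π)

theorem eq_sum_block_of_coeff (hM : IsPModular p M) {B : Set (IrrCharacter G)} (hB : IsPBlock M B)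
    [DecidablePred (· ∈ B)]
    {φ : G → ℂ} (hφ : φ ∈ ibrOf hM B) (c : IrrCharacter G → ℂ)
    (hc : φ = ∑ χ : IrrCharacter G, c χ • pRegularPart p (χ : G → ℂ)) :
    φ = ∑ χ ∈ Finset.univ.filter (· ∈ B), c χ • pRegularPart p (χ : G → ℂ) := by
  classical
  have hφF := ibrOf_subset hM B hφ
  have key : ∀ ψ ∈ ibrF hM G,
      (if ψ = φ then (1 : ℂ) else 0) = ∑ χ : IrrCharacter G, c χ * (dnum hM χ ψ : ℂ) := by
    intro ψ hψ
    refine sub_eq_zero.mp (ibrF_independent hM (Finset.Subset.refl _) (c := fun ψ =>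
      (if ψ = φ then (1 : ℂ) else 0) - ∑ χ : IrrCharacter G, c χ * (dnum hM χ ψ : ℂ)) ?_ ψ hψ)
    simp only [sub_smul, Finset.sum_sub_distrib, Finset.sum_smul, mul_smul, ite_smul, one_smul, zero_smul,
      Finset.sum_ite_eq', if_pos hφF]
    rw [Finset.sum_comm]
    simp only [← Finset.smul_sum, ← regPart_eq hM]
    rw [← hc, sub_self]
  have h1 : ∑ χ ∈ Finset.univ.filter (· ∈ B), c χ • pRegularPart p (χ : G → ℂ) = ∑ ψ ∈ ibrF hM G,
      (∑ χ ∈ Finset.univ.filter (· ∈ B), c χ * (dnum hM χ ψ : ℂ)) • ψ := by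
    simp only [Finset.sum_smul, mul_smul]
    rw [Finset.sum_comm]
    simp only [← Finset.smul_sum, ← regPart_eq hM]
  rw [h1, Finset.sum_eq_single φ]
  · rw [Finset.sum_filter_of_ne, ← key φ hφF, if_pos rfl, one_smul]
    intro χ _ hne
    by_contra hχB
    exact hne (by rw [dnum_eq_zero_of_notMem hM hB hφ hχB, Nat.cast_zero, mul_zero])
  · intro ψ hψ hne
    by_cases hψB : ψ ∈ ibrOf hM B
    · rw [Finset.sum_filter_of_ne, ← key ψ hψ, if_neg hne, zero_smul]
      intro χ _ hne'
      by_contra hχB
      exact hne' (by rw [dnum_eq_zero_of_notMem hM hB hψB hχB, Nat.cast_zero, mul_zero])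
    · rw [Finset.sum_eq_zero, zero_smul]
      intro χ hχ
      have : dnum hM χ ψ = 0 := by
        by_contra h; exact hψB (mem_ibrOf.mpr ⟨hψ, χ, (Finset.mem_filter.mp hχ).2, h⟩)
      rw [this, Nat.cast_zero, mul_zero]
  · exact fun h => absurd hφF h

/-- A block Brauer character is an integral combination over the block. -/
theorem exists_int_combination (hM : IsPModular p M) {B : Set (IrrCharacter G)} (hB : IsPBlock M B)
    [DecidablePred (· ∈ B)]
    {φ : G → ℂ} (hφ : φ ∈ ibrOf hM B) :
    ∃ a : IrrCharacter G → ℤ,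
      φ = ∑ χ ∈ Finset.univ.filter (· ∈ B), (a χ : ℂ) • pRegularPart p (χ : G → ℂ) := by
  classical
  have hφF := ibrOf_subset hM B hφ
  have hgen := isGen_extension hM hφF
  choose a ha using fun χ : IrrCharacter G => classInner_gen_int hgen (isGen_of_irr χ.2)
  refine ⟨a, eq_sum_block_of_coeff hM hB hφ (fun χ => (a χ : ℂ)) ?_⟩
  funext g
  simp only [Finset.sum_apply, Pi.smul_apply, smul_eq_mul, pRegularPart_apply]
  by_cases hg : p ∣ orderOf g
  · simp [hg, (ibrF_regular hM hφF).1 g hg]
  · simp only [hg, if_false]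
    have h := congrFun (classFun_eq_sum (isClassFunction_of_isGen hgen)) g
    rw [piPart_eq_self ((hM.1.coprime_iff_not_dvd.mpr (not_dvd_pm (G := G) hM.1)).pow_left _)
      (pow_pm_eq_one hM.1 hg)] at h
    simp only [Finset.sum_apply, Pi.smul_apply, smul_eq_mul, ha] at h
    exact h

end CfsgLib.Modular
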