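import Cfsg.Agent.Lib.Modular.Exact
import Cfsg.Agent.Lib.Blocks.SimpleTrace
import Mathlib.RingTheory.RootsOfUnity.PrimitiveRoots
import Mathlib.RingTheory.RootsOfUnity.Complex

/-!
# Brauer characters

* `resI`, `liftRoot`: roots of unity of order prime to `p` against their residues;
* `brauerFun`: the Brauer character of a representation over the residue field, extended by zero;
* `brauerFun_equiv`, `brauerFun_eq_add`, `resI_brauerFun`, `brauerFun_one`, `brauerFun_conj`.
-/

set_option autoImplicit false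

noncomputable section

namespace CfsgLib.Modular

open Cfsg CfsgLib.Blocks Polynomial

attribute [local instance] CfsgLib.Blocks.resField

variable {M : Ideal AlgInt} [M.IsMaximal]

open Classical in
/-- The residue of a local integer, extended by zero. -/
def resI (M : Ideal AlgInt) [M.IsMaximal] (z : ℂ) : Res M :=
  if h : z ∈ locRing M then res M ⟨z, h⟩ else 0

theorem resI_coe (z : locRing M) : resI M (z : ℂ) = res M z := by
  rw [resI, dif_pos z.2]

theorem root_mem_locRing {m : ℕ} (hm : 0 < m) {ζ : ℂ} (h : ζ ^ m = 1) : ζ ∈ locRing M :=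
  algInt_le_locRing M (IsIntegral.of_pow hm (by rw [h]; exact isIntegral_one))

theorem resI_injOn {p : ℕ} (hM : IsPModular p M) {m : ℕ} (hm : ¬ p ∣ m) {a b : ℂ} (ha : a ^ m = 1)
    (hb : b ^ m = 1) (h : resI M a = resI M b) : a = b := by
  have hm0 : 0 < m := Nat.pos_of_ne_zero fun h0 => hm (h0 ▸ dvd_zero p)
  let a' : AlgInt := ⟨a, IsIntegral.of_pow hm0 (by rw [ha]; exact isIntegral_one)⟩
  let b' : AlgInt := ⟨b, IsIntegral.of_pow hm0 (by rw [hb]; exact isIntegral_one)⟩
  have e1 : resI M a = Ideal.Quotient.mk M a' := by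
    rw [← res_ofInt M a', ← resI_coe]; rfl
  have e2 : resI M b = Ideal.Quotient.mk M b' := by
    rw [← res_ofInt M b', ← resI_coe]; rfl
  rw [e1, e2, Ideal.Quotient.eq] at h
  exact congrArg Subtype.val (rootOfUnity_eq_of_sub_mem M hM hm (a := a') (b := b') ha hb h)

theorem resI_pow {m : ℕ} (hm : 0 < m) {ζ : ℂ} (h : ζ ^ m = 1) : resI M ζ ^ m = 1 := by
  have h1 : (⟨ζ, root_mem_locRing hm h⟩ : locRing M) ^ m = 1 := Subtype.ext h
  rw [show resI M ζ = res M ⟨ζ, root_mem_locRing hm h⟩ from resI_coe ⟨ζ, root_mem_locRing hm h⟩,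
    ← map_pow, h1, map_one]

theorem exists_root_resI {p : ℕ} (hM : IsPModular p M) {m : ℕ} (hm : ¬ p ∣ m) {l : Res M} (hl : l ^ m = 1) :
    ∃ ζ : ℂ, ζ ^ m = 1 ∧ resI M ζ = l := by
  classical
  have hm0 : 0 < m := Nat.pos_of_ne_zero fun h0 => hm (h0 ▸ dvd_zero p)
  have hζ := Complex.isPrimitiveRoot_exp m hm0.ne'
  have hsub : (nthRootsFinset m (1 : ℂ)).image (resI M) ⊆ nthRootsFinset m (1 : Res M) := by
    intro y hy
    obtain ⟨z, hz, rfl⟩ := Finset.mem_image.mp hy
    rw [mem_nthRootsFinset hm0 1] at hz ⊢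
    exact resI_pow hm0 hz
  have hcard : (nthRootsFinset m (1 : Res M)).card ≤ ((nthRootsFinset m (1 : ℂ)).image (resI M)).card := by
    rw [Finset.card_image_of_injOn, hζ.card_nthRootsFinset]
    · rw [nthRootsFinset_def]
      exact (Multiset.toFinset_card_le _).trans (card_nthRoots _ _)
    · intro a ha b hb h
      rw [Finset.mem_coe, mem_nthRootsFinset hm0 1] at ha hb
      exact resI_injOn hM hm ha hb h
  have : l ∈ (nthRootsFinset m (1 : ℂ)).image (resI M) := by
    rw [Finset.eq_of_subset_of_card_le hsub hcard, mem_nthRootsFinset hm0 1]; exact hl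
  obtain ⟨z, hz, hzl⟩ := Finset.mem_image.mp this
  exact ⟨z, (mem_nthRootsFinset hm0 1).mp hz, hzl⟩

open Classical in
/-- The root of unity with a given residue. -/
def liftRoot (M : Ideal AlgInt) [M.IsMaximal] (m : ℕ) (l : Res M) : ℂ :=
  ∑ ζ ∈ nthRootsFinset m (1 : ℂ), if resI M ζ = l then ζ else 0

theorem liftRoot_resI {p : ℕ} (hM : IsPModular p M) {m : ℕ} (hm : ¬ p ∣ m) {ζ : ℂ} (h : ζ ^ m = 1) :
    liftRoot M m (resI M ζ) = ζ := by
  classical
  have hm0 : 0 < m := Nat.pos_of_ne_zero fun h0 => hm (h0 ▸ dvd_zero p)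
  rw [liftRoot, Finset.sum_eq_single ζ, if_pos rfl]
  · exact fun b hb hne => if_neg fun he => hne (resI_injOn hM hm ((mem_nthRootsFinset hm0 1).mp hb) h he)
  · exact fun hn => absurd ((mem_nthRootsFinset hm0 1).mpr h) hn

theorem liftRoot_spec {p : ℕ} (hM : IsPModular p M) {m : ℕ} (hm : ¬ p ∣ m) {l : Res M} (h : l ^ m = 1) :
    liftRoot M m l ^ m = 1 ∧ resI M (liftRoot M m l) = l := by
  obtain ⟨ζ, hζ, rfl⟩ := exists_root_resI hM hm h
  rw [liftRoot_resI hM hm hζ]
  exact ⟨hζ, rfl⟩

variable {G : Type*} [Group G]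

/-- The part of the group order prime to `p`. -/
def pm (p : ℕ) (G : Type*) : ℕ := Nat.card G / p ^ (Nat.card G).factorization p

theorem not_dvd_pm [Finite G] {p : ℕ} (hp : p.Prime) : ¬ p ∣ pm p G :=
  Nat.not_dvd_ordCompl hp Nat.card_pos.ne'

theorem pow_pm_eq_one [Finite G] {p : ℕ} (hp : p.Prime) {g : G} (hg : ¬ p ∣ orderOf g) : g ^ pm p G = 1 := by
  apply orderOf_dvd_iff_pow_eq_one.mp
  have h : orderOf g ∣ p ^ (Nat.card G).factorization p * pm p G :=
    (orderOf_dvd_natCard g).trans (dvd_of_eq (Nat.ordProj_mul_ordCompl_eq_self _ p).symm)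
  exact ((hp.coprime_iff_not_dvd.mpr hg).pow_left _).symm.dvd_of_dvd_mul_left h

open Classical in
/-- The Brauer character, extended by zero to the `p`-singular elements. -/
def brauerFun (p : ℕ) (M : Ideal AlgInt) [M.IsMaximal] {G : Type*} [Group G] {V : Type*} [AddCommGroup V]
    [Module (Res M) V] [FiniteDimensional (Res M) V] (ρ : Representation (Res M) G V) : G → ℂ :=
  fun g => if p ∣ orderOf g then 0 else ((ρ g).charpoly.roots.map (liftRoot M (pm p G))).sum

variable {p : ℕ} {V W : Type*} [AddCommGroup V] [Module (Res M) V] [FiniteDimensional (Res M) V]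
  [AddCommGroup W] [Module (Res M) W] [FiniteDimensional (Res M) W] (ρ : Representation (Res M) G V)

theorem brauerFun_singular {g : G} (hg : p ∣ orderOf g) : brauerFun p M ρ g = 0 := if_pos hg

theorem brauerFun_regular {g : G} (hg : ¬ p ∣ orderOf g) :
    brauerFun p M ρ g = ((ρ g).charpoly.roots.map (liftRoot M (pm p G))).sum := if_neg hg

theorem brauerFun_equiv {σ : Representation (Res M) G W} (e : V ≃ₗ[Res M] W)
    (h : ∀ g v, e (ρ g v) = σ g (e v)) : brauerFun p M ρ = brauerFun p M σ := by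
  funext g
  have : σ g = e.conj (ρ g) := by
    ext w
    rw [LinearEquiv.conj_apply_apply, h, LinearEquiv.apply_symm_apply]
  simp only [brauerFun, this, LinearEquiv.charpoly_conj]

theorem brauerFun_conj (g h : G) : brauerFun p M ρ (h * g * h⁻¹) = brauerFun p M ρ g := by
  have hord : orderOf (h * g * h⁻¹) = orderOf g :=
    orderOf_injective (MulAut.conj h).toMonoidHom (MulAut.conj h).injective g
  let e : V ≃ₗ[Res M] V := LinearEquiv.ofLinearMap (ρ h) (ρ h⁻¹)
    (by rw [← Module.End.mul_eq_comp, ← map_mul, mul_inv_cancel, map_one]; rfl)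
    (by rw [← Module.End.mul_eq_comp, ← map_mul, inv_mul_cancel, map_one]; rfl)
  have : ρ (h * g * h⁻¹) = e.conj (ρ g) := by
    ext v
    rw [LinearEquiv.conj_apply_apply, map_mul, map_mul]; rfl
  simp only [brauerFun, hord, this, LinearEquiv.charpoly_conj]

theorem pow_of_isRoot [Finite G] (hp : p.Prime) {g : G} (hg : ¬ p ∣ orderOf g) {l : Res M}
    (hl : l ∈ (ρ g).charpoly.roots) : l ^ pm p G = 1 := by
  have hroot := (mem_roots'.mp hl).2
  have hdet : LinearMap.det (algebraMap (Res M) (Module.End (Res M) V) l - ρ g) = 0 := by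
    rw [← LinearMap.eval_charpoly]; exact hroot
  obtain ⟨v, hv, hv0⟩ := (Submodule.ne_bot_iff _).mp (LinearMap.bot_lt_ker_of_det_eq_zero hdet).ne'
  rw [LinearMap.mem_ker, LinearMap.sub_apply, Module.algebraMap_end_apply, sub_eq_zero] at hv
  have hpow : ∀ n : ℕ, (ρ g ^ n) v = l ^ n • v := by
    intro n
    induction n with
    | zero => simp
    | succ n ih => rw [pow_succ, Module.End.mul_apply, ← hv, map_smul, ih, smul_smul, pow_succ, mul_comm]
  have h1 := hpow (pm p G)
  rw [← map_pow, pow_pm_eq_one hp hg, map_one, Module.End.one_apply] at h1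
  have h2 : (l ^ pm p G - 1) • v = 0 := by rw [sub_smul, one_smul, ← h1, sub_self]
  exact sub_eq_zero.mp ((smul_eq_zero.mp h2).resolve_right hv0)

theorem infinite_res : Infinite (Res M) :=
  have := res_isAlgClosed M
  IsAlgClosed.instInfinite

theorem brauerFun_eq_add (U : Submodule (Res M) V) (hU : ∀ g, U ≤ U.comap (ρ g)) :
    brauerFun p M ρ = brauerFun p M (subRep ρ U hU) + brauerFun p M (quotRep ρ U hU) := by
  have := infinite_res (M := M)
  funext g
  by_cases hg : p ∣ orderOf g
  · simp [brauerFun_singular, hg]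
  rw [Pi.add_apply, brauerFun_regular _ hg, brauerFun_regular _ hg, brauerFun_regular _ hg,
    charpoly_eq_mul (ρ g) U (hU g),
    roots_mul ((LinearMap.charpoly_monic _).mul (LinearMap.charpoly_monic _)).ne_zero,
    Multiset.map_add, Multiset.sum_add]
  rfl

theorem card_roots_charpoly (f : V →ₗ[Res M] V) : f.charpoly.roots.card = Module.finrank (Res M) V := by
  have := res_isAlgClosed M
  rw [← IsAlgClosed.splits f.charpoly |>.natDegree_eq_card_roots, LinearMap.charpoly_natDegree]

theorem resI_sum_roots {m : ℕ} (hm : 0 < m) (s : Multiset ℂ) (hs : ∀ z ∈ s, z ^ m = 1) :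
    s.sum ∈ locRing M ∧ resI M s.sum = (s.map (resI M)).sum := by
  induction s using Multiset.induction with
  | empty =>
    refine ⟨by rw [Multiset.sum_zero]; exact Subring.zero_mem _, ?_⟩
    rw [Multiset.sum_zero, Multiset.map_zero, Multiset.sum_zero, ← ZeroMemClass.coe_zero (locRing M),
      resI_coe, map_zero]
  | cons a s ih =>
    obtain ⟨h1, h2⟩ := ih fun z hz => hs z (Multiset.mem_cons_of_mem hz)
    have ha := root_mem_locRing (M := M) hm (hs a (Multiset.mem_cons_self a s))
    rw [Multiset.sum_cons, Multiset.map_cons, Multiset.sum_cons, ← h2]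
    refine ⟨Subring.add_mem _ ha h1, ?_⟩
    have e1 := resI_coe (⟨a, ha⟩ : locRing M)
    have e2 := resI_coe (⟨_, h1⟩ : locRing M)
    have e3 := resI_coe ((⟨a, ha⟩ : locRing M) + ⟨_, h1⟩)
    rw [map_add] at e3
    rw [e1, e2]
    exact e3

theorem resI_brauerFun [Finite G] (hM : IsPModular p M) {g : G} (hg : ¬ p ∣ orderOf g) :
    brauerFun p M ρ g ∈ locRing M ∧
      resI M (brauerFun p M ρ g) = LinearMap.trace (Res M) V (ρ g) := by
  have := res_isAlgClosed M
  have hm := not_dvd_pm (G := G) hM.1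
  have hm0 : 0 < pm p G := Nat.pos_of_ne_zero fun h0 => hm (h0 ▸ dvd_zero p)
  rw [brauerFun_regular _ hg]
  obtain ⟨h1, h2⟩ := resI_sum_roots (M := M) hm0 ((ρ g).charpoly.roots.map (liftRoot M (pm p G))) (by
    intro z hz
    obtain ⟨l, hl, rfl⟩ := Multiset.mem_map.mp hz
    exact (liftRoot_spec hM hm (pow_of_isRoot ρ hM.1 hg hl)).1)
  refine ⟨h1, h2.trans ?_⟩
  rw [Multiset.map_map, Multiset.map_congr rfl (g := id) (fun l hl => by
    exact (liftRoot_spec hM hm (pow_of_isRoot ρ hM.1 hg hl)).2), Multiset.map_id]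
  rw [trace_eq_neg_nextCoeff,
    (IsAlgClosed.splits (ρ g).charpoly).nextCoeff_eq_neg_sum_roots_of_monic (LinearMap.charpoly_monic _),
    neg_neg]

theorem brauerFun_one [Finite G] (hM : IsPModular p M) : brauerFun p M ρ 1 = (Module.finrank (Res M) V : ℂ) := by
  have := res_isAlgClosed M
  have hm := not_dvd_pm (G := G) hM.1
  have h1 : ¬ p ∣ orderOf (1 : G) := by rw [orderOf_one]; exact hM.1.not_dvd_one
  rw [brauerFun_regular _ h1]
  have hall : ∀ l ∈ (ρ 1).charpoly.roots, l = 1 := by
    intro l hl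
    rw [map_one, LinearMap.charpoly_one] at hl
    rw [show (X - 1 : (Res M)[X]) = X - C 1 by simp, roots_pow, roots_X_sub_C,
      Multiset.nsmul_singleton] at hl
    exact Multiset.eq_of_mem_replicate hl
  rw [Multiset.map_congr rfl (g := fun _ => (1 : ℂ)) (fun l hl => by
    rw [hall l hl]
    have h2 : resI M (1 : ℂ) = 1 := by
      rw [← OneMemClass.coe_one (locRing M), resI_coe, map_one]
    rw [← h2]
    exact liftRoot_resI hM hm (one_pow _)),
    Multiset.map_const', Multiset.sum_replicate, card_roots_charpoly, nsmul_eq_mul, mul_one]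

end CfsgLib.Modular
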