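import Cfsg.Agent.Lib.Modular.OverCore
import Cfsg.Agent.Lib.BrauerPairs.Stable
import Cfsg.Agent.Lib.BrauerPairs.Principal
import Cfsg.Agent.Lib.Cores.Coprime

/-!
# The block over an invariant character of `O_{p'}` is of principal type

* `existsUnique_pair_over`: one block of each `C_G(R)` induces it.
-/

set_option autoImplicit false

noncomputable section

namespace CfsgLib.Modular

open Cfsg CfsgLib.Blocks CfsgLib.CharNormal CfsgLib.BrauerPairs
open scoped commutatorElement

attribute [local instance] CfsgLib.Blocks.resField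

variable {M : Ideal AlgInt} [M.IsMaximal] {G : Type*} [Group G] [Fintype G] {p : ℕ}

omit [Fintype G] in
/-- A setup from a homomorphism with kernel `K` and a self-centralizing normal `p`-subgroup of the image. -/
theorem isOverSetup_of_hom [Finite G] [Fact p.Prime] {H : Type*} [Group H] [Finite H] (f : G →* H) {K : Subgroup G}
    [K.Normal] (hker : f.ker = K) (hK : ¬ p ∣ Nat.card K) {S : Subgroup H} (hS : IsPGroup p S)
    (hSr : S ≤ f.range) (hc : ∀ x : G, (∀ s ∈ S, f x * s = s * f x) → f x ∈ S)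
    {θ : K → ℂ} (hinv : ∀ g : G, conjFun K g θ = θ) :
    ∃ Q : Subgroup G, IsOverSetup p K (S.comap f) Q θ := by
  classical
  set L := S.comap f with hL
  have hKL : K ≤ L := hker ▸ Subgroup.ker_le_comap f S
  obtain ⟨j, hj⟩ := IsPGroup.iff_card.mp hS
  have hidx : K.relIndex L = p ^ j := by
    rw [← hker, Subgroup.relIndex_ker, hL, Subgroup.map_comap_eq_self hSr, hj]
  obtain ⟨P⟩ : Nonempty (Sylow p L) := inferInstance
  let g : L →* H := f.comp L.subtype
  have hgr : g.range = S := by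
    rw [MonoidHom.range_comp, Subgroup.range_subtype, hL, Subgroup.map_comap_eq_self hSr]
  let Pr := P.mapSurjective (f := g.rangeRestrict) g.rangeRestrict_surjective
  have htop : (Pr : Subgroup g.range) = ⊤ :=
    (Pr.3 ((show IsPGroup p g.range by rw [hgr]; exact hS).to_subgroup ⊤) le_top).symm
  refine ⟨(P : Subgroup L).map L.subtype, hKL, hK, ⟨j, hidx⟩, hinv, P.2.map _, Subgroup.map_subtype_le _,
    fun x hx => hc x fun s hs => ?_⟩
  obtain ⟨l, hl, hls⟩ := (htop.symm ▸ Subgroup.mem_top _ :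
    (⟨s, hgr.symm ▸ hs⟩ : g.range) ∈ (Pr : Subgroup g.range))
  have hls' : f (l : G) = s := congrArg Subtype.val hls
  have h1 : f ⁅x, (l : G)⁆ = 1 := by
    rw [← MonoidHom.mem_ker, hker]; exact hx _ ⟨l, hl, rfl⟩
  rw [map_commutatorElement, hls'] at h1
  exact commutatorElement_eq_one_iff_mul_comm.mp h1

variable {K L Q : Subgroup G} [hKn : K.Normal] [hLn : L.Normal] [Fintype K] [Fintype L]
  {θ : IrrCharacter K}

omit [Fintype G] hKn hLn [Fintype L] in
theorem isPBlock_singleton_of_not_dvd (hM : IsPModular p M) (hK : ¬ p ∣ Nat.card K) :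
    IsPBlock M ({θ} : Set (IrrCharacter K)) :=
  ⟨θ, ((blockOf_eq_singleton hM θ fun hd => hK (hd.trans (Nat.div_dvd_of_dvd
    (CfsgLib.CharBlocks.charDegree_dvd_card θ.2)))).symm)⟩

/-- The block idempotent is the idempotent of `θ`. -/
theorem IsOverSetup.gidemTop_eq_gidem (hM : IsPModular p M) (h : IsOverSetup p K L Q (θ : K → ℂ)) :
    gidemTop M {χ : IrrCharacter G | classInner (fun k : K => (χ : G → ℂ) k) (θ : K → ℂ) ≠ 0} =
      gidem M K ({θ} : Set (IrrCharacter K)) := by
  classical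
  set B := {χ : IrrCharacter G | classInner (fun k : K => (χ : G → ℂ) k) (θ : K → ℂ) ≠ 0}
  have hB : IsPBlock M B := h.isPBlock_over hM
  have hinv : ∀ g : G, conjFun K g (blockCoeff ({θ} : Set (IrrCharacter K))) =
      blockCoeff ({θ} : Set (IrrCharacter K)) :=
    blockCoeff_conjFun (fun g φ hφ => by
      rw [Set.mem_singleton_iff] at hφ ⊢; subst hφ; exact Subtype.ext (h.inv g))
  obtain ⟨a, hac, hsupp, hcoe, hres⟩ := exists_central_ext hinv
  have ha : (idem hB : Zint M G).1 = a := by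
    refine eq_of_omega_eq ((mem_center_iff _).mpr (mem_Zint_iff.mp (idem hB).2).2) hac fun χ => ?_
    show omega (χ : G → ℂ) (blockElt B) = _
    rw [omega_blockElt]
    obtain ⟨φ, hφ⟩ := exists_over (N := K) χ.2
    rw [omega_eq_omega_resCA_of_over χ.2 hφ hac hsupp, hres]
    show _ = omega (φ : K → ℂ) (blockElt ({θ} : Set (IrrCharacter K)))
    rw [omega_blockElt]
    refine if_congr ?_ rfl rfl
    show classInner (fun k : K => (χ : G → ℂ) k) (θ : K → ℂ) ≠ 0 ↔ φ ∈ ({θ} : Set (IrrCharacter K))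
    rw [Set.mem_singleton_iff]
    refine ⟨fun hθ => ?_, fun e => e ▸ hφ⟩
    obtain ⟨g, hg⟩ := exists_conj_of_constituents K χ.2 θ.2 φ.2 hθ hφ
    exact Subtype.ext (hg.symm.trans (h.inv g))
  refine ext_coeff fun g => ?_
  rw [gidemTop, gidem, coeff_ofFun, coeff_ofFun]
  congr 1
  have hg : blockCoeff B g = a.coeff g := by
    rw [← ha]
    show _ = (blockElt B).coeff g
    rw [blockElt, coeff_ofFun]
  rw [hg, subgroupBlockCoeff]
  split_ifs with hgK
  · exact hcoe ⟨g, hgK⟩
  · exact hsupp g hgK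

omit hLn [Fintype L] in
/-- A central element of a block with one character acts on its idempotent as a scalar. -/
theorem exists_smul_gidem (hM : IsPModular p M) (hK : ¬ p ∣ Nat.card K) {z : KG M G}
    (hz : CentralIn K z) : ∃ c : Res M, gidem M K ({θ} : Set (IrrCharacter K)) * z =
      c • gidem M K ({θ} : Set (IrrCharacter K)) := by
  classical
  have hb := isPBlock_singleton_of_not_dvd (θ := θ) hM hK
  obtain ⟨y, rfl, hy⟩ := hz.exists_eq_emb
  obtain ⟨a, rfl⟩ := exists_lift hy
  refine ⟨bomega θ a, ?_⟩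
  rw [gidem_eq_emb hb, ← map_mul, ridem, ← map_mul]
  have he : idem hb * a = scal M (zomega θ a) * idem hb := Zint_ext fun φ => by
    rw [map_mul, map_mul, zomega_idem hb, zomega_scal]
    split_ifs with hφ
    · rw [Set.mem_singleton_iff] at hφ; subst hφ; rw [one_mul, mul_one]
    · rw [zero_mul, mul_zero]
  rw [he, map_mul]
  refine ext_coeff fun g => ?_
  rw [MonoidAlgebra.coeff_smul, Finsupp.smul_apply, smul_eq_mul]
  by_cases hg : g ∈ K
  · rw [show g = ((⟨g, hg⟩ : K) : G) from rfl, coeff_emb, coeff_emb, ← map_mul, coeff_red]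
    rw [rcoeff_scal_mul]
    rfl
  · rw [coeff_emb_of_notMem K _ hg, coeff_emb_of_notMem K _ hg, mul_zero]

/-- **Principal type.** -/
theorem IsOverSetup.existsUnique_pair (hM : IsPModular p M) [Fact p.Prime]
    (h : IsOverSetup p K L Q (θ : K → ℂ)) {R : Subgroup G} (hR : IsPGroup p R) {H : Type*} [Group H]
    [Finite H] (f : G →* H) (hker : f.ker = K) {S : Subgroup H} (hS : IsPGroup p S)
    (hSr : S ≤ (Cen R).map f) (hSn : ∀ x ∈ Cen R, ∀ s ∈ S, f x * s * (f x)⁻¹ ∈ S)
    (hc : ∀ x ∈ Cen R, (∀ s ∈ S, f x * s = s * f x) → f x ∈ S) :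
    ∃! e : Set (IrrCharacter (Subgroup.centralizer (R : Set G))),
      IsInducedBlock M (Subgroup.centralizer (R : Set G)) e
        {χ : IrrCharacter G | classInner (fun k : K => (χ : G → ℂ) k) (θ : K → ℂ) ≠ 0} := by
  classical
  set B := {χ : IrrCharacter G | classInner (fun k : K => (χ : G → ℂ) k) (θ : K → ℂ) ≠ 0}
  have hB : IsPBlock M B := h.isPBlock_over hM
  set C := Subgroup.centralizer (R : Set G) with hC
  let _ : Fintype C := Fintype.ofFinite _
  set e := gidem M K ({θ} : Set (IrrCharacter K)) with he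
  have htop := h.gidemTop_eq_gidem hM
  set x := br R (gidemTop M B) with hx
  set x' : KG M C := red (resIn C (idem hB)) with hx'
  have hxx' : x = emb C x' := by
    rw [hx, gidemTop_eq hB]; exact br_red_eq_emb R (idem hB)
  have hid : x' * x' = x' := by
    rw [hx', ← map_mul, ← red_resIn_mul hM hR, idem_mul_self]
  have hcen : ∀ g k : C, x'.coeff (k * g * k⁻¹) = x'.coeff g := by
    intro g k
    rw [hx', coeff_red, coeff_red, rcoeff_resIn, rcoeff_resIn, Subgroup.coe_mul, Subgroup.coe_mul,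
      Subgroup.coe_inv]
    exact congrArg (res M) (Subtype.ext ((mem_Zint_iff.mp (idem hB).2).2 g k))
  have hne : x' ≠ 0 := by
    intro h0
    obtain ⟨P, hP⟩ := hR.exists_le_sylow
    exact br_ne_zero_mono hP (br_gidemTop_ne_zero hB ((h.isDefectGroup_over hM).1 P))
      (by rw [← hx, hxx', h0, map_zero])
  set K' := K.subgroupOf C with hK'
  let _ : Fintype K' := Fintype.ofFinite _
  have hK'p : ¬ p ∣ Nat.card K' := fun hd => h.not_dvd (hd.trans
    (Subgroup.card_dvd_of_injective (C.subtype.subgroupComap K) fun a b hab => by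
      have := congrArg Subtype.val hab
      exact Subtype.ext (Subtype.ext this)))
  have hsupp : ∀ g : C, g ∉ K' → x'.coeff g = 0 := by
    intro g hg
    rw [← coeff_emb C x' g, ← hxx', hx, htop, coeff_br, if_pos g.2, gidem, coeff_ofFun,
      subgroupBlockCoeff, dif_neg (fun h' : (g : G) ∈ K => hg h'), resD_zero]
  -- central elements of `k[K ∩ C]` act on `x'` by scalars
  have hprim : ∀ z : KG M C, CentralIn K' z → ∃ c : Res M, x' * z = c • x' := by
    intro z hz
    let P : G → K → Prop := fun g k => (k : G) * g * (k : G)⁻¹ ∈ C ∧ g ∈ K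
    let zh : KG M G := ofFun fun g => if hg : ∃ k, P g k then
      z.coeff ⟨_, hg.choose_spec.1⟩ else 0
    have hval : ∀ g k (hk : P g k), zh.coeff g = z.coeff ⟨_, hk.1⟩ := by
      intro g k hk
      have hex : ∃ k, P g k := ⟨k, hk⟩
      rw [coeff_ofFun, dif_pos hex]
      obtain ⟨hk0, -⟩ := hex.choose_spec
      set k0 := hex.choose
      -- two points of one class are conjugate by a fixed element
      let a : G := (k0 : G) * g * (k0 : G)⁻¹
      let b : G := (k : G) * g * (k : G)⁻¹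
      let T : Set G := {u | u ∈ K ∧ u * b * u⁻¹ = a}
      have hTne : ((k0 : G) * (k : G)⁻¹) ∈ T := ⟨mul_mem k0.2 (inv_mem k.2), by simp [a, b, mul_assoc]⟩
      let _ : MulAction R T :=
        { smul := fun r u => ⟨(r : G) * u.1 * (r : G)⁻¹, hKn.conj_mem _ u.2.1 _, by
            have ha : (r : G)⁻¹ * a * r = a := by
              rw [mul_assoc, ← Subgroup.mem_centralizer_iff.mp hk0 r r.2, inv_mul_cancel_left]
            have hb : (r : G)⁻¹ * b * r = b := by
              rw [mul_assoc, ← Subgroup.mem_centralizer_iff.mp hk.1 r r.2, inv_mul_cancel_left]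
            calc (r : G) * u.1 * (r : G)⁻¹ * b * ((r : G) * u.1 * (r : G)⁻¹)⁻¹
                = (r : G) * (u.1 * ((r : G)⁻¹ * b * r) * u.1⁻¹) * (r : G)⁻¹ := by group
              _ = (r : G) * a * (r : G)⁻¹ := by rw [hb, u.2.2]
              _ = a := by rw [Subgroup.mem_centralizer_iff.mp hk0 r r.2, mul_inv_cancel_right]⟩
          one_smul := fun u => Subtype.ext (by simp [HSMul.hSMul])
          mul_smul := fun r s u => Subtype.ext (by simp [HSMul.hSMul, mul_assoc]) }
      have hTcard : ¬ p ∣ Nat.card T := by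
        let Z : Subgroup G := K ⊓ Subgroup.centralizer ({b} : Set G)
        have hmemZ : ∀ w, w ∈ Z ↔ w ∈ K ∧ w * b = b * w := fun w => by
          rw [Subgroup.mem_inf, Subgroup.mem_centralizer_singleton_iff]
        let eT : T ≃ Z :=
          { toFun := fun u => ⟨((k0 : G) * (k : G)⁻¹)⁻¹ * u.1, (hmemZ _).mpr
              ⟨mul_mem (inv_mem hTne.1) u.2.1, by
                have e1 := hTne.2
                have e2 := u.2.2
                set w := (k0 : G) * (k : G)⁻¹
                calc w⁻¹ * u.1 * b = w⁻¹ * (u.1 * b * u.1⁻¹) * u.1 := by group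
                  _ = w⁻¹ * (w * b * w⁻¹) * u.1 := by rw [e2, e1]
                  _ = b * (w⁻¹ * u.1) := by group⟩⟩
            invFun := fun w => ⟨(k0 : G) * (k : G)⁻¹ * w.1, mul_mem hTne.1 ((hmemZ _).mp w.2).1, by
                have e1 := hTne.2
                have e2 := ((hmemZ _).mp w.2).2
                set u := (k0 : G) * (k : G)⁻¹
                calc u * w.1 * b * (u * w.1)⁻¹ = u * (w.1 * b) * w.1⁻¹ * u⁻¹ := by group
                  _ = u * b * u⁻¹ := by rw [e2]; group
                  _ = a := e1⟩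
            left_inv := fun u => Subtype.ext (by simp [mul_assoc])
            right_inv := fun w => Subtype.ext (by simp [mul_assoc]) }
        rw [Nat.card_congr eT]
        exact fun hd => h.not_dvd (hd.trans (Subgroup.card_dvd_of_le inf_le_left))
      obtain ⟨u, hu⟩ := hR.nonempty_fixed_point_of_prime_not_dvd_card T hTcard
      have huC : u.1 ∈ C := Subgroup.mem_centralizer_iff.mpr fun r hr => by
        have h1 := congrArg Subtype.val (hu ⟨r, hr⟩)
        change r * u.1 * r⁻¹ = u.1 at h1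
        calc r * u.1 = r * u.1 * r⁻¹ * r := by rw [inv_mul_cancel_right]
          _ = u.1 * r := by rw [h1]
      have hfx := (isFixed_iff.mp hz.2) (⟨u.1, huC⟩ : C) (Subgroup.mem_subgroupOf.mpr u.2.1) ⟨b, hk.1⟩
      refine Eq.trans ?_ hfx
      exact congrArg _ (Subtype.ext u.2.2.symm)
    have hK0 : ∀ g, g ∉ K → zh.coeff g = 0 := fun g hg => by
      rw [coeff_ofFun, dif_neg fun ⟨k, hk⟩ => hg hk.2]
    have hfixK : IsFixed K zh := by
      refine isFixed_iff.mpr fun u hu g => ?_
      by_cases hex : ∃ k, P g k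
      · obtain ⟨k, hk⟩ := hex
        let k' : K := ⟨(k : G) * u⁻¹, mul_mem k.2 (inv_mem hu)⟩
        have e1 : (k' : G) * (u * g * u⁻¹) * (k' : G)⁻¹ = (k : G) * g * (k : G)⁻¹ := by
          simp [k', mul_assoc]
        have hk' : P (u * g * u⁻¹) k' := ⟨e1 ▸ hk.1, mul_mem (mul_mem hu hk.2) (inv_mem hu)⟩
        rw [hval _ _ hk', hval _ _ hk]
        exact congrArg _ (Subtype.ext e1)
      · have hex' : ¬ ∃ k, P (u * g * u⁻¹) k := by
          rintro ⟨k, hk⟩
          refine hex ⟨⟨(k : G) * u, mul_mem k.2 hu⟩, ?_, ?_⟩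
          · simpa [mul_assoc] using hk.1
          · simpa [mul_assoc] using mul_mem (mul_mem (inv_mem hu) hk.2) hu
        rw [coeff_ofFun, coeff_ofFun, dif_neg hex', dif_neg hex]
    have hfixR : IsFixed R zh := by
      refine isFixed_iff.mpr fun r hr g => ?_
      by_cases hex : ∃ k, P g k
      · obtain ⟨k, hk⟩ := hex
        let k' : K := ⟨r * k * r⁻¹, hKn.conj_mem _ k.2 r⟩
        have e0 : r * ((k : G) * g * (k : G)⁻¹) * r⁻¹ = (k : G) * g * (k : G)⁻¹ := by
          rw [Subgroup.mem_centralizer_iff.mp hk.1 r hr, mul_inv_cancel_right]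
        have e1 : (k' : G) * (r * g * r⁻¹) * (k' : G)⁻¹ = (k : G) * g * (k : G)⁻¹ := by
          rw [← e0]; simp [k', mul_assoc]
        have hk' : P (r * g * r⁻¹) k' := ⟨e1 ▸ hk.1, hKn.conj_mem _ hk.2 r⟩
        rw [hval _ _ hk', hval _ _ hk]
        exact congrArg _ (Subtype.ext e1)
      · have hex' : ¬ ∃ k, P (r * g * r⁻¹) k := by
          rintro ⟨k, hk⟩
          let k' : K := ⟨r⁻¹ * k * r, by simpa using hKn.conj_mem _ k.2 r⁻¹⟩
          refine hex ⟨k', ?_, by simpa [mul_assoc] using hKn.conj_mem _ hk.2 r⁻¹⟩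
          have e0 : r⁻¹ * ((k : G) * (r * g * r⁻¹) * (k : G)⁻¹) * r = (k : G) * (r * g * r⁻¹) * (k : G)⁻¹ := by
            rw [mul_assoc r⁻¹, ← Subgroup.mem_centralizer_iff.mp hk.1 r hr, inv_mul_cancel_left]
          have e1 : (k' : G) * g * (k' : G)⁻¹ = (k : G) * (r * g * r⁻¹) * (k : G)⁻¹ := by
            rw [← e0]; simp [k', mul_assoc]
          exact e1 ▸ hk.1
        rw [coeff_ofFun, coeff_ofFun, dif_neg hex', dif_neg hex]
    obtain ⟨c, hc⟩ := exists_smul_gidem (θ := θ) hM h.not_dvd (z := zh) ⟨hK0, hfixK⟩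
    refine ⟨c, emb_injective C ?_⟩
    have hbz : br R zh = emb C z := by
      refine ext_coeff fun g => ?_
      rw [coeff_br]
      by_cases hg : g ∈ C
      · rw [if_pos hg, show (emb C z).coeff g = z.coeff ⟨g, hg⟩ from coeff_emb C z ⟨g, hg⟩]
        by_cases hgK : g ∈ K
        · have hk : P g 1 := ⟨by simpa using hg, hgK⟩
          rw [hval _ _ hk]
          exact congrArg _ (Subtype.ext (by simp))
        · rw [hK0 g hgK, hz.1 ⟨g, hg⟩ (fun hm => hgK hm)]
      · rw [if_neg hg, coeff_emb_of_notMem C _ hg]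
    rw [map_mul, ← hxx', ← hbz, hx, ← br_mul hM hR (isFixed_gidemTop R B) hfixR, htop, hc]
    refine ext_coeff fun g => ?_
    rw [coeff_br, MonoidAlgebra.coeff_smul, Finsupp.smul_apply, smul_eq_mul]
    rw [show emb C (c • x') = c • emb C x' from MonoidAlgebra.mapDomain_smul _ _ _, ← hxx', hx, htop,
      MonoidAlgebra.coeff_smul, Finsupp.smul_apply, coeff_br, smul_eq_mul]
    split_ifs <;> simp
  -- the single character below
  have hxcen : CentralIn K' x' := ⟨hsupp, isFixed_iff.mpr fun u _ y => hcen y u⟩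
  obtain ⟨f₀, hf₀, hx₀⟩ := exists_occurs' hxcen hid hne
  obtain ⟨c, hc0⟩ := hprim _ (centralIn_gidem f₀)
  have hx₀' : x' = gidem M K' f₀ := by
    rw [hx₀] at hc0
    have hc1 : c = 1 := by
      have h1 := gidem_mul_self (H := K') hf₀
      rw [hc0, smul_mul_smul_comm, hid] at h1
      have h2 : c ≠ 0 := fun h2 => gidem_ne_zero hf₀ (by rw [hc0, h2, zero_smul])
      exact mul_left_cancel₀ h2 ((smul_left_injective (Res M) hne h1).trans (mul_one c).symm)
    rw [hc0, hc1, one_smul]
  obtain ⟨θ', hθ'⟩ := IsPBlock.nonempty hf₀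
  have hf₀' : f₀ = {θ'} := isPBlock_eq_of_mem hf₀ (isPBlock_singleton_of_not_dvd hM hK'p) hθ' rfl
  subst hf₀'
  have hinv' : ∀ g : C, conjFun K' g (θ' : K' → ℂ) = θ' := by
    intro g
    have hfix : cjA g (gidem M K' ({θ'} : Set (IrrCharacter K'))) = gidem M K' ({θ'} : Set (IrrCharacter K')) := by
      rw [← hx₀']
      exact ext_coeff fun y => by
        rw [coeff_cjA]
        simpa using hcen y g⁻¹
    have hconj : ∀ y, y ∈ K' ↔ g⁻¹ * y * g ∈ K' := fun y =>
      ⟨fun hy => by simpa using (inferInstance : K'.Normal).conj_mem y hy g⁻¹,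
        fun hy => by simpa [mul_assoc] using (inferInstance : K'.Normal).conj_mem _ hy g⟩
    have h2 := gidem_tblock (M := M) g (H := K') (H' := K') hconj ({θ'} : Set (IrrCharacter K'))
    have h3 := gidem_inj (isPBlock_tblock (conjEquiv g K' K' hconj) hf₀) hf₀
      ((gidem_tblock (M := M) g (H := K') (H' := K') hconj _).trans hfix)
    have h4 : tirr (conjEquiv g K' K' hconj) θ' ∈ ({θ'} : Set (IrrCharacter K')) := by
      rw [← h3]
      exact ⟨θ', rfl, funext fun a => congrArg (θ' : K' → ℂ) ((conjEquiv g K' K' hconj).symm_apply_apply a)⟩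
    funext y
    have h5 := congrFun (congrArg Subtype.val (Set.mem_singleton_iff.mp h4))
      ⟨(g : C) * y * g⁻¹, (inferInstance : K'.Normal).conj_mem _ y.2 g⟩
    refine Eq.trans h5.symm ?_
    show (θ' : K' → ℂ) _ = _
    exact congrArg _ (Subtype.ext (by simp [conjEquiv, mul_assoc]))
  let fC : C →* H := f.comp C.subtype
  have hkC : fC.ker = K' := by
    ext y
    rw [MonoidHom.mem_ker, Subgroup.mem_subgroupOf, ← hker, MonoidHom.mem_ker]
    rfl
  have hSC : S ≤ fC.range := by
    rw [MonoidHom.range_comp, Subgroup.range_subtype]; exact hSr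
  obtain ⟨Q', h'⟩ := isOverSetup_of_hom fC hkC hK'p hS hSC (fun y hy => hc y y.2 hy) hinv'
  have : (S.comap fC).Normal := ⟨fun y hy g => by
    show fC (g * y * g⁻¹) ∈ S
    rw [map_mul, map_mul, map_inv]
    exact hSn g g.2 _ hy⟩
  let _ : Fintype (S.comap fC) := Fintype.ofFinite _
  have hBC := h'.isPBlock_over hM
  set BC := {χ : IrrCharacter C | classInner (fun k : K' => (χ : C → ℂ) k) (θ' : K' → ℂ) ≠ 0}
  have hxBC : x' = ridem hBC := by
    rw [← gidemTop_eq hBC, hx₀']; exact (h'.gidemTop_eq_gidem hM).symm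
  have hiff : ∀ e (he : IsPBlock M e), IsInducedBlock M C e B ↔ x' * ridem he = ridem he := by
    intro e he
    rw [← brauerPairOf_iff_induced hM hR he hB, brauerPairOf_iff hM, gidemTop_eq hB,
      show ridem hB = red (idem hB) from rfl, br_red_eq_emb, gidem_eq_emb he, ← map_mul]
    exact ⟨fun hh => emb_injective C hh.2.2, fun hh => ⟨⟨hR, he⟩, hB, congrArg _ hh⟩⟩
  refine ⟨BC, (hiff BC hBC).mpr (by rw [hxBC, ridem_mul_self]), fun e hind => ?_⟩
  have heb := ((isInducedBlock_iff C).mp hind).1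
  by_contra hne'
  refine ridem_ne_zero heb ?_
  rw [← (hiff e heb).mp hind, hxBC, ridem_mul_of_ne hBC heb (Ne.symm hne')]

/-- **Principal type** at `O_{p'} ≤ O_{p',p}`. -/
theorem existsUnique_pair_core (hM : IsPModular p M) [Fact p.Prime] [Fintype (pPrimeCore p G)]
    {θ : IrrCharacter (pPrimeCore p G)}
    (hinv : ∀ g : G, conjFun (pPrimeCore p G) g (θ : pPrimeCore p G → ℂ) = θ)
    (hCU : Subgroup.centralizer (pCore p (G ⧸ pPrimeCore p G) : Set (G ⧸ pPrimeCore p G)) ≤
      pCore p (G ⧸ pPrimeCore p G)) {R : Subgroup G} (hR : IsPGroup p R) :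
    ∃! e : Set (IrrCharacter (Subgroup.centralizer (R : Set G))),
      IsInducedBlock M (Subgroup.centralizer (R : Set G)) e
        {χ : IrrCharacter G |
          classInner (fun k : pPrimeCore p G => (χ : G → ℂ) k) (θ : pPrimeCore p G → ℂ) ≠ 0} := by
  classical
  set π := QuotientGroup.mk' (pPrimeCore p G) with hπ
  set U := pCore p (G ⧸ pPrimeCore p G) with hU
  have hUp : IsPGroup p U := Cores.isPGroup_pCore p
  obtain ⟨Q, h⟩ := isOverSetup_of_hom π (QuotientGroup.ker_mk' _) (Cores.not_dvd_card_pPrimeCore p)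
    (S := U) hUp (by rw [hπ, QuotientGroup.range_mk']; exact le_top)
    (fun x hx => hCU (Subgroup.mem_centralizer_iff.mpr fun s hs => (hx s hs).symm)) hinv
  have : (U.comap π).Normal := Subgroup.Normal.comap inferInstance _
  let _ : Fintype (U.comap π) := Fintype.ofFinite _
  set C' := (Cen R).map π with hC'
  have hC'eq : C' = Subgroup.centralizer ((R.map π : Subgroup _) : Set (G ⧸ pPrimeCore p G)) :=
    Cores.map_mk'_centralizer_of_coprime hR (Cores.coprime_card_pPrimeCore p)
  set W := C' ⊓ Subgroup.centralizer ((U ⊓ C' : Subgroup _) : Set (G ⧸ pPrimeCore p G)) with hW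
  have hWp : IsPGroup p W := by
    have hsub : Cores.pPrimeElemClosure p W ≤ U := by
      refine le_trans ?_ hCU
      refine Cores.axb_le_centralizer (P := R.map π) (Q := U) (hR.map π) hUp
        (Subgroup.normalizer_eq_top (H := U) ▸ le_top) (Subgroup.normalizer_eq_top (H := U) ▸ le_top) ?_ ?_ ?_
      · exact le_antisymm (Cores.pPrimeElemClosure_le p _) (by
          rw [Cores.pPrimeElemClosure]
          refine (Subgroup.closure_le _).mpr ?_
          rintro w ⟨hw, hw'⟩
          exact Cores.mem_pPrimeElemClosure (Cores.mem_pPrimeElemClosure hw hw') hw')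
      · exact (Cores.pPrimeElemClosure_le p W).trans (inf_le_left.trans hC'eq.le)
      · rw [← hC'eq]
        exact (Cores.pPrimeElemClosure_le p W).trans inf_le_right
    intro w
    obtain ⟨a, b, hab, -, hb, ⟨k, hk⟩, hbp⟩ := Cores.exists_pow_mul_pow p (w : G ⧸ pPrimeCore p G)
    have hbW : b ∈ W := (Subgroup.zpowers_le.mpr w.2) hb
    obtain ⟨n, hn⟩ := IsPGroup.iff_orderOf.mp hUp ⟨b, hsub (Cores.mem_pPrimeElemClosure hbW hbp)⟩
    rw [← Subgroup.orderOf_coe] at hn
    have hb1 : b = 1 := orderOf_eq_one_iff.mp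
      (Nat.eq_one_of_dvd_coprimes (hbp.pow_right n) dvd_rfl hn.dvd)
    refine ⟨k, Subtype.ext ?_⟩
    rw [SubmonoidClass.coe_pow, hab, hb1, mul_one, ← hk, pow_orderOf_eq_one]
    rfl
  set S := (U ⊓ C') ⊔ W with hS
  have hn : W ≤ Subgroup.normalizer ((U ⊓ C' : Subgroup _) : Set (G ⧸ pPrimeCore p G)) :=
    inf_le_right.trans (Subgroup.centralizer_le_normalizer _)
  have hnC : ∀ y ∈ C', ∀ s ∈ S, y * s * y⁻¹ ∈ S := by
    intro y hy s hs
    have h1 : ∀ u ∈ U ⊓ C', y * u * y⁻¹ ∈ U ⊓ C' := fun u hu =>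
      ⟨(inferInstance : U.Normal).conj_mem _ hu.1 y, C'.mul_mem (C'.mul_mem hy hu.2) (C'.inv_mem hy)⟩
    have h1' : ∀ u ∈ U ⊓ C', y⁻¹ * u * y ∈ U ⊓ C' := fun u hu =>
      ⟨by simpa using (inferInstance : U.Normal).conj_mem _ hu.1 y⁻¹,
        C'.mul_mem (C'.mul_mem (C'.inv_mem hy) hu.2) hy⟩
    have h2 : ∀ w ∈ W, y * w * y⁻¹ ∈ W := fun w hw =>
      ⟨C'.mul_mem (C'.mul_mem hy hw.1) (C'.inv_mem hy), Subgroup.mem_centralizer_iff.mpr fun u hu => by
        have := Subgroup.mem_centralizer_iff.mp hw.2 _ (h1' u hu)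
        calc u * (y * w * y⁻¹) = y * ((y⁻¹ * u * y) * w) * y⁻¹ := by group
          _ = y * (w * (y⁻¹ * u * y)) * y⁻¹ := by rw [this]
          _ = (y * w * y⁻¹) * u := by group⟩
    have hle : S.map (MulAut.conj y).toMonoidHom ≤ S := by
      rw [hS, Subgroup.map_sup]
      refine sup_le (le_trans ?_ le_sup_left) (le_trans ?_ le_sup_right)
      · rintro _ ⟨u, hu, rfl⟩; exact h1 u hu
      · rintro _ ⟨u, hu, rfl⟩; exact h2 u hu
    exact hle ⟨s, hs, rfl⟩
  refine h.existsUnique_pair hM hR π (QuotientGroup.ker_mk' _) (S := S)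
    ((hUp.to_le inf_le_left).to_sup_of_normal_left' hWp hn) (sup_le inf_le_right inf_le_left)
    (fun x hx s hs => hnC _ ⟨x, hx, rfl⟩ s hs) (fun x hx hxc => ?_)
  exact Subgroup.mem_sup_right ⟨⟨x, hx, rfl⟩, Subgroup.mem_centralizer_iff.mpr fun s hs =>
    (hxc s (Subgroup.mem_sup_left hs)).symm⟩

end CfsgLib.Modular
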