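import Mathlib.LinearAlgebra.Charpoly.ToMatrix
import Mathlib.LinearAlgebra.Matrix.Charpoly.Eigs
import Mathlib.LinearAlgebra.Determinant
import Mathlib.LinearAlgebra.Trace
import Mathlib.RepresentationTheory.Irreducible

/-!
# Characteristic polynomials and traces along invariant subspaces

* `charpoly_eq_mul`, `trace_eq_add`: multiplicativity along an invariant subspace;
* `subRep`, `quotRep`: a representation on an invariant subspace and on the quotient;
* `exists_invariant_of_not_irreducible`: a reducible representation has a proper invariant subspace.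
-/

set_option autoImplicit false

noncomputable section

namespace CfsgLib.Modular

open Polynomial

variable {k : Type*} [Field k] {V : Type*} [AddCommGroup V] [Module k V] [FiniteDimensional k V]

theorem charpoly_eq_mul [Infinite k] (e : V →ₗ[k] V) (W : Submodule k V) (he : W ≤ W.comap e) :
    e.charpoly = (e.restrict he).charpoly * (W.mapQ W e he).charpoly := by
  refine Polynomial.funext fun t => ?_
  rw [eval_mul, LinearMap.eval_charpoly, LinearMap.eval_charpoly, LinearMap.eval_charpoly]
  have he' : W ≤ W.comap (algebraMap k (Module.End k V) t - e) := fun v hv => by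
    rw [Submodule.mem_comap, LinearMap.sub_apply, Module.algebraMap_end_apply]
    exact W.sub_mem (W.smul_mem _ hv) (he hv)
  rw [LinearMap.det_eq_det_mul_det W _ he']
  congr 2
  all_goals (ext v; simp [Module.algebraMap_end_apply])

theorem trace_eq_neg_nextCoeff (e : V →ₗ[k] V) : LinearMap.trace k V e = -e.charpoly.nextCoeff := by
  rw [← LinearMap.charpoly_toMatrix e (Module.finBasis k V),
    LinearMap.trace_eq_matrix_trace k (Module.finBasis k V), Matrix.trace_eq_neg_charpoly_nextCoeff]

theorem trace_eq_add [Infinite k] (e : V →ₗ[k] V) (W : Submodule k V) (he : W ≤ W.comap e) :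
    LinearMap.trace k V e =
      LinearMap.trace k W (e.restrict he) + LinearMap.trace k (V ⧸ W) (W.mapQ W e he) := by
  rw [trace_eq_neg_nextCoeff, trace_eq_neg_nextCoeff, trace_eq_neg_nextCoeff, charpoly_eq_mul e W he,
    (LinearMap.charpoly_monic _).nextCoeff_mul (LinearMap.charpoly_monic _)]
  ring

variable {G : Type*} [Group G] (ρ : Representation k G V) (W : Submodule k V)

omit [FiniteDimensional k V] in
/-- The representation on an invariant subspace. -/
def subRep (hW : ∀ g, W ≤ W.comap (ρ g)) : Representation k G W where
  toFun g := (ρ g).restrict (hW g)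
  map_one' := by ext v; simp
  map_mul' a b := by ext v; simp

omit [FiniteDimensional k V] in
/-- The representation on the quotient by an invariant subspace. -/
def quotRep (hW : ∀ g, W ≤ W.comap (ρ g)) : Representation k G (V ⧸ W) where
  toFun g := W.mapQ W (ρ g) (hW g)
  map_one' := by ext v; simp
  map_mul' a b := by ext v; simp

omit [FiniteDimensional k V] in
/-- A reducible nonzero representation has a proper nonzero invariant subspace. -/
theorem exists_invariant_of_not_irreducible [Nontrivial V] (h : ¬ ρ.IsIrreducible) :
    ∃ W : Submodule k V, W ≠ ⊥ ∧ W ≠ ⊤ ∧ ∀ g, W ≤ W.comap (ρ g) := by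
  by_contra hne
  push Not at hne
  refine h
    { exists_pair_ne := ⟨⊥, ⊤, fun e => bot_ne_top (congrArg Subrepresentation.toSubmodule e)⟩
      eq_bot_or_eq_top := fun U => ?_ }
  by_cases hb : U.toSubmodule = ⊥
  · exact Or.inl (Subrepresentation.toSubmodule_injective hb)
  by_cases ht : U.toSubmodule = ⊤
  · exact Or.inr (Subrepresentation.toSubmodule_injective ht)
  obtain ⟨g, hg⟩ := hne U.toSubmodule hb ht
  exact absurd (fun v hv => U.apply_mem_toSubmodule g hv) hg

omit [FiniteDimensional k V] in
theorem finrank_sub_lt [FiniteDimensional k V] {W : Submodule k V} (hb : W ≠ ⊥) (ht : W ≠ ⊤) :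
    Module.finrank k W < Module.finrank k V ∧ Module.finrank k (V ⧸ W) < Module.finrank k V := by
  refine ⟨Submodule.finrank_lt ht, ?_⟩
  have h1 := Submodule.finrank_quotient_add_finrank W
  have h2 : 0 < Module.finrank k W := Nat.pos_of_ne_zero fun h => hb (Submodule.finrank_eq_zero.mp h)
  omega

end CfsgLib.Modular
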