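import Cfsg.Agent.Lib.Modular.Valuation
import Cfsg.Agent.Lib.Modular.Exact
import Cfsg.Agent.Lib.CharBlocks.Degree
import Cfsg.Agent.Lib.Char.Regular
import Mathlib.RepresentationTheory.Character

/-!
# Realising irreducible characters over the local integers
-/

set_option autoImplicit false

noncomputable section

namespace CfsgLib.Modular

open Cfsg CfsgLib.Blocks CfsgLib.Char
open scoped ComplexConjugate

variable {G : Type*} [Group G] [Fintype G]

instance : IsAlgClosed Alg := (algebraicClosure.isAlgClosure ℚ ℂ).isAlgClosed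

theorem exists_fin_rep {V : Type*} [AddCommGroup V] [Module Alg V] [FiniteDimensional Alg V]
    (σ : Representation Alg G V) (e : G → Alg) (h : ∑ g, e g * σ.character g ≠ 0) :
    ∃ τ : Representation Alg G (Fin (Module.finrank Alg V) → Alg), ∑ g, e g * τ.character g ≠ 0 := by
  let E := (Module.finBasis Alg V).equivFun
  let τ : Representation Alg G (Fin (Module.finrank Alg V) → Alg) :=
    { toFun := fun g => E.conj (σ g)
      map_one' := by rw [map_one]; exact E.conj_id
      map_mul' := fun a b => by rw [map_mul, Module.End.mul_eq_comp, E.conj_comp]; rfl }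
  refine ⟨τ, ?_⟩
  convert h using 3 with g
  exact LinearMap.trace_conj' (σ g) E

theorem exists_alg_rep (χ : IrrCharacter G) :
    ∃ (n : ℕ) (σ : Representation Alg G (Fin n → Alg)), ∀ g, ((σ.character g : Alg) : ℂ) = (χ : G → ℂ) g := by
  classical
  have hc := isCharacter_of_isIrr χ.2
  have hci : ∀ g : G, IsIntegral ℤ (conj ((χ : G → ℂ) g)) := fun g => by
    rw [← char_inv hc]; exact char_isIntegral hc _
  let e : G → Alg := fun g => ⟨conj ((χ : G → ℂ) g), mem_alg_of_isIntegral (hci g)⟩
  let P : ℕ → Prop := fun n => ∃ σ : Representation Alg G (Fin n → Alg), ∑ g, e g * σ.character g ≠ 0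
  have hex : ∃ n, P n := by
    let R : Representation Alg G (G → Alg) :=
      { toFun := fun g => LinearMap.funLeft Alg Alg (fun x => x * g)
        map_one' := by ext f x; simp [LinearMap.funLeft_apply]
        map_mul' := fun a b => by ext f x; simp [LinearMap.funLeft_apply, mul_assoc] }
    refine ⟨_, exists_fin_rep R e ?_⟩
    have hR : ∀ g, R.character g = if g = 1 then (Fintype.card G : Alg) else 0 := by
      intro g
      rw [Representation.character, LinearMap.trace_eq_matrix_trace Alg (Pi.basisFun Alg G), Matrix.trace]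
      simp only [Matrix.diag_apply, LinearMap.toMatrix_apply, Pi.basisFun_repr, Pi.basisFun_apply]
      show ∑ x, (Pi.single x (1 : Alg) : G → Alg) (x * g) = _
      simp only [Pi.single_apply, mul_eq_left]
      rw [Finset.sum_const, Finset.card_univ, nsmul_eq_mul, mul_ite, mul_one, mul_zero]
    simp only [hR, mul_ite, mul_zero, Finset.sum_ite_eq', Finset.mem_univ, if_true]
    refine mul_ne_zero (fun h => irr_one_ne_zero χ.2 ?_) (Nat.cast_ne_zero.mpr Fintype.card_ne_zero)
    have h1 : conj ((χ : G → ℂ) 1) = 0 := congrArg Subtype.val h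
    exact (map_eq_zero _).mp h1
  obtain ⟨σ, hσ⟩ := Nat.find_spec hex
  have hirr : σ.IsIrreducible := by
    have hnt : Nontrivial (Fin (Nat.find hex) → Alg) := by
      by_contra hnt
      have := not_nontrivial_iff_subsingleton.mp hnt
      exact hσ (Finset.sum_eq_zero fun g _ => by
        rw [Representation.character, Subsingleton.elim (σ g) 0, map_zero, mul_zero])
    by_contra hni
    obtain ⟨W, hb, ht, hW⟩ := exists_invariant_of_not_irreducible σ hni
    obtain ⟨h1, h2⟩ := finrank_sub_lt hb ht
    rw [Module.finrank_fintype_fun_eq_card, Fintype.card_fin] at h1 h2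
    have hadd : ∀ g, σ.character g = (subRep σ W hW).character g + (quotRep σ W hW).character g :=
      fun g => trace_eq_add (σ g) W (hW g)
    by_cases hs : ∑ g, e g * (subRep σ W hW).character g = 0
    · refine Nat.find_min hex h2 (exists_fin_rep (quotRep σ W hW) e ?_)
      simpa [hadd, mul_add, Finset.sum_add_distrib, hs] using hσ
    · exact Nat.find_min hex h1 (exists_fin_rep _ e hs)
  let ψ : G → ℂ := fun g => ((σ.character g : Alg) : ℂ)
  let f : Alg →+* ℂ := (algebraMap Alg ℂ)
  let ρ : Representation ℂ G (Fin (Nat.find hex) → ℂ) :=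
    { toFun := fun g => Matrix.toLin' ((LinearMap.toMatrix' (σ g)).map f)
      map_one' := by simp [Module.End.one_eq_id, Matrix.map_one]
      map_mul' := fun a b => by
        rw [map_mul, Module.End.mul_eq_comp, LinearMap.toMatrix'_comp, Matrix.map_mul, Matrix.toLin'_mul]
        rfl }
  have hψ : IsCharacter G ψ := by
    refine ⟨_, ρ, funext fun g => ?_⟩
    show LinearMap.trace ℂ _ (Matrix.toLin' ((LinearMap.toMatrix' (σ g)).map f)) = _
    rw [Matrix.trace_toLin'_eq, show ((LinearMap.toMatrix' (σ g)).map f).trace = f (LinearMap.toMatrix' (σ g)).trace from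
      (AddMonoidHom.map_trace f.toAddMonoidHom (LinearMap.toMatrix' (σ g))).symm]
    show f ((LinearMap.toMatrix' (σ g)).trace) = f (σ.character g)
    congr 1
    rw [Representation.character, LinearMap.trace_eq_matrix_trace Alg (Pi.basisFun Alg _),
      LinearMap.toMatrix_eq_toMatrix']
  have hnorm : classInner ψ ψ = 1 := by
    have : Invertible (Nat.card G : Alg) :=
      invertibleOfNonzero (Nat.cast_ne_zero.mpr Nat.card_pos.ne')
    have h := congrArg f (Representation.char_orthonormal σ σ)
    rw [if_pos ⟨Representation.Equiv.refl σ⟩, map_mul, map_inv₀, map_natCast, map_sum,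
      map_one] at h
    rw [classInner_def, ← h]
    refine congrArg _ (Finset.sum_congr rfl fun g _ => ?_)
    rw [map_mul, ← char_inv hψ]
    rfl
  have hψirr := irr_of_norm_one hψ hnorm
  have hne : classInner ψ (χ : G → ℂ) ≠ 0 := by
    intro h0
    apply hσ
    apply Subtype.ext
    have h1 := card_mul_classInner ψ (χ : G → ℂ)
    rw [h0, mul_zero] at h1
    rw [IntermediateField.coe_sum, IntermediateField.coe_zero, h1]
    exact Finset.sum_congr rfl fun g _ => by
      show conj ((χ : G → ℂ) g) * ψ g = ψ g * conj ((χ : G → ℂ) g)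
      ring
  have heq : ψ = (χ : G → ℂ) := by
    by_contra hh
    exact hne (classInner_irr_ne hψirr χ.2 hh)
  exact ⟨_, σ, fun g => congrFun heq g⟩

variable {M : Ideal AlgInt} [M.IsMaximal] {p : ℕ}

/-- Every irreducible character is afforded by matrices over the local integers. -/
theorem exists_integral_rep (hM : IsPModular p M) (χ : IrrCharacter G) :
    ∃ (n : ℕ) (A : G →* Matrix (Fin n) (Fin n) (locRing M)),
      ∀ g, (((A g).trace : locRing M) : ℂ) = (χ : G → ℂ) g := by
  classical
  obtain ⟨n, σ, hσ⟩ := exists_alg_rep χ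
  let v : G × Fin n → (Fin n → Alg) := fun x => σ x.1 (Pi.single x.2 1)
  have hspan : Submodule.span Alg (Set.range v) = ⊤ := by
    rw [eq_top_iff, ← (Pi.basisFun Alg (Fin n)).span_eq]
    refine Submodule.span_mono ?_
    rintro _ ⟨i, rfl⟩
    exact ⟨(1, i), by simp [v]⟩
  obtain ⟨b, hb, hint⟩ := exists_integral_coordinates hM v hspan
  let T : G → Matrix _ _ Alg := fun g => LinearMap.toMatrix b b (σ g)
  have hT : ∀ g i j, ((T g i j : Alg) : ℂ) ∈ locRing M := by
    intro g i j
    obtain ⟨⟨h, l⟩, hl⟩ := hb j
    have : σ g (b j) = v (g * h, l) := by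
      rw [hl]
      show σ g (σ h _) = σ (g * h) _
      rw [map_mul]; rfl
    simp only [T, LinearMap.toMatrix_apply, this]
    exact hint _ _
  let emb : locRing M →+* ℂ := (locRing M).subtype
  have hinj : Function.Injective fun A : Matrix (Fin (Module.finrank Alg (Fin n → Alg)))
      (Fin (Module.finrank Alg (Fin n → Alg))) (locRing M) => A.map emb :=
    Matrix.map_injective Subtype.val_injective
  let A : G → Matrix _ _ (locRing M) := fun g => Matrix.of fun i j => ⟨_, hT g i j⟩
  have hA : ∀ g, (A g).map emb = (T g).map (algebraMap Alg ℂ) := fun g => rfl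
  refine ⟨_, { toFun := A, map_one' := hinj ?_, map_mul' := fun a c => hinj ?_ }, fun g => ?_⟩
  · show (A 1).map emb = (1 : Matrix _ _ (locRing M)).map emb
    rw [hA, Matrix.map_one _ (map_zero _) (map_one _)]
    simp only [T, map_one, Module.End.one_eq_id, LinearMap.toMatrix_id]
    exact Matrix.map_one _ (map_zero _) (map_one _)
  · show (A (a * c)).map emb = (A a * A c).map emb
    rw [hA, Matrix.map_mul, hA, hA, ← Matrix.map_mul]
    simp only [T, map_mul, Module.End.mul_eq_comp, LinearMap.toMatrix_comp b b b]
  · show emb ((A g).trace) = _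
    rw [show emb ((A g).trace) = ((A g).map emb).trace from AddMonoidHom.map_trace emb.toAddMonoidHom (A g), hA,
      ← show algebraMap Alg ℂ (T g).trace = ((T g).map (algebraMap Alg ℂ)).trace from
        AddMonoidHom.map_trace (algebraMap Alg ℂ).toAddMonoidHom (T g), ← hσ g]
    show ((((T g).trace : Alg)) : ℂ) = _
    simp only [T, Representation.character, ← LinearMap.trace_eq_matrix_trace Alg b]

end CfsgLib.Modular
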