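import Cfsg.Agent.Lib.Modular.Constituents
import Cfsg.Agent.Lib.Modular.Realize
import Cfsg.Agent.Lib.Blocks.Brauer

/-!
# Reduction modulo `M` of an integral representation

* `redRep`, `brauerFun_redRep`: its Brauer character is the restriction of the character;
* `redRep_acts`: a block idempotent acts by one or zero.
-/

set_option autoImplicit false

noncomputable section

namespace CfsgLib.Modular

open Cfsg CfsgLib.Blocks CfsgLib.Char Polynomial

attribute [local instance] CfsgLib.Blocks.resField

variable {M : Ideal AlgInt} [M.IsMaximal] {G : Type*} [Group G] [Fintype G] {p : ℕ} {n : ℕ}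

/-- Reduction of an integral representation. -/
def redRep (A : G →* Matrix (Fin n) (Fin n) (locRing M)) : Representation (Res M) G (Fin n → Res M) where
  toFun g := Matrix.toLin' ((A g).map (res M))
  map_one' := by
    rw [map_one, Matrix.map_one _ (map_zero _) (map_one _), Matrix.toLin'_one]; rfl
  map_mul' a b := by
    rw [map_mul, Matrix.map_mul, Matrix.toLin'_mul]; rfl

theorem pow_eq_one_of_isRoot {K : Type*} [Field K] {N : Matrix (Fin n) (Fin n) K} {m : ℕ} (hN : N ^ m = 1)
    {l : K} (hl : N.charpoly.IsRoot l) : l ^ m = 1 := by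
  have hdet : (Matrix.scalar (Fin n) l - N).det = 0 := by
    rw [← Matrix.eval_charpoly]; exact hl
  obtain ⟨v, hv0, hv⟩ := Matrix.exists_mulVec_eq_zero_iff.mpr hdet
  rw [Matrix.sub_mulVec, sub_eq_zero] at hv
  have hv' : N.mulVec v = l • v := by
    rw [← hv]; ext i; simp [Matrix.mulVec_diagonal]
  have hpow : ∀ j : ℕ, (N ^ j).mulVec v = l ^ j • v := by
    intro j
    induction j with
    | zero => simp
    | succ j ih => rw [pow_succ, ← Matrix.mulVec_mulVec, hv', Matrix.mulVec_smul, ih, smul_smul, pow_succ, mul_comm]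
  have h1 := hpow m
  rw [hN, Matrix.one_mulVec] at h1
  have h2 : (l ^ m - 1) • v = 0 := by rw [sub_smul, one_smul, ← h1, sub_self]
  exact sub_eq_zero.mp ((smul_eq_zero.mp h2).resolve_right hv0)

theorem brauerFun_redRep (hM : IsPModular p M) (A : G →* Matrix (Fin n) (Fin n) (locRing M)) {g : G}
    (hg : ¬ p ∣ orderOf g) :
    brauerFun p M (redRep A) g = (((A g).trace : locRing M) : ℂ) := by
  classical
  let emb : locRing M →+* ℂ := (locRing M).subtype
  have hm := not_dvd_pm (G := G) hM.1
  have hm0 : 0 < pm p G := Nat.pos_of_ne_zero fun h0 => hm (by rw [h0]; exact dvd_zero p)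
  have hpowA : A g ^ pm p G = 1 := by rw [← map_pow, pow_pm_eq_one hM.1 hg, map_one]
  let N : Matrix (Fin n) (Fin n) ℂ := (A g).map emb
  have hN : N ^ pm p G = 1 := by
    have h := congrArg (RingHom.mapMatrix emb) hpowA
    rw [map_pow, map_one] at h
    exact h
  let s := N.charpoly.roots
  have hs : ∀ z ∈ s, z ^ pm p G = 1 := fun z hz => pow_eq_one_of_isRoot hN (mem_roots'.mp hz).2
  let t : Multiset (locRing M) := s.pmap (fun z hz => (⟨z, root_mem_locRing hm0 hz⟩ : locRing M)) hs
  have ht : t.map emb = s := by
    simp only [t, Multiset.map_pmap]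
    exact (Multiset.pmap_eq_map _ _ _ _).trans (Multiset.map_id s)
  have hsplit : (s.map fun z => X - C z).prod = N.charpoly :=
    prod_multiset_X_sub_C_of_monic_of_roots_card_eq (Matrix.charpoly_monic N)
      ((IsAlgClosed.splits N.charpoly).natDegree_eq_card_roots.symm)
  have hO : (A g).charpoly = (t.map fun z => X - C z).prod := by
    apply map_injective emb Subtype.val_injective
    rw [← Matrix.charpoly_map, Polynomial.map_multiset_prod, Multiset.map_map]
    show N.charpoly = _
    rw [← hsplit, ← ht, Multiset.map_map]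
    congr 1
    exact Multiset.map_congr rfl fun z _ => by simp
  have hbar : (redRep A g).charpoly.roots = t.map (res M) := by
    show (Matrix.toLin' ((A g).map (res M))).charpoly.roots = _
    rw [Matrix.charpoly_toLin', Matrix.charpoly_map, hO, Polynomial.map_multiset_prod, Multiset.map_map]
    have : (Polynomial.map (res M) ∘ fun z => X - C z) = (fun y => X - C y) ∘ res M := by
      funext z; simp
    rw [this, ← Multiset.map_map, roots_multiset_prod_X_sub_C]
  rw [brauerFun_regular _ hg, hbar, Multiset.map_map,
    Multiset.map_congr rfl (g := emb) (fun z hz => ?_), ht]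
  · rw [← Matrix.trace_eq_sum_roots_charpoly]
    exact (AddMonoidHom.map_trace emb.toAddMonoidHom (A g)).symm
  · obtain ⟨w, hw, rfl⟩ := Multiset.mem_pmap.mp hz
    have h1 := liftRoot_resI (M := M) hM hm (hs w hw)
    show liftRoot M (pm p G) (res M ⟨w, root_mem_locRing hm0 (hs w hw)⟩) = w
    rw [← resI_coe]
    exact h1

theorem asAlgebraHom_eq_sum {k : Type*} [Field k] {V : Type*} [AddCommGroup V] [Module k V]
    (ρ : Representation k G V) (r : MonoidAlgebra k G) :
    ρ.asAlgebraHom r = ∑ g, r.coeff g • ρ g := by
  induction r using MonoidAlgebra.induction_on with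
  | of g =>
    classical
    rw [Representation.asAlgebraHom_of, Finset.sum_eq_single g] <;>
      simp [MonoidAlgebra.of_apply, Finsupp.single_apply]
    intro b hb e
    exact absurd e.symm hb
  | add a b iha ihb => simp [iha, ihb, add_smul, Finset.sum_add_distrib]
  | smul c a ih => simp [ih, Finset.smul_sum, smul_smul]

theorem eq_zero_of_idem_trace {N : Matrix (Fin n) (Fin n) ℂ} (h : N * N = N) (ht : N.trace = 0) : N = 0 := by
  let f := Matrix.toLin' N
  have hf : LinearMap.IsProj (LinearMap.range f) f :=
    ⟨fun x => LinearMap.mem_range_self f x, fun x ⟨y, hy⟩ => by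
      rw [← hy, ← LinearMap.comp_apply, ← Matrix.toLin'_mul, h]⟩
  have h1 := hf.trace
  rw [Matrix.trace_toLin'_eq, ht] at h1
  have h2 : LinearMap.range f = ⊥ := Submodule.finrank_eq_zero.mp (by exact_mod_cast h1.symm)
  exact Matrix.toLin'.injective ((LinearMap.range_eq_bot.mp h2).trans (map_zero _).symm)

open Classical in
/-- A block idempotent acts on the reduction by one or zero. -/
theorem redRep_acts (χ : IrrCharacter G) (A : G →* Matrix (Fin n) (Fin n) (locRing M))
    (hA : ∀ g, (((A g).trace : locRing M) : ℂ) = (χ : G → ℂ) g) {B : Set (IrrCharacter G)}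
    (hB : IsPBlock M B) :
    Acts (redRep A) (red (idem hB)) (if χ ∈ B then 1 else 0) := by
  classical
  let emb : locRing M →+* ℂ := (locRing M).subtype
  let ρC : G →* Matrix (Fin n) (Fin n) ℂ := (RingHom.mapMatrix emb).toMonoidHom.comp A
  let L := MonoidAlgebra.lift ℂ (Matrix (Fin n) (Fin n) ℂ) G ρC
  let a : Zint M G := idem hB
  let Q : Matrix (Fin n) (Fin n) (locRing M) :=
    ∑ g, (⟨(a : CA G).coeff g, (mem_Zint_iff.mp a.2).1 g⟩ : locRing M) • A g
  have hL : ∀ r : CA G, L r = ∑ g, r.coeff g • ρC g := by
    intro r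
    induction r using MonoidAlgebra.induction_on with
    | of g =>
      rw [MonoidAlgebra.lift_of, Finset.sum_eq_single g] <;>
        simp [MonoidAlgebra.of_apply, Finsupp.single_apply]
      intro b hb e
      exact absurd e.symm hb
    | add x y hx hy => simp [hx, hy, add_smul, Finset.sum_add_distrib]
    | smul c x hx => simp [hx, Finset.smul_sum, smul_smul]
  have hQ : Q.map emb = L (a : CA G) := by
    rw [hL]
    show (RingHom.mapMatrix emb) Q = _
    simp only [Q, map_sum]
    refine Finset.sum_congr rfl fun g _ => ?_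
    ext i j
    simp [ρC, emb]
  have hidem : L (a : CA G) * L (a : CA G) = L (a : CA G) := by
    rw [← map_mul, ← Subring.coe_mul, idem_mul_self]
  have htr : (L (a : CA G)).trace = if χ ∈ B then (χ : G → ℂ) 1 else 0 := by
    rw [hL, Matrix.trace_sum]
    have hsum : ∑ g, ((a : CA G).coeff g • ρC g).trace = charLin (χ : G → ℂ) (a : CA G) := by
      rw [charLin_apply]
      refine Finset.sum_congr rfl fun g _ => ?_
      rw [Matrix.trace_smul, smul_eq_mul, ← hA g]
      congr 1
      exact (AddMonoidHom.map_trace emb.toAddMonoidHom (A g)).symm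
    rw [hsum]
    have h := omega_blockElt B χ
    rw [omega, div_eq_iff (irr_one_ne_zero χ.2)] at h
    rw [show (a : CA G) = blockElt B from rfl, h]
    split_ifs <;> simp
  have hn : (χ : G → ℂ) 1 = n := by
    rw [← hA 1, map_one, Matrix.trace_one, Fintype.card_fin]; simp
  have hval : Q = if χ ∈ B then 1 else 0 := by
    apply Matrix.map_injective (f := emb) Subtype.val_injective
    show Q.map emb = Matrix.map _ emb
    rw [hQ]
    split_ifs at htr ⊢ with h
    · rw [Matrix.map_one _ (map_zero _) (map_one _)]
      refine (sub_eq_zero.mp (eq_zero_of_idem_trace (N := 1 - L (a : CA G)) ?_ ?_)).symm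
      · rw [mul_sub, sub_mul, sub_mul, one_mul, one_mul, mul_one, hidem, sub_self, sub_zero]
      · rw [Matrix.trace_sub, htr, Matrix.trace_one, Fintype.card_fin, hn, sub_self]
    · rw [Matrix.map_zero _ (map_zero _)]
      exact eq_zero_of_idem_trace hidem htr
  intro v
  rw [asAlgebraHom_eq_sum]
  have h1 : Matrix.toLin' (Q.map (res M)) = ∑ g, (red a).coeff g • redRep A g := by
    show Matrix.toLin' ((RingHom.mapMatrix (res M)) Q) = _
    simp only [Q, map_sum]
    refine Finset.sum_congr rfl fun g _ => ?_
    show _ = rcoeff a g • Matrix.toLin' ((A g).map (res M))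
    rw [← LinearEquiv.map_smul]
    congr 1
    ext i j
    simp [rcoeff]
  rw [← h1, hval]
  split_ifs <;> simp

end CfsgLib.Modular
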