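import Cfsg.Agent.Lib.Modular.OverCore
import Cfsg.Agent.Lib.Modular.FongSwan.PPrimeAlg
import Cfsg.Agent.Lib.Blocks.FongReynolds
import Cfsg.Agent.Lib.CharNormal.Gallagher
import Cfsg.Agent.Lib.Transfer.PSolvable

/-!
# Heights in blocks of `p`-solvable groups

* `exists_isOverSetup_core`: over an invariant character of `O_{p'}` there is one block of full defect;
* `factorization_degree_add_center_le`: then `p`-parts of degrees divide `|P : Z(P)|`;
* `blockHeight_add_center_le`: Fong's bound on heights.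
-/

set_option autoImplicit false

noncomputable section

universe u

namespace CfsgLib.Modular.PSolvableHeights

open Cfsg CfsgLib.Blocks CfsgLib.Char CfsgLib.CharNormal CfsgLib.Cores
open scoped commutatorElement Classical

attribute [local instance] CfsgLib.Blocks.resField

variable {p : ℕ} [Fact p.Prime] {G : Type*} [Group G] [Fintype G]

/-- The setup exists in `p`-solvable groups. -/
theorem exists_isOverSetup_core (hsolv : IsPSolvable p G) {θ : pPrimeCore p G → ℂ}
    (hinv : ∀ g : G, conjFun (pPrimeCore p G) g θ = θ) :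
    ∃ Q : Subgroup G, IsOverSetup p (pPrimeCore p G) (pPrimePCore p G) Q θ := by
  obtain ⟨R⟩ := (inferInstance : Nonempty (Sylow p ↥(pPrimePCore p G)))
  refine ⟨(R : Subgroup ↥(pPrimePCore p G)).map (pPrimePCore p G).subtype,
    pPrimeCore_le_pPrimePCore, not_dvd_card_pPrimeCore p, relIndex_pPrimeCore_pPrimePCore, hinv,
    R.isPGroup'.map _, Subgroup.map_subtype_le _, fun x hx => ?_⟩
  have hc : QuotientGroup.mk' (pPrimeCore p G) x ∈
      Subgroup.centralizer (pCore p (G ⧸ pPrimeCore p G) : Set (G ⧸ pPrimeCore p G)) := by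
    refine Subgroup.mem_centralizer_iff.mpr fun y hy => ?_
    obtain ⟨q, hq, rfl⟩ := (map_mk'_sylow_pPrimePCore R).ge hy
    have h1 := (QuotientGroup.eq_one_iff (N := pPrimeCore p G) _).mpr (hx q hq)
    have h2 : ⁅QuotientGroup.mk' (pPrimeCore p G) x, QuotientGroup.mk' (pPrimeCore p G) q⁆ = 1 := by
      rw [← map_commutatorElement]; exact h1
    exact (commutatorElement_eq_one_iff_mul_comm.mp h2).symm
  exact CfsgLib.Transfer.centralizer_pCore_le_of_isPSolvable
    (CfsgLib.Transfer.isPSolvable_quotient hsolv _) (pPrimeCore_quotient_self p) hc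

/-- In the invariant situation the `p`-parts of the degrees divide `|P : Z(P)|`. -/
theorem factorization_degree_add_center_le (hsolv : IsPSolvable p G) {N : Subgroup G} [N.Normal] [Fintype N]
    (hN : ¬ p ∣ Nat.card N) (hcore : pPrimeCore p (G ⧸ N) = ⊥) {θ : IrrCharacter N}
    (hinv : ∀ g : G, conjFun N g (θ : N → ℂ) = θ) {χ : IrrCharacter G}
    (hχ : classInner (fun n : N => (χ : G → ℂ) n) (θ : N → ℂ) ≠ 0) (P : Sylow p G) :
    (charDegree (χ : G → ℂ)).factorization p +
      (Nat.card (Subgroup.center ↥(P : Subgroup G))).factorization p ≤ (Nat.card G).factorization p := by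
  have hp : p.Prime := Fact.out
  let mk := QuotientGroup.mk' N
  let R : Subgroup (G ⧸ N) := pCore p (G ⧸ N)
  let Z : Subgroup (G ⧸ N) := (Subgroup.center R).map R.subtype
  have hZcomm : ∀ a ∈ Z, ∀ b ∈ Z, a * b = b * a := by
    rintro _ ⟨a, ha, rfl⟩ _ ⟨b, hb, rfl⟩
    exact congrArg Subtype.val (Subgroup.mem_center_iff.mp hb a)
  have : Z.Normal := ConjAct.normal_of_characteristic_of_normal
  let A : Subgroup G := Z.comap mk
  have hAn : A.Normal := ‹Z.Normal›.comap _
  let : Fintype A := Fintype.ofFinite _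
  have hNA : N ≤ A := fun n hn => by
    show mk n ∈ Z
    rw [show mk n = 1 from (QuotientGroup.eq_one_iff n).mpr hn]
    exact one_mem _
  have hmapA : A.map mk = Z := Subgroup.map_comap_eq_self_of_surjective (QuotientGroup.mk'_surjective N) Z
  obtain ⟨m, hm⟩ := ((isPGroup_pCore p).to_le (Subgroup.map_subtype_le _) : IsPGroup p Z).exists_card_eq
  have hidx : ∃ j, N.relIndex A = p ^ j := ⟨m, by
    rw [show N = mk.ker from (QuotientGroup.ker_mk' _).symm, Subgroup.relIndex_ker, hmapA, hm]⟩
  -- a constituent on `A` has degree `θ 1`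
  obtain ⟨d, σ, hσ, hσc⟩ := exists_ext_rep N A hNA hN hidx hinv
  let N' := N.subgroupOf A
  let : Fintype N' := Fintype.ofFinite _
  let e := Subgroup.subgroupOfEquivOfLe hNA
  have hres : (fun n : N' => σ.character n) = (θ : N → ℂ) ∘ e := funext fun n => by
    rw [Function.comp_apply, ← hσc (e n)]
    congr 1
  have hresirr : IsIrrCharacter N' (fun n : N' => σ.character n) := hres ▸ isIrr_comp_mulEquiv θ.2 e
  have hσchar : IsCharacter A σ.character := ⟨d, σ, rfl⟩
  obtain ⟨a, hadec, -⟩ := char_decomp (isCharacter_res A (isCharacter_of_isIrr χ.2))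
  have hexp : classInner (fun n : N => (χ : G → ℂ) n) (θ : N → ℂ) =
      ∑ φ : IrrCharacter A, (a φ : ℂ) * classInner (fun n : N => (φ : A → ℂ) ⟨n, hNA n.2⟩) (θ : N → ℂ) := by
    have : (fun n : N => (χ : G → ℂ) n) =
        ∑ φ : IrrCharacter A, (a φ : ℂ) • fun n : N => (φ : A → ℂ) ⟨n, hNA n.2⟩ :=
      funext fun n => by simpa [Finset.sum_apply] using congrFun hadec ⟨(n : G), hNA n.2⟩
    rw [this, classInner_sum_left]
    exact Finset.sum_congr rfl fun φ _ => classInner_smul_left _
  obtain ⟨η, -, hη⟩ := Finset.exists_ne_zero_of_sum_ne_zero (hexp ▸ hχ)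
  obtain ⟨haη, hηθ⟩ := mul_ne_zero_iff.mp hη
  have hη' : classInner (fun n : N' => (η : A → ℂ) n) (fun n : N' => σ.character n) ≠ 0 := by
    rw [hres]
    intro h
    apply hηθ
    rw [← h, ← classInner_comp_mulEquiv e (fun n : N => (η : A → ℂ) ⟨n, hNA n.2⟩) (θ : N → ℂ)]
    rfl
  obtain ⟨β, hβ, hηβ⟩ := exists_eq_mul_comp_mk' N' hσchar hresirr η.2 hη'
  have hcommQ : ∀ x y : A ⧸ N', x * y = y * x := fun x y => by
    obtain ⟨x, rfl⟩ := QuotientGroup.mk'_surjective N' x
    obtain ⟨y, rfl⟩ := QuotientGroup.mk'_surjective N' y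
    rw [← map_mul, ← map_mul]
    refine QuotientGroup.eq.mpr ?_
    show ((x * y)⁻¹ * (y * x) : A).1 ∈ N
    rw [← QuotientGroup.eq_one_iff]
    show mk _ = 1
    simp only [Subgroup.coe_mul, InvMemClass.coe_inv, map_mul, map_inv, hZcomm _ x.2 _ y.2, inv_mul_cancel]
  have hη1 : (η : A → ℂ) 1 = (θ : N → ℂ) 1 := by
    rw [congrFun hηβ 1, Pi.mul_apply, apply_comp_mk'_one, irr_one_eq_one_of_comm hcommQ hβ, mul_one]
    exact hσc 1
  obtain ⟨-, hdvd⟩ := degree_quotient_dvd_index A χ.2 η.2 (by
      have h0 : classInner (fun x : A => (χ : G → ℂ) x) (η : A → ℂ) = (a η : ℂ) := by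
        rw [hadec, classInner_sum_left, Finset.sum_eq_single η]
        · rw [classInner_smul_left, classInner_irr_self η.2, mul_one]
        · intro b _ hb
          rw [classInner_smul_left, classInner_irr_ne b.2 η.2 (fun h => hb (Subtype.ext h)), mul_zero]
        · simp
      rw [h0]; exact haη)
    (charDegree_eq (isCharacter_of_isIrr χ.2)) (d := charDegree (θ : N → ℂ))
    (hη1.trans (charDegree_eq (isCharacter_of_isIrr θ.2)))
  have hdθ : ¬ p ∣ charDegree (θ : N → ℂ) := fun h =>
    hN (h.trans (CfsgLib.CharBlocks.charDegree_dvd_card θ.2))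
  have hdiv : charDegree (θ : N → ℂ) ∣ charDegree (χ : G → ℂ) := (degree_quotient_dvd_index A χ.2 η.2 (by
      intro h0
      refine haη ?_
      rw [← h0, hadec, classInner_sum_left, Finset.sum_eq_single η]
      · rw [classInner_smul_left, classInner_irr_self η.2, mul_one]
      · intro b _ hb
        rw [classInner_smul_left, classInner_irr_ne b.2 η.2 (fun h => hb (Subtype.ext h)), mul_zero]
      · simp)
    (charDegree_eq (isCharacter_of_isIrr χ.2)) (hη1.trans (charDegree_eq (isCharacter_of_isIrr θ.2)))).1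
  -- the centre of a Sylow subgroup lies in `A`
  have hPN : Function.Injective (mk.comp (P : Subgroup G).subtype) := by
    rw [← MonoidHom.ker_eq_bot_iff, Subgroup.eq_bot_iff_forall]
    intro x hx
    obtain ⟨k, hk⟩ := IsPGroup.iff_orderOf.mp P.2 x
    have h1 : (x : G) ∈ N := (QuotientGroup.eq_one_iff _).mp hx
    have h2 : orderOf x ∣ Nat.card N := by
      rw [← Subgroup.orderOf_coe]
      exact (Subgroup.orderOf_coe (⟨_, h1⟩ : N)) ▸ orderOf_dvd_natCard _
    rcases Nat.eq_zero_or_pos k with rfl | hk0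
    · exact orderOf_eq_one_iff.mp (by rw [hk, pow_zero])
    · exact absurd ((hk ▸ dvd_pow_self p hk0.ne').trans h2) hN
  let Pbar : Sylow p (G ⧸ N) := P.mapSurjective (QuotientGroup.mk'_surjective N)
  have hRP : R ≤ Pbar := pCore_le_sylow Pbar
  have hzA : ∀ z : Subgroup.center ↥(P : Subgroup G), mk ((z : (P : Subgroup G)) : G) ∈ Z := by
    rintro ⟨z, hz⟩
    have hzR : mk (z : G) ∈ R := by
      refine CfsgLib.Transfer.centralizer_pCore_le_of_isPSolvable
        (CfsgLib.Transfer.isPSolvable_quotient hsolv _) hcore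
        (Subgroup.mem_centralizer_iff.mpr fun r hr => ?_)
      obtain ⟨y, hy, rfl⟩ := (show r ∈ (P : Subgroup G).map mk from hRP hr)
      rw [← map_mul, ← map_mul]
      exact congrArg mk (congrArg Subtype.val (Subgroup.mem_center_iff.mp hz ⟨y, hy⟩))
    refine ⟨⟨_, hzR⟩, Subgroup.mem_center_iff.mpr fun r => Subtype.ext ?_, rfl⟩
    obtain ⟨y, hy, hyr⟩ := (show (r : G ⧸ N) ∈ (P : Subgroup G).map mk from hRP r.2)
    show (r : G ⧸ N) * mk (z : G) = mk (z : G) * r
    rw [← hyr, ← map_mul, ← map_mul]
    exact congrArg mk (congrArg Subtype.val (Subgroup.mem_center_iff.mp hz ⟨y, hy⟩))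
  have hcardZ : Nat.card (Subgroup.center ↥(P : Subgroup G)) ∣ Nat.card Z :=
    Subgroup.card_dvd_of_injective
      ((mk.comp ((P : Subgroup G).subtype.comp (Subgroup.center ↥(P : Subgroup G)).subtype)).codRestrict Z hzA)
      fun x y h => Subtype.ext (hPN (congrArg (fun w : Z => (w : G ⧸ N)) h))
  have hle1 : (Nat.card (Subgroup.center ↥(P : Subgroup G))).factorization p ≤ (Nat.card Z).factorization p :=
    (Nat.factorization_le_iff_dvd Nat.card_pos.ne' Nat.card_pos.ne').mpr hcardZ p
  have hcardA : (Nat.card A).factorization p = (Nat.card Z).factorization p := by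
    have h1 : Nat.card A = Nat.card Z * Nat.card N := by
      have h2 : N.relIndex A = Nat.card Z := by
        rw [← hmapA, ← Subgroup.relIndex_ker, QuotientGroup.ker_mk']
      rw [← Subgroup.card_mul_index N', show N'.index = N.relIndex A from rfl, h2, Nat.card_congr e.toEquiv,
        mul_comm]
    rw [h1, Nat.factorization_mul Nat.card_pos.ne' Nat.card_pos.ne', Finsupp.add_apply,
      Nat.factorization_eq_zero_of_not_dvd hN, add_zero]
  have hle2 : (charDegree (χ : G → ℂ)).factorization p ≤ A.index.factorization p := by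
    have h2 := (Nat.factorization_le_iff_dvd (by
      exact (Nat.div_pos (Nat.le_of_dvd (CfsgLib.CharBlocks.charDegree_pos χ.2) hdiv)
        (CfsgLib.CharBlocks.charDegree_pos θ.2)).ne') Subgroup.index_ne_zero_of_finite).mpr hdvd p
    rw [Nat.factorization_div hdiv, Finsupp.tsub_apply, Nat.factorization_eq_zero_of_not_dvd hdθ] at h2
    simpa using h2
  have hG : (Nat.card G).factorization p = (Nat.card A).factorization p + A.index.factorization p := by
    rw [← A.card_mul_index, Nat.factorization_mul Nat.card_pos.ne' Subgroup.index_ne_zero_of_finite]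
    rfl
  omega

variable {M : Ideal AlgInt} [M.IsMaximal]

/-- Fong's bound on heights, by induction on the order. -/
theorem blockHeight_add_center_le_aux (hM : IsPModular p M) (k : ℕ) : ∀ (G : Type u) [Group G] [Fintype G],
    Nat.card G = k → IsPSolvable p G → ∀ B : Set (IrrCharacter G), IsPBlock M B → ∀ D : Subgroup G,
      IsDefectGroup p M B D → ∀ χ ∈ B, blockHeight p B (χ : G → ℂ) +
        (Nat.card (Subgroup.center ↥D)).factorization p ≤ (Nat.card D).factorization p := by
  induction k using Nat.strong_induction_on with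
  | _ k ih =>
  intro G _ _ hk hsolv B hB D hD χ hχ
  set N := pPrimeCore p G with hNdef
  have hN : ¬ p ∣ Nat.card N := not_dvd_card_pPrimeCore p
  let : Fintype N := Fintype.ofFinite _
  obtain ⟨θ, hθirr, hθ⟩ := exists_constituent (isCharacter_res N (isCharacter_of_isIrr χ.2))
    fun h => irr_one_ne_zero χ.2 (by simpa using congrFun h 1)
  let θ' : IrrCharacter N := ⟨θ, hθirr⟩
  by_cases hinv : inertia N θ = ⊤
  · have hinv' : ∀ g : G, conjFun N g θ = θ := fun g => (mem_inertia N).mp (hinv ▸ Subgroup.mem_top g)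
    obtain ⟨Q, hQ⟩ := exists_isOverSetup_core hsolv hinv'
    let : Fintype ↥(pPrimePCore p G) := Fintype.ofFinite _
    have := pPrimePCore_normal (G := G) (p := p)
    set B₀ := {η : IrrCharacter G | classInner (fun k : N => (η : G → ℂ) k) θ ≠ 0}
    have hB₀ : IsPBlock M B₀ := IsOverSetup.isPBlock_over (θ := θ') hM hQ
    have hBB : B = B₀ := isPBlock_eq_of_mem hB hB₀ hχ hθ
    subst hBB
    obtain ⟨P, rfl⟩ := (IsOverSetup.isDefectGroup_over (θ := θ') hM hQ).2 D hD
    have h1 := degree_height (p := p) hM hB₀ hχ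
    have h2 : blockDefect p B₀ = (Nat.card G).factorization p := by
      have h3 := card_defectGroup hM hB₀ hD
      rw [P.card_eq_multiplicity] at h3
      exact (Nat.pow_right_injective (Fact.out : p.Prime).two_le h3).symm
    have h3 := factorization_degree_add_center_le (θ := θ') hsolv hN (pPrimeCore_quotient_self p) hinv' hθ P
    rw [P.card_eq_multiplicity, (Fact.out : p.Prime).factorization_pow, Finsupp.single_eq_same]
    omega
  · set T := inertia N θ with hTdef
    let : Fintype T := Fintype.ofFinite _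
    have hNT : N ≤ T := le_inertia N (isClassFunction_of_isIrr hθirr)
    have hb := FongSwan.isPBlock_singleton_pprime hM hN θ'
    have hS : FongReynolds.Stab N T ({θ'} : Set (IrrCharacter N)) := by
      refine ⟨fun g hg η hη => ?_, fun g η hη h => ?_⟩
      · rw [Set.mem_singleton_iff] at hη ⊢
        subst hη
        exact Subtype.ext ((conjIrr_coe N g θ').trans ((mem_inertia N).mp hg))
      · rw [Set.mem_singleton_iff] at hη h
        subst hη
        exact (mem_inertia N).mpr ((conjIrr_coe N g θ').symm.trans (congrArg Subtype.val h))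
    obtain ⟨ψ, hψθ, hψχ⟩ := FongReynolds.exists_constituent_over hS hb hNT (Set.mem_singleton θ') hθ
    have hcov : ∃ ψ' ∈ blockOf M (ψ : T → ℂ), ∃ θ₁ ∈ ({θ'} : Set (IrrCharacter N)),
        FongReynolds.mul' N T hNT (ψ' : T → ℂ) θ₁ ≠ 0 :=
      ⟨ψ, mem_blockOf_self ψ, θ', Set.mem_singleton _, hψθ⟩
    obtain ⟨B₁, hind, -, -, hmem⟩ := FongReynolds.exists_induced hNT hS hb (isPBlock_blockOf ψ) hcov
    have hBB : B = B₁ := isPBlock_eq_of_mem hB hind.2.1 hχ ((hmem χ).mpr ⟨ψ, mem_blockOf_self ψ, hψχ⟩)
    subst hBB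
    obtain ⟨hdef, hheight⟩ := FongReynolds.defect_of_induced hNT hS hb hM (isPBlock_blockOf ψ) hcov hind
    obtain ⟨χ', hχ', hχ'e, hh⟩ := hheight ψ (mem_blockOf_self ψ)
    have hχχ : χ' = χ := Subtype.ext (hχ'e.trans hψχ.symm)
    subst hχχ
    obtain ⟨D', hD'⟩ := exists_isDefectGroup (p := p) (M := M) (isPBlock_blockOf ψ)
    obtain ⟨x, hx⟩ := defectGroups_conj hM hB (hdef D' hD') hD
    let eD : D' ≃* D := (Subgroup.equivMapOfInjective D' T.subtype T.subtype_injective).trans
      (((D'.map T.subtype).equivMapOfInjective (MulAut.conj x).toMonoidHom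
        (MulAut.conj x).injective).trans (MulEquiv.subgroupCongr hx))
    have hlt : Nat.card T < k := by
      rw [← hk, ← T.card_mul_index]
      exact lt_mul_of_one_lt_right Nat.card_pos (Subgroup.one_lt_index_of_ne_top hinv)
    have h := ih _ hlt T rfl (CfsgLib.Transfer.isPSolvable_subgroup hsolv T) _ (isPBlock_blockOf ψ) D' hD'
      ψ (mem_blockOf_self ψ)
    rwa [← hh, Nat.card_congr eD.toEquiv, Nat.card_congr (Subgroup.centerCongr eD).toEquiv] at h

end CfsgLib.Modular.PSolvableHeights
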