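import Cfsg.Agent.Lib.Blocks.SecondMain
import Cfsg.Agent.Lib.CharNormal.Galois
import Mathlib.FieldTheory.IntermediateField.Adjoin.Defs

/-!
# Galois automorphisms trivial on `p′`-roots of unity

* `galIrr_mem_block`: they fix every `p`-block;
* `exists_ringEquiv_fix_ne`: an algebraic number outside a subfield is moved by some
  automorphism of `ℂ` fixing that subfield.
-/

set_option autoImplicit false

noncomputable section

namespace CfsgLib.Modular

open Cfsg CfsgLib.Char CfsgLib.Blocks CfsgLib.CharNormal Polynomial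
open scoped ComplexConjugate

variable {G : Type*} [Group G] {p : ℕ} {M : Ideal AlgInt}

/-- Characters agreeing on the `p`-regular elements lie in the same block. -/
theorem mem_block_of_eqOn_regular [Finite G] (hM : IsPModular p M) {B : Set (IrrCharacter G)}
    (hB : IsPBlock M B) {χ ψ : IrrCharacter G} (hχ : χ ∈ B)
    (h : ∀ g : G, ¬ p ∣ orderOf g → (ψ : G → ℂ) g = (χ : G → ℂ) g) : ψ ∈ B := by
  classical
  have := Fintype.ofFinite G
  have := hM.2.1
  by_contra hψ
  have h1 : ¬ p ∣ orderOf (1 : G) := by simpa using hM.1.ne_one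
  have e : ∀ η : IrrCharacter G, blockPart B (η : G → ℂ) 1 = if η ∈ B then (η : G → ℂ) 1 else 0 := by
    intro η
    rw [blockPart_apply, Finset.sum_eq_single η]
    · rw [classInner_irr_self η.2, one_mul]
    · intro θ _ hne
      rw [classInner_irrCharacter, if_neg (Ne.symm hne), zero_mul, ite_self]
    · simp
  have h2 := blockPart_congr_regular hM hB h1 h
  rw [e, e, if_pos hχ, if_neg hψ] at h2
  exact irr_one_ne_zero χ.2 h2.symm

/-- An automorphism acting trivially on the roots of unity of order prime to `p` fixes each block. -/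
theorem galIrr_mem_block [Finite G] (hM : IsPModular p M) {σ : ℂ ≃+* ℂ} {k : ℕ}
    (hσ : ∀ z : ℂ, z ^ Nat.card G = 1 → σ z = z ^ k) (hk : ∀ g : G, ¬ p ∣ orderOf g → g ^ k = g)
    {B : Set (IrrCharacter G)} (hB : IsPBlock M B) {χ : IrrCharacter G} (hχ : χ ∈ B) :
    galIrr σ χ ∈ B :=
  mem_block_of_eqOn_regular hM hB hχ fun g hg => by
    rw [galIrr_apply, ringEquiv_char_apply hσ (isCharacter_of_isIrr χ.2) (orderOf_dvd_natCard g), hk g hg]

/-- An algebraic number outside a subfield is moved by an automorphism fixing the subfield. -/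
theorem exists_ringEquiv_fix_ne (F : IntermediateField ℚ ℂ) {x : ℂ} (hx : IsIntegral ℚ x)
    (hxF : x ∉ F) : ∃ σ : ℂ ≃+* ℂ, (∀ y ∈ F, σ y = y) ∧ σ x ≠ x := by
  let L : IntermediateField F ℂ := algebraicClosure F ℂ
  haveI hL : IsAlgClosure F L := algebraicClosure.isAlgClosure F ℂ
  haveI : Normal F L := IsAlgClosure.normal F L
  haveI : Algebra.IsSeparable F L := IsAlgClosure.separable F L
  let x' : L := ⟨x, (mem_algebraicClosure_iff' ..).mpr hx.tower_top⟩
  have hxb : x' ∉ (⊥ : Subalgebra F L) := by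
    intro h
    obtain ⟨y, hy⟩ := Algebra.mem_bot.mp h
    have h' : algebraMap F ℂ y = x := congrArg (fun z : L => (z : ℂ)) hy
    exact hxF (h' ▸ y.2)
  obtain ⟨y, hne, hy⟩ := (notMem_iff_exists_ne_and_isConjRoot (Algebra.IsSeparable.isSeparable F x')
    (Normal.splits inferInstance x')).mp hxb
  obtain ⟨τ, hτ⟩ := hy.exists_algEquiv
  obtain ⟨σ, hσ⟩ := exists_ringEquiv_extend τ.toRingEquiv
  refine ⟨σ, fun z hz => ?_, fun h => ?_⟩
  · have h1 := hσ (algebraMap F L ⟨z, hz⟩)
    rw [AlgEquiv.toRingEquiv_eq_coe, AlgEquiv.coe_ringEquiv, AlgEquiv.commutes] at h1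
    exact h1
  · exact hne (τ.injective ((Subtype.ext ((hσ x').symm.trans h) : τ x' = x').trans hτ.symm))

end CfsgLib.Modular
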