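import Cfsg.Agent.Lib.Modular.Coinduced
import Cfsg.Agent.Lib.Char.RealForms

/-!
# Trace forms: density, Schur orthogonality, independence of the `p`-part

* `eq_zero_of_trace_mul`: over the residue field an endomorphism orthogonal to an irreducible image is zero;
* `schur_sum_trace`, `schur_sum_conj`: the orthogonality relations in trace form;
* `trace_mul_pElement`: a commuting `p`-element does not change traces.
-/

set_option autoImplicit false

noncomputable section

namespace CfsgLib.Modular

open Cfsg CfsgLib.Blocks CfsgLib.Char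

section schur

variable {G : Type*} [Group G] [Fintype G] {n : ℕ} (ρ : Representation ℂ G (Fin n → ℂ))
  [ρ.IsIrreducible]

theorem schur_sum_mat (X : Matrix (Fin n) (Fin n) ℂ) :
    (n : ℂ) • ∑ k : G, repMat ρ k * X * repMat ρ k⁻¹ = ((Nat.card G : ℂ) * X.trace) • 1 := by
  obtain ⟨c, hc⟩ := exists_eq_smul_one_of_commute ρ (∑ k : G, repMat ρ k * X * repMat ρ k⁻¹) fun g => by
    rw [Finset.sum_mul, Finset.mul_sum]
    refine Fintype.sum_equiv (Equiv.mulLeft g⁻¹) _ _ fun k => ?_
    rw [Equiv.coe_mulLeft, mul_inv_rev, inv_inv, repMat_mul, repMat_mul]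
    simp only [← Matrix.mul_assoc, repMat_mul_inv, Matrix.one_mul]
  rw [hc, smul_smul]
  congr 1
  have ht := congrArg Matrix.trace hc
  rw [Matrix.trace_sum, Matrix.trace_smul, Matrix.trace_one, Fintype.card_fin, smul_eq_mul] at ht
  rw [mul_comm, ← ht, Finset.sum_congr rfl fun k _ => show (repMat ρ k * X * repMat ρ k⁻¹).trace = X.trace by
    rw [Matrix.trace_mul_comm, ← Matrix.mul_assoc, repMat_inv_mul, Matrix.one_mul],
    Finset.sum_const, Finset.card_univ, nsmul_eq_mul, Nat.card_eq_fintype_card]

theorem schur_sum_conj (X Y : Matrix (Fin n) (Fin n) ℂ) :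
    (n : ℂ) * ∑ k : G, (repMat ρ k * X * repMat ρ k⁻¹ * Y).trace =
      (Nat.card G : ℂ) * (X.trace * Y.trace) := by
  rw [← Matrix.trace_sum, ← Finset.sum_mul, ← smul_eq_mul, ← Matrix.trace_smul, ← Matrix.smul_mul,
    schur_sum_mat, Matrix.smul_mul, Matrix.one_mul, Matrix.trace_smul, smul_eq_mul, mul_assoc]

theorem schur_sum_trace (A B : Matrix (Fin n) (Fin n) ℂ) :
    (n : ℂ) * ∑ k : G, (A * repMat ρ k⁻¹).trace * (repMat ρ k * B).trace =
      (Nat.card G : ℂ) * (A * B).trace := by
  classical
  have key : ∀ i a b j, (n : ℂ) * ∑ k : G, repMat ρ k i a * repMat ρ k⁻¹ b j =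
      if a = b ∧ i = j then (Nat.card G : ℂ) else 0 := by
    intro i a b j
    have h := congrFun (congrFun (schur_sum_mat ρ (Matrix.single a b 1)) i) j
    rw [Matrix.smul_apply, Matrix.sum_apply, Matrix.smul_apply, smul_eq_mul, smul_eq_mul] at h
    have hterm : ∀ k : G, (repMat ρ k * Matrix.single a b (1 : ℂ) * repMat ρ k⁻¹) i j =
        repMat ρ k i a * repMat ρ k⁻¹ b j := by
      intro k
      simp [Matrix.mul_apply, Matrix.single_apply, ite_and, Finset.sum_mul]
    rw [Finset.sum_congr rfl fun k _ => hterm k] at h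
    rw [h]
    by_cases hab : a = b
    · subst hab
      by_cases hij : i = j
      · subst hij; simp
      · simp [hij, Matrix.one_apply_ne hij]
    · simp [hab]
  have hexp : ∀ k : G, (A * repMat ρ k⁻¹).trace * (repMat ρ k * B).trace =
      ∑ u, ∑ v, ∑ x, ∑ y, A x y * B v u * (repMat ρ k u v * repMat ρ k⁻¹ y x) := by
    intro k
    simp only [Matrix.trace, Matrix.diag_apply, Matrix.mul_apply, Finset.sum_mul, Finset.mul_sum]
    exact Finset.sum_congr rfl fun u _ => Finset.sum_congr rfl fun v _ => Finset.sum_congr rfl fun x _ =>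
      Finset.sum_congr rfl fun y _ => by ring
  rw [Finset.sum_congr rfl fun k _ => hexp k, Finset.sum_comm, Finset.mul_sum]
  simp only [Matrix.trace, Matrix.diag_apply, Matrix.mul_apply, Finset.mul_sum]
  refine Finset.sum_congr rfl fun u _ => ?_
  rw [Finset.sum_comm]
  refine Finset.sum_congr rfl fun v _ => ?_
  have hterm : ∀ x y, (∑ k : G, (n : ℂ) * (A x y * B v u * (repMat ρ k u v * repMat ρ k⁻¹ y x))) =
      if v = y ∧ u = x then A x y * B v u * (Nat.card G : ℂ) else 0 := by
    intro x y
    rw [← Finset.mul_sum, ← Finset.mul_sum, mul_left_comm, key]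
    split_ifs <;> simp
  rw [Finset.sum_comm]
  calc ∑ x, ∑ k : G, ∑ y, (n : ℂ) * (A x y * B v u * (repMat ρ k u v * repMat ρ k⁻¹ y x))
      = ∑ x, ∑ y, if v = y ∧ u = x then A x y * B v u * (Nat.card G : ℂ) else 0 :=
        Finset.sum_congr rfl fun x _ => by rw [Finset.sum_comm]; exact Finset.sum_congr rfl fun y _ => hterm x y
    _ = _ := by
        rw [Finset.sum_eq_single u (fun x _ hx => by simp [Ne.symm hx]) (by simp),
          Finset.sum_eq_single v (fun y _ hy => by simp [Ne.symm hy]) (by simp), if_pos ⟨rfl, rfl⟩]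
        ring

end schur

attribute [local instance] CfsgLib.Blocks.resField

variable {M : Ideal AlgInt} [M.IsMaximal] {G : Type*} [Group G] {p : ℕ}

section density

variable {V : Type*} [AddCommGroup V] [Module (Res M) V] [FiniteDimensional (Res M) V]

omit [FiniteDimensional (Res M) V] in
theorem asAlgebraHom_range_eq_top [FiniteDimensional (Res M) V] (σ : Representation (Res M) G V)
    (hσ : σ.IsIrreducible) : Function.Surjective σ.asAlgebraHom := by
  classical
  intro f
  have := res_isAlgClosed M
  have hS : IsSimpleModule (MonoidAlgebra (Res M) G) σ.asModule :=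
    σ.irreducible_iff_isSimpleModule_asModule.mp hσ
  let e := σ.asModuleEquiv
  let F : Module.End (Module.End (MonoidAlgebra (Res M) G) σ.asModule) σ.asModule :=
    { toFun := fun m => e.symm (f (e m))
      map_add' := fun a b => by simp
      map_smul' := fun φ m => by
        obtain ⟨c, rfl⟩ := (IsSimpleModule.algebraMap_end_bijective_of_isAlgClosed (Res M)
          (A := MonoidAlgebra (Res M) G) (V := σ.asModule)).2 φ
        simp }
  let b := Module.finBasis (Res M) σ.asModule
  obtain ⟨a, ha⟩ := jacobson_density (R := MonoidAlgebra (Res M) G) (M := σ.asModule) F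
    (Finset.univ.image b)
  refine ⟨a, ?_⟩
  have h := b.ext (f₁ := Algebra.lsmul (Res M) (Res M) σ.asModule a)
    (f₂ := e.symm.toLinearMap ∘ₗ f ∘ₗ e.toLinearMap) fun n =>
      (ha _ (Finset.mem_image_of_mem _ (Finset.mem_univ n))).symm
  refine LinearMap.ext fun v => ?_
  have h2 := LinearMap.congr_fun h (e.symm v)
  simp only [Algebra.lsmul_coe, LinearMap.comp_apply, LinearEquiv.coe_coe,
    LinearEquiv.apply_symm_apply] at h2
  have h3 := congrArg e h2
  rw [LinearEquiv.apply_symm_apply, Representation.asModuleEquiv_map_smul,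
    LinearEquiv.apply_symm_apply] at h3
  exact h3

/-- An endomorphism orthogonal to the image of an irreducible representation vanishes. -/
theorem eq_zero_of_trace_mul [Fintype G] (σ : Representation (Res M) G V) (hσ : σ.IsIrreducible)
    (D : Module.End (Res M) V) (h : ∀ g, LinearMap.trace (Res M) V (D * σ g) = 0) : D = 0 := by
  refine LinearMap.ext fun v => ?_
  rw [LinearMap.zero_apply]
  refine (Module.forall_dual_apply_eq_zero_iff (Res M) _).mp fun φ => ?_
  obtain ⟨a, ha⟩ := asAlgebraHom_range_eq_top σ hσ (φ.smulRight v)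
  have h1 : LinearMap.trace (Res M) V (D * σ.asAlgebraHom a) = 0 := by
    simp [asAlgebraHom_eq_sum, Finset.mul_sum, h]
  rw [ha, Module.End.mul_eq_comp,
    show D ∘ₗ φ.smulRight v = φ.smulRight (D v) from LinearMap.ext fun x => by simp,
    LinearMap.trace_smulRight] at h1
  exact h1

end density

/-- A commuting `p`-element does not change traces. -/
theorem trace_mul_pElement (hM : IsPModular p M) {V : Type*} [AddCommGroup V] [Module (Res M) V]
    [FiniteDimensional (Res M) V] (σ : Representation (Res M) G V) {z x : G} (hzx : Commute z x)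
    (hz : ∃ k : ℕ, orderOf z = p ^ k) :
    LinearMap.trace (Res M) V (σ (z * x)) = LinearMap.trace (Res M) V (σ x) := by
  have : Fact p.Prime := ⟨hM.1⟩
  have : CharP (Res M) p := res_charP M hM
  have : FiniteDimensional (Res M) σ.asModule := σ.asModuleEquiv.symm.finiteDimensional
  obtain ⟨k, hk⟩ := hz
  have hz1 : z ^ p ^ k = 1 := by rw [← hk, pow_orderOf_eq_one]
  rw [← traceForm_asModule σ, ← traceForm_asModule σ,
    Points.traceForm_mul (p := p) σ.asModule hzx (n := k) hz1]

end CfsgLib.Modular
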