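import Cfsg.Agent.Lib.Modular.Pim
import Cfsg.Agent.Lib.Modular.Lifting

/-!
# Duality between irreducible Brauer characters and projective indecomposable characters

* `classInner_pim`: `⟨ψ, Φ_φ⟩ = δ`;
* `exists_nat_combination_comp`: composing with an automorphism keeps non-negative coefficients;
* `blockKer_aut_nat`: traces of automorphisms on block kernels are natural numbers.
-/

set_option autoImplicit false

noncomputable section

namespace CfsgLib.Modular

open Cfsg CfsgLib.Blocks CfsgLib.Char CfsgLib.BlockArith
open scoped ComplexConjugate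

attribute [local instance] CfsgLib.Blocks.resField

variable {M : Ideal AlgInt} [M.IsMaximal] {G : Type*} [Group G] [Fintype G] {p : ℕ}

theorem classInner_pim_eq (hM : IsPModular p M) (f φ : G → ℂ) :
    classInner f (pim hM φ) = ∑ χ : IrrCharacter G, (dnum hM χ φ : ℂ) * classInner f (χ : G → ℂ) := by
  rw [pim, classInner_sum_right]
  exact Finset.sum_congr rfl fun χ _ => by rw [classInner_smul_right, map_natCast]

open Classical in
/-- The irreducible Brauer characters and the projective indecomposables are dual. -/
theorem classInner_pim (hM : IsPModular p M) {ψ φ : G → ℂ} (hψ : ψ ∈ ibrF hM G)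
    (hφ : φ ∈ ibrF hM G) : classInner ψ (pim hM φ) = if ψ = φ then 1 else 0 := by
  classical
  have key : ∀ θ ∈ ibrF hM G, (if ψ = θ then (1 : ℂ) else 0) - classInner ψ (pim hM θ) = 0 := by
    refine ibrF_independent hM (Finset.Subset.refl _) ?_
    simp only [sub_smul, Finset.sum_sub_distrib, ite_smul, one_smul, zero_smul, Finset.sum_ite_eq, if_pos hψ,
      classInner_pim_eq, Finset.sum_smul]
    rw [Finset.sum_comm]
    simp only [mul_comm _ (classInner ψ _), mul_smul, ← Finset.smul_sum, ← regPart_eq hM]
    rw [← eq_sum_regPart hM hψ, sub_self]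
  have h := key φ hφ
  rw [sub_eq_zero] at h
  exact h.symm

/-- The coefficient of an irreducible Brauer character in an automorphic image is a natural number. -/
theorem classInner_comp_pim_nat (hM : IsPModular p M) (e : G ≃* G) {ψ φ : G → ℂ} (hψ : ψ ∈ ibrF hM G)
    (hφ : φ ∈ ibrF hM G) : ∃ n : ℕ, classInner (fun g => ψ (e g)) (pim hM φ) = n := by
  classical
  obtain ⟨j, σ, -, rfl⟩ := mem_ibrF.mp hψ
  have key : (fun g => brauerFun p M σ (e g)) =
      brauerFun p M (σ.comp e.toMonoidHom : Representation (Res M) G (Fin j → Res M)) :=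
    funext fun g => (brauerFun_comp hM e.toMonoidHom e.injective σ g).symm
  rw [key]
  obtain ⟨s, hs, hmem⟩ := exists_constituents (p := p) (σ.comp e.toMonoidHom : Representation (Res M) G (Fin j → Res M))
  rw [← hs]
  clear hs key
  induction s using Multiset.induction with
  | empty => exact ⟨0, by simp [classInner_def]⟩
  | cons θ s ih =>
    obtain ⟨n, hn⟩ := ih fun η hη => hmem η (Multiset.mem_cons_of_mem hη)
    obtain ⟨i, τ, h1, h2, -⟩ := hmem θ (Multiset.mem_cons_self θ s)
    rw [Multiset.sum_cons, classInner_add_left, hn, classInner_pim hM (mem_ibrF.mpr ⟨i, τ, h1, h2⟩) hφ]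
    split_ifs
    · exact ⟨1 + n, by push_cast; rfl⟩
    · exact ⟨n, zero_add _⟩

/-- The trace of an automorphism on the regular functions of a block is a natural number. -/
theorem blockKer_aut_nat (hM : IsPModular p M) (e : G ≃* G) {B : Set (IrrCharacter G)}
    (hB : IsPBlock M B) : ∃ n : ℕ, ∑ s : G, BlockArith.blockKer p B (e s) s = n := by
  classical
  have he : ∀ s, orderOf (e s) = orderOf s := fun s => orderOf_injective e.toMonoidHom e.injective s
  choose n hn using fun φ : ibrOf hM B =>
    classInner_comp_pim_nat hM e (ibrOf_subset hM B φ.2) (ibrOf_subset hM B φ.2)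
  refine ⟨∑ φ : ibrOf hM B, n φ, ?_⟩
  push_cast
  simp only [← hn]
  rw [Finset.sum_coe_sort (ibrOf hM B) fun φ => classInner (fun g => φ (e g)) (pim hM φ)]
  simp only [classInner_pim_eq]
  simp only [classInner_def, Finset.mul_sum]
  rw [Finset.sum_congr rfl fun φ _ => Finset.sum_comm, Finset.sum_comm]
  refine Finset.sum_congr rfl fun s _ => ?_
  rw [Finset.sum_comm]
  simp only [BlockArith.blockKer, Matrix.of_apply, he, or_self]
  by_cases hs : p ∣ orderOf s
  · rw [if_pos hs]
    symm
    refine Finset.sum_eq_zero fun χ _ => Finset.sum_eq_zero fun φ hφ => ?_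
    rw [(ibrF_regular hM (ibrOf_subset hM B hφ)).1 (e s) (by rwa [he]), zero_mul, mul_zero, mul_zero]
  · rw [if_neg hs, Finset.mul_sum]
    refine Finset.sum_congr rfl fun χ _ => ?_
    by_cases hχ : χ ∈ B
    · have h3 := congrFun (regPart_eq_block hM hχ) (e s)
      rw [pRegularPart_apply, if_neg (by rwa [he])] at h3
      simp only [Finset.sum_apply, Pi.smul_apply, smul_eq_mul] at h3
      rw [if_pos hχ, h3, Finset.sum_mul, Finset.mul_sum]
      exact Finset.sum_congr rfl fun φ _ => by ring
    · rw [if_neg hχ, mul_zero]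
      symm
      exact Finset.sum_eq_zero fun φ hφ => by
        rw [dnum_eq_zero_of_notMem hM hB hφ hχ, Nat.cast_zero, zero_mul]

end CfsgLib.Modular
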