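import Cfsg.Agent.Lib.Modular.Coinduced
import Cfsg.Agent.Lib.Modular.PimDual

/-!
# Projective indecomposables over normal subgroups, linking, and covering of blocks

* `classInner_res_pim_pos`: a constituent `φ` of `μ` on a normal subgroup has `Φ_φ` inside `Φ_μ`;
* `blockOf_subset_of_linked`: a set closed under shared Brauer constituents is a union of blocks;
* `exists_over_of_covered`: every character of a covered block lies under the covering block.
-/

set_option autoImplicit false

noncomputable section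

namespace CfsgLib.Modular

open Cfsg CfsgLib.Blocks CfsgLib.Char CfsgLib.CharNormal CfsgLib.BlockArith
open scoped ComplexConjugate

attribute [local instance] CfsgLib.Blocks.resField

variable {M : Ideal AlgInt} [M.IsMaximal] {G : Type*} [Group G] [Fintype G] {p : ℕ}

/-- Brauer characters have natural coefficients. -/
theorem classInner_brauerFun_pim_nat (hM : IsPModular p M) {V : Type*} [AddCommGroup V] [Module (Res M) V]
    [FiniteDimensional (Res M) V] (ρ : Representation (Res M) G V) {φ : G → ℂ} (hφ : φ ∈ ibrF hM G) :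
    ∃ n : ℕ, classInner (brauerFun p M ρ) (pim hM φ) = n := by
  classical
  obtain ⟨s, hs, hmem⟩ := exists_constituents (p := p) ρ
  rw [← hs]
  clear hs
  induction s using Multiset.induction with
  | empty => exact ⟨0, by simp [classInner_def]⟩
  | cons θ s ih =>
    obtain ⟨n, hn⟩ := ih fun η hη => hmem η (Multiset.mem_cons_of_mem hη)
    obtain ⟨i, τ, h1, h2, -⟩ := hmem θ (Multiset.mem_cons_self θ s)
    rw [Multiset.sum_cons, classInner_add_left, hn, classInner_pim hM (mem_ibrF.mpr ⟨i, τ, h1, h2⟩) hφ]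
    split_ifs
    · exact ⟨1 + n, by push_cast; rfl⟩
    · exact ⟨n, zero_add _⟩

theorem classInner_pim_regPart (hM : IsPModular p M) {φ : G → ℂ} (hφ : φ ∈ ibrF hM G) (f : G → ℂ) :
    classInner (pRegularPart p f) (pim hM φ) = classInner f (pim hM φ) := by
  classical
  rw [classInner_def, classInner_def]
  refine congrArg _ (Finset.sum_congr rfl fun g _ => ?_)
  rw [pRegularPart_apply]
  split_ifs with hg
  · rw [pim_singular hM hφ hg, map_zero, mul_zero, mul_zero]
  · rfl

variable (N : Subgroup G) [hN : N.Normal] [Fintype N]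

omit hN in
theorem classInner_res_eq (hM : IsPModular p M) (f : N → ℂ) (μ : G → ℂ) :
    classInner f (fun n : N => pim hM μ n) =
      ∑ χ : IrrCharacter G, (dnum hM χ μ : ℂ) * classInner f (fun n : N => (χ : G → ℂ) n) := by
  have : (fun n : N => pim hM μ n) = ∑ χ : IrrCharacter G, (dnum hM χ μ : ℂ) • fun n : N => (χ : G → ℂ) n := by
    funext n
    simp [pim, Finset.sum_apply]
  rw [this, classInner_sum_right]
  exact Finset.sum_congr rfl fun χ _ => by rw [classInner_smul_right, map_natCast]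

theorem classInner_coind (hM : IsPModular p M) {j : ℕ} (σ : Representation (Res M) N (Fin j → Res M))
    (μ : G → ℂ) :
    classInner (brauerFun p M (coind N σ)) (pim hM μ) =
      classInner (brauerFun p M σ) (fun n : N => pim hM μ n) := by
  classical
  let _ := Fintype.ofFinite (G ⧸ N)
  obtain ⟨h1, h2⟩ := brauerFun_coind N hM σ
  have hinv : ∀ q : G ⧸ N, classInner (conjFun N q.out (brauerFun p M σ)) (fun n : N => pim hM μ n) =
      classInner (brauerFun p M σ) (fun n : N => pim hM μ n) := fun q => by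
    conv_lhs => rw [← conjFun_res N (isClassFunction_of_isCharacter (isCharacter_pim hM μ)) q.out]
    exact classInner_conjFun N q.out _ _
  have hsum : ∑ g : G, brauerFun p M (coind N σ) g * conj (pim hM μ g) =
      ∑ q : G ⧸ N, ∑ n : N, conjFun N q.out (brauerFun p M σ) n * conj (pim hM μ n) := by
    rw [← Finset.sum_subset (Finset.subset_univ ((Finset.univ : Finset N).map (Function.Embedding.subtype _))),
      Finset.sum_map, Finset.sum_comm]
    · refine Finset.sum_congr rfl fun n _ => ?_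
      rw [Function.Embedding.coe_subtype, h1 n, Finset.sum_mul]
    · intro g _ hg
      rw [h2 g fun h => hg (Finset.mem_map.mpr ⟨⟨g, h⟩, Finset.mem_univ _, rfl⟩), zero_mul]
  have hmul : ∀ f : N → ℂ, ∑ n : N, f n * conj (pim hM μ n) =
      (Nat.card N : ℂ) * classInner f (fun n : N => pim hM μ n) := fun f => by
    rw [classInner_def, ← mul_assoc, mul_inv_cancel₀ (Nat.cast_ne_zero.mpr Nat.card_pos.ne'), one_mul]
  simp only [hmul, hinv] at hsum
  rw [classInner_def, hsum, Finset.sum_const, Finset.card_univ, nsmul_eq_mul,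
    ← Nat.card_eq_fintype_card, ← mul_assoc, ← mul_assoc,
    mul_assoc ((Nat.card G : ℂ)⁻¹), ← Nat.cast_mul, ← Subgroup.card_eq_card_quotient_mul_card_subgroup,
    inv_mul_cancel₀ (Nat.cast_ne_zero.mpr Nat.card_pos.ne'), one_mul]

/-- Natural multiplicity of `Φ_φ` in a restricted projective indecomposable. -/
theorem classInner_res_pim_nat (hM : IsPModular p M) {μ : G → ℂ} (hμ : μ ∈ ibrF hM G) {φ : N → ℂ}
    (hφ : φ ∈ ibrF hM N) : ∃ n : ℕ, classInner φ (fun n : N => pim hM μ n) = n := by
  obtain ⟨j, σ, -, rfl⟩ := mem_ibrF.mp hφ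
  rw [← classInner_coind]
  exact classInner_brauerFun_pim_nat hM _ hμ

/-- A constituent `φ` of `μ` has `Φ_φ` inside the restriction of `Φ_μ`. -/
theorem classInner_res_pim_pos (hM : IsPModular p M) {μ : G → ℂ} (hμ : μ ∈ ibrF hM G) {φ : N → ℂ}
    (hφ : φ ∈ ibrF hM N) (h : classInner (fun n : N => μ n) (pim hM φ) ≠ 0) :
    ∃ n : ℕ, 0 < n ∧ classInner φ (fun n : N => pim hM μ n) = n := by
  classical
  obtain ⟨i, j, ρ, σ, π, s, hρ, hμe, hσ, hπ, hinj, hs⟩ := exists_res_conj (N := N) hM hμ
  have hσm : brauerFun p M σ ∈ ibrF hM N := mem_ibrF.mpr ⟨j, σ, hσ, rfl⟩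
  rw [hs] at h
  obtain ⟨g, hg⟩ : ∃ g : G, conjFun N g (brauerFun p M σ) = φ := by
    by_contra hne
    push Not at hne
    refine h ?_
    clear hs h
    induction s using Multiset.induction with
    | empty => simp [classInner_def]
    | cons g s ih =>
      rw [Multiset.map_cons, Multiset.sum_cons, classInner_add_left,
        classInner_pim hM (conjFun_mem_ibrF N hM g hσm) hφ, if_neg (hne g), ih, add_zero]
  subst hg
  rw [← conjFun_res N (isClassFunction_of_isCharacter (isCharacter_pim hM μ)) g, classInner_conjFun,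
    ← classInner_coind]
  obtain ⟨U, hU, hUb⟩ := exists_coind_embed N π hπ hinj
  rw [brauerFun_eq_add (coind N σ) U hU, classInner_add_left, hUb, hμe, classInner_pim hM hμ hμ, if_pos rfl]
  obtain ⟨n, hn⟩ := classInner_brauerFun_pim_nat hM (quotRep (coind N σ) U hU) hμ
  exact ⟨1 + n, by omega, by rw [hn]; push_cast; rfl⟩

omit hN [Fintype N] in
/-- A set closed under shared Brauer constituents is a union of blocks. -/
theorem blockOf_subset_of_linked (hM : IsPModular p M) {T : Set (IrrCharacter G)}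
    (hT : ∀ χ ∈ T, ∀ ψ : IrrCharacter G, ∀ φ ∈ ibrF hM G, dnum hM χ φ ≠ 0 → dnum hM ψ φ ≠ 0 → ψ ∈ T)
    {χ : IrrCharacter G} (hχ : χ ∈ T) : blockOf M (χ : G → ℂ) ⊆ T := by
  classical
  refine blockOf_subset_of_integral (fun g => ?_) hχ
  have hS : ∀ φ ∈ ibrF hM G, ∀ f : IrrCharacter G → ℂ,
      ∑ ψ : IrrCharacter G, (if ψ ∈ T then (dnum hM ψ φ : ℂ) * f ψ else 0) =
        (if ∃ ψ ∈ T, dnum hM ψ φ ≠ 0 then ∑ ψ : IrrCharacter G, (dnum hM ψ φ : ℂ) * f ψ else 0) := by
    intro φ hφ f
    by_cases h : ∃ ψ ∈ T, dnum hM ψ φ ≠ 0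
    · obtain ⟨ψ₀, h0, hd⟩ := h
      rw [if_pos ⟨ψ₀, h0, hd⟩]
      refine Finset.sum_congr rfl fun ψ _ => ?_
      by_cases hψ : ψ ∈ T
      · rw [if_pos hψ]
      · have : dnum hM ψ φ = 0 := by
          by_contra hne; exact hψ (hT ψ₀ h0 ψ φ hφ hd hne)
        rw [if_neg hψ, this, Nat.cast_zero, zero_mul]
    · rw [if_neg h]
      push Not at h
      refine Finset.sum_eq_zero fun ψ _ => ?_
      split_ifs with hψ
      · rw [h ψ hψ, Nat.cast_zero, zero_mul]
      · rfl
  have hpimφ : ∀ φ (x : G), ∑ ψ : IrrCharacter G, (dnum hM ψ φ : ℂ) * (ψ : G → ℂ) x = pim hM φ x :=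
    fun φ x => by simp [pim, Finset.sum_apply]
  have h1 : ¬ p ∣ orderOf (1 : G) := by rw [orderOf_one]; exact hM.1.not_dvd_one
  rw [blockCoeff_eq]
  by_cases hg : p ∣ orderOf g
  · have e : ∀ ψ : IrrCharacter G, (if ψ ∈ T then (ψ : G → ℂ) 1 * conj ((ψ : G → ℂ) g) else 0) =
        ∑ φ ∈ ibrF hM G, φ 1 * (if ψ ∈ T then (dnum hM ψ φ : ℂ) * conj ((ψ : G → ℂ) g) else 0) := by
      intro ψ
      split_ifs
      · have h := congrFun (regPart_eq hM ψ) 1
        rw [pRegularPart_apply, if_neg h1] at h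
        rw [h, Finset.sum_apply, Finset.sum_mul]
        exact Finset.sum_congr rfl fun φ _ => by simp only [Pi.smul_apply, smul_eq_mul]; ring
      · simp
    rw [Finset.sum_congr rfl fun ψ _ => e ψ, Finset.sum_comm,
      Finset.sum_eq_zero fun φ hφ => ?_, mul_zero]
    · exact Subring.zero_mem _
    rw [← Finset.mul_sum, hS φ hφ fun ψ => conj ((ψ : G → ℂ) g)]
    split_ifs
    · have : ∑ ψ : IrrCharacter G, (dnum hM ψ φ : ℂ) * conj ((ψ : G → ℂ) g) = conj (pim hM φ g) := by
        rw [← hpimφ, map_sum]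
        exact Finset.sum_congr rfl fun ψ _ => by rw [map_mul, map_natCast]
      rw [this, pim_singular hM hφ hg, map_zero, mul_zero]
    · rw [mul_zero]
  · have e : ∀ ψ : IrrCharacter G, (if ψ ∈ T then (ψ : G → ℂ) 1 * conj ((ψ : G → ℂ) g) else 0) =
        ∑ φ ∈ ibrF hM G, conj (φ g) * (if ψ ∈ T then (dnum hM ψ φ : ℂ) * (ψ : G → ℂ) 1 else 0) := by
      intro ψ
      split_ifs
      · have h := congrFun (regPart_eq hM ψ) g
        rw [pRegularPart_apply, if_neg hg] at h
        rw [h, Finset.sum_apply, map_sum, Finset.mul_sum]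
        exact Finset.sum_congr rfl fun φ _ => by
          simp only [Pi.smul_apply, smul_eq_mul, map_mul, map_natCast]; ring
      · simp
    rw [Finset.sum_congr rfl fun ψ _ => e ψ, Finset.sum_comm, Finset.mul_sum]
    refine Subring.sum_mem _ fun φ hφ => ?_
    rw [← Finset.mul_sum, hS φ hφ fun ψ => (ψ : G → ℂ) 1]
    split_ifs
    · rw [hpimφ]
      obtain ⟨n, -, hdvd, hn⟩ := pim_one hM hφ
      obtain ⟨i, σ, -, rfl⟩ := mem_ibrF.mp hφ
      rw [hn, mul_left_comm]
      refine Subring.mul_mem _ (algInt_le_locRing M ?_) ?_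
      · exact IsIntegral.map (Complex.conjAe.restrictScalars ℤ) (isIntegral_brauerFun hM σ g)
      · rw [inv_mul_eq_div]
        refine frac_mem_locRing hM Nat.card_pos.ne' ?_
        rcases Nat.eq_zero_or_pos n with h | h
        · exact Or.inl h
        · exact Or.inr ((hM.1.pow_dvd_iff_le_factorization h.ne').mp hdvd)
    · rw [mul_zero, mul_zero]; exact Subring.zero_mem _

/-- Every character of a covered block of a normal subgroup lies under the covering block. -/
theorem exists_over_of_covered (hM : IsPModular p M) {B : Set (IrrCharacter G)} (hB : IsPBlock M B)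
    {θ₀ θ : IrrCharacter N} (hθ : θ ∈ blockOf M (θ₀ : N → ℂ)) {χ₀ : IrrCharacter G} (hχ₀ : χ₀ ∈ B)
    (h₀ : classInner (fun n : N => (χ₀ : G → ℂ) n) (θ₀ : N → ℂ) ≠ 0) :
    ∃ χ ∈ B, classInner (fun n : N => (χ : G → ℂ) n) (θ : N → ℂ) ≠ 0 := by
  classical
  let T : Set (IrrCharacter N) := {η | ∃ χ ∈ B, classInner (fun n : N => (χ : G → ℂ) n) (η : N → ℂ) ≠ 0}
  refine blockOf_subset_of_linked hM (T := T) ?_ ⟨χ₀, hχ₀, h₀⟩ hθ
  rintro η ⟨χ, hχ, hη⟩ η' φ hφ hd hd'
  -- some constituent of `χ` restricts onto `φ`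
  have hchi : classInner (fun n : N => (χ : G → ℂ) n) (pim hM φ) ≠ 0 := by
    choose c hc using fun ψ : IrrCharacter N => classInner_char_nat
      (isCharacter_res N (isCharacter_of_isIrr χ.2)) (isCharacter_of_isIrr ψ.2)
    rw [classInner_pim_eq]
    simp only [hc, ← Nat.cast_mul, ← Nat.cast_sum, ne_eq, Nat.cast_eq_zero, Finset.sum_eq_zero_iff,
      Finset.mem_univ, true_implies, not_forall, mul_eq_zero, not_or]
    refine ⟨η, hd, fun h => hη ?_⟩
    rw [hc, h, Nat.cast_zero]
  have hreg : pRegularPart p (fun n : N => (χ : G → ℂ) n) =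
      ∑ μ ∈ ibrF hM G, (dnum hM χ μ : ℂ) • fun n : N => μ n := by
    funext n
    have h := congrFun (regPart_eq hM χ) (n : G)
    rw [pRegularPart_apply, Finset.sum_apply] at h
    rw [pRegularPart_apply, Finset.sum_apply]
    rw [Subgroup.orderOf_coe] at h
    exact h
  rw [← classInner_pim_regPart hM hφ, hreg, classInner_sum_left] at hchi
  obtain ⟨μ, hμ, hne⟩ := Finset.exists_ne_zero_of_sum_ne_zero hchi
  rw [classInner_smul_left, mul_ne_zero_iff, Nat.cast_ne_zero] at hne
  obtain ⟨n, hn0, hn⟩ := classInner_res_pim_pos N hM hμ hφ hne.2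
  -- hence `η'` lies in the restriction of `Φ_μ`
  have hη' : classInner (η' : N → ℂ) (fun n : N => pim hM μ n) ≠ 0 := by
    have e : classInner (η' : N → ℂ) (fun n : N => pim hM μ n) =
        classInner (pRegularPart p (η' : N → ℂ)) (fun n : N => pim hM μ n) := by
      rw [classInner_def, classInner_def]
      refine congrArg _ (Finset.sum_congr rfl fun n _ => ?_)
      rw [pRegularPart_apply]
      split_ifs with h
      · rw [pim_singular hM hμ (by rwa [Subgroup.orderOf_coe]), map_zero, mul_zero, mul_zero]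
      · rfl
    choose c hc using fun ψ : ibrF hM N => classInner_res_pim_nat N hM hμ ψ.2
    rw [e, regPart_eq hM η', classInner_sum_left]
    simp only [classInner_smul_left]
    rw [← Finset.sum_coe_sort]
    simp only [hc, ← Nat.cast_mul, ← Nat.cast_sum, ne_eq, Nat.cast_eq_zero, Finset.sum_eq_zero_iff,
      Finset.mem_univ, true_implies, not_forall, mul_eq_zero, not_or]
    refine ⟨⟨φ, hφ⟩, hd', fun h => ?_⟩
    have := hc ⟨φ, hφ⟩
    rw [h, hn, Nat.cast_zero, Nat.cast_eq_zero] at this
    omega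
  rw [classInner_res_eq] at hη'
  obtain ⟨χ', -, hne'⟩ := Finset.exists_ne_zero_of_sum_ne_zero hη'
  rw [mul_ne_zero_iff, Nat.cast_ne_zero] at hne'
  refine ⟨χ', ?_, fun h => hne'.2 ?_⟩
  · by_contra hnot
    exact hne'.1 (dnum_eq_zero_of_notMem hM hB (mem_ibrOf.mpr ⟨hμ, χ, hχ, hne.1⟩) hnot)
  · rw [← classInner_conj_symm, h, map_zero]

end CfsgLib.Modular
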