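import Cfsg.Agent.Lib.Modular.Decomposition

/-!
# The number of irreducible Brauer characters

* `card_regular_classes`: it is the number of classes of `p`-regular elements;
* `exists_iso_of_brauerFun_eq`: an irreducible representation is determined by its Brauer character;
* `card_ibrF_eq`: it is the size of any complete invariant of the irreducible representations.
-/

set_option autoImplicit false
set_option linter.style.haveILetI false
set_option linter.unusedSectionVars false

noncomputable section

namespace CfsgLib.Modular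

open Cfsg CfsgLib.Blocks CfsgLib.Blocks.Points CfsgLib.Char CfsgLib.BlockArith

attribute [local instance] CfsgLib.Blocks.resField

variable {M : Ideal AlgInt} [M.IsMaximal] {G : Type*} [Group G] [Fintype G] {p : ℕ}

/-- The irreducible Brauer characters are as many as the classes of `p`-regular elements. -/
theorem card_regular_classes (hM : IsPModular p M) :
    Nat.card {c : ConjClasses G // ∃ g : G, ConjClasses.mk g = c ∧ ¬ p ∣ orderOf g} =
      (ibrF hM G).card := by
  classical
  haveI : Finite (ConjClasses G) := Finite.of_surjective _ ConjClasses.mk_surjective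
  haveI : Fintype (ConjClasses G) := Fintype.ofFinite _
  set R := {c : ConjClasses G // ∃ g : G, ConjClasses.mk g = c ∧ ¬ p ∣ orderOf g}
  have hreg : ∀ {g h : G}, ConjClasses.mk g = ConjClasses.mk h → orderOf g = orderOf h := by
    intro g h e
    obtain ⟨c, rfl⟩ := isConj_iff.mp (ConjClasses.mk_eq_mk_iff_isConj.mp e)
    exact (orderOf_injective (MulAut.conj c).toMonoidHom (MulAut.conj c).injective g).symm
  let v : ibrF hM G → (R → ℂ) := fun φ c => (φ : G → ℂ) c.2.choose
  have hval : ∀ (φ : ibrF hM G) (g : G) (hg : ¬ p ∣ orderOf g),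
      v φ ⟨ConjClasses.mk g, g, rfl, hg⟩ = (φ : G → ℂ) g := by
    intro φ g hg
    set c : R := ⟨ConjClasses.mk g, g, rfl, hg⟩
    obtain ⟨h, hh⟩ := isConj_iff.mp (ConjClasses.mk_eq_mk_iff_isConj.mp c.2.choose_spec.1)
    show (φ : G → ℂ) c.2.choose = _
    rw [← (ibrF_regular hM φ.2).2 c.2.choose h, hh]
  have hli : LinearIndependent ℂ v := by
    rw [Fintype.linearIndependent_iff]
    intro c hc
    refine congrFun (brauer_independent hM (φ := fun x : ibrF hM G => (x : G → ℂ))
      Subtype.val_injective (fun x => mem_ibrF.mp x.2) (c := c) fun g hg => ?_)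
    have h2 := congrFun hc ⟨ConjClasses.mk g, g, rfl, hg⟩
    simp only [Finset.sum_apply, Pi.smul_apply, smul_eq_mul, Pi.zero_apply] at h2
    rw [← h2]
    exact Finset.sum_congr rfl fun φ _ => by rw [hval φ g hg]
  have hspan : ⊤ ≤ Submodule.span ℂ (Set.range v) := by
    intro f _
    let F : G → ℂ := fun g =>
      if hg : ¬ p ∣ orderOf g then f ⟨ConjClasses.mk g, g, rfl, hg⟩ else 0
    have hF : IsClassFunction G F := by
      intro g h
      have hm : ConjClasses.mk (h * g * h⁻¹) = ConjClasses.mk g :=
        ConjClasses.mk_eq_mk_iff_isConj.mpr (isConj_iff.mpr ⟨h⁻¹, by group⟩)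
      show F (h * g * h⁻¹) = F g
      by_cases hg : ¬ p ∣ orderOf g
      · rw [show F g = _ from dif_pos hg, show F (h * g * h⁻¹) = _ from
          dif_pos (by rw [hreg hm]; exact hg)]
        exact congrArg f (Subtype.ext hm)
      · rw [show F g = _ from dif_neg hg, show F (h * g * h⁻¹) = _ from
          dif_neg (by rw [hreg hm]; exact hg)]
    have key : f = ∑ χ : IrrCharacter G, ∑ φ : ibrF hM G,
        (classInner F (χ : G → ℂ) * (dnum hM χ (φ : G → ℂ) : ℂ)) • v φ := by
      funext c
      obtain ⟨cl, g, rfl, hg⟩ := c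
      have h1 := congrFun (classFun_eq_sum hF) g
      rw [show F g = _ from dif_pos hg] at h1
      rw [h1, Finset.sum_apply, Finset.sum_apply]
      refine Finset.sum_congr rfl fun χ _ => ?_
      have h2 := congrFun (regPart_eq hM χ) g
      rw [pRegularPart_apply, if_neg hg, Finset.sum_apply, ← Finset.sum_coe_sort] at h2
      rw [Pi.smul_apply, smul_eq_mul, h2, Finset.mul_sum, Finset.sum_apply]
      refine Finset.sum_congr rfl fun φ _ => ?_
      rw [Pi.smul_apply, Pi.smul_apply, smul_eq_mul, smul_eq_mul, hval φ g hg, mul_assoc]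
    rw [key]
    exact Submodule.sum_mem _ fun χ _ => Submodule.sum_mem _ fun φ _ =>
      Submodule.smul_mem _ _ (Submodule.subset_span ⟨φ, rfl⟩)
  have h := Module.finrank_eq_card_basis (Module.Basis.mk hli hspan)
  rw [Module.finrank_pi, Fintype.card_coe] at h
  rw [Nat.card_eq_fintype_card, h]

/-- Pairwise non-isomorphic irreducible representations have independent traces. -/
theorem trace_independent {ι : Type*} [Fintype ι] {n : ι → ℕ}
    (σ : ∀ i, Representation (Res M) G (Fin (n i) → Res M)) (hirr : ∀ i, (σ i).IsIrreducible)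
    (hne : ∀ i j, i ≠ j → ¬ ∃ e : (Fin (n i) → Res M) ≃ₗ[Res M] (Fin (n j) → Res M),
      ∀ g v, e (σ i g v) = σ j g (e v))
    (d : ι → Res M)
    (hd : ∀ a : MonoidAlgebra (Res M) G,
      ∑ i, d i * LinearMap.trace (Res M) _ ((σ i).asAlgebraHom a) = 0) : d = 0 := by
  classical
  have := res_isAlgClosed M
  let S : ι → Type := fun i => (σ i).asModule
  let _ : ∀ i, AddCommGroup (S i) := fun i => inferInstanceAs (AddCommGroup (σ i).asModule)
  let _ : ∀ i, Module (Res M) (S i) := fun i => inferInstanceAs (Module (Res M) (σ i).asModule)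
  let _ : ∀ i, Module (MonoidAlgebra (Res M) G) (S i) := fun i =>
    inferInstanceAs (Module (MonoidAlgebra (Res M) G) (σ i).asModule)
  have : ∀ i, IsScalarTower (Res M) (MonoidAlgebra (Res M) G) (S i) := fun i =>
    inferInstanceAs (IsScalarTower (Res M) (MonoidAlgebra (Res M) G) (σ i).asModule)
  have : ∀ i, FiniteDimensional (Res M) (S i) := fun i =>
    inferInstanceAs (Module.Finite (Res M) (σ i).asModule)
  have : ∀ i, IsSimpleModule (MonoidAlgebra (Res M) G) (S i) := fun i =>
    (σ i).irreducible_iff_isSimpleModule_asModule.mp (hirr i)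
  refine trace_forms_independent (k := Res M) (A := MonoidAlgebra (Res M) G) S
    (fun i j hij => ⟨fun E => hne i j hij ?_⟩) d hd
  refine ⟨(σ i).asModuleEquiv.symm ≪≫ₗ E.restrictScalars (Res M) ≪≫ₗ (σ j).asModuleEquiv,
    fun g v => ?_⟩
  show (σ j).asModuleEquiv (E ((σ i).asModuleEquiv.symm (σ i g v))) =
    σ j g ((σ j).asModuleEquiv (E ((σ i).asModuleEquiv.symm v)))
  rw [Representation.asModuleEquiv_symm_map_rho, map_smul, Representation.asModuleEquiv_map_smul,
    Representation.asAlgebraHom_of]

/-- An irreducible representation is determined by its Brauer character. -/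
theorem exists_iso_of_brauerFun_eq (hM : IsPModular p M) {i j : ℕ}
    {σ : Representation (Res M) G (Fin i → Res M)} {τ : Representation (Res M) G (Fin j → Res M)}
    (hσ : σ.IsIrreducible) (hτ : τ.IsIrreducible) (h : brauerFun p M σ = brauerFun p M τ) :
    ∃ e : (Fin i → Res M) ≃ₗ[Res M] (Fin j → Res M), ∀ g v, e (σ g v) = τ g (e v) := by
  classical
  by_contra hne
  let n : Bool → ℕ := fun b => Bool.rec i j b
  let ρ : ∀ b : Bool, Representation (Res M) G (Fin (n b) → Res M) := fun b => Bool.rec σ τ b
  have hz := trace_independent ρ (fun b => by cases b <;> assumption)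
    (fun b c hbc => by
      rintro ⟨e, he⟩
      cases b <;> cases c
      · exact hbc rfl
      · exact hne ⟨e, he⟩
      · refine hne ⟨e.symm, fun g v => e.injective ?_⟩
        have h1 : e (τ g (e.symm v)) = σ g (e (e.symm v)) := he g (e.symm v)
        rw [LinearEquiv.apply_symm_apply] at h1 ⊢
        exact h1.symm
      · exact hbc rfl)
    (fun b => Bool.rec (1 : Res M) (-1) b) (fun a => by
      rw [Fintype.sum_bool]
      show -1 * LinearMap.trace (Res M) (Fin j → Res M) (τ.asAlgebraHom a) +
        1 * LinearMap.trace (Res M) (Fin i → Res M) (σ.asAlgebraHom a) = 0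
      rw [trace_eq_of_brauerFun_eq hM h a]
      ring)
  exact one_ne_zero (congrFun hz false)

/-- The irreducible Brauer characters are as many as the values of a complete invariant. -/
theorem card_ibrF_eq (hM : IsPModular p M) {P : Type*}
    (Inv : ∀ n : ℕ, Representation (Res M) G (Fin n → Res M) → P → Prop)
    (ex : ∀ n σ, σ.IsIrreducible → ∃ x, Inv n σ x)
    (uniq : ∀ n σ x y, σ.IsIrreducible → Inv n σ x → Inv n σ y → x = y)
    (surj : ∀ x, ∃ n σ, σ.IsIrreducible ∧ Inv n σ x)
    (inj : ∀ m n (σ : Representation (Res M) G (Fin m → Res M))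
      (τ : Representation (Res M) G (Fin n → Res M)) x, σ.IsIrreducible → τ.IsIrreducible →
      Inv m σ x → Inv n τ x → ∃ e : (Fin m → Res M) ≃ₗ[Res M] (Fin n → Res M),
        ∀ g v, e (σ g v) = τ g (e v))
    (congr : ∀ m n (σ : Representation (Res M) G (Fin m → Res M))
      (τ : Representation (Res M) G (Fin n → Res M))
      (e : (Fin m → Res M) ≃ₗ[Res M] (Fin n → Res M)) x, (∀ g v, e (σ g v) = τ g (e v)) →
      Inv m σ x → Inv n τ x) :
    (ibrF hM G).card = Nat.card P := by
  classical
  choose n σ hirr hinv using surj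
  let F : P → ibrF hM G := fun x => ⟨brauerFun p M (σ x), mem_ibrF.mpr ⟨n x, σ x, hirr x, rfl⟩⟩
  have hbij : Function.Bijective F := by
    refine ⟨fun x y hxy => ?_, fun φ => ?_⟩
    · obtain ⟨e, he⟩ := exists_iso_of_brauerFun_eq hM (hirr x) (hirr y) (congrArg Subtype.val hxy)
      exact uniq _ _ x y (hirr y) (congr _ _ _ _ e x he (hinv x)) (hinv y)
    · obtain ⟨j, τ, hτ, hb⟩ := mem_ibrF.mp φ.2
      obtain ⟨x, hx⟩ := ex _ _ hτ
      obtain ⟨e, he⟩ := inj _ _ _ _ x (hirr x) hτ (hinv x) hx
      exact ⟨x, Subtype.ext ((brauerFun_equiv (σ x) e he).trans hb)⟩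
  rw [Nat.card_eq_of_bijective F hbij, Nat.card_eq_fintype_card, Fintype.card_coe]

end CfsgLib.Modular
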