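import Cfsg.Agent.Lib.Modular.Lifting
import Cfsg.Agent.Lib.CharNormal.Clifford

/-!
# Coinduced representations from normal subgroups and modular Clifford theory

* `brauerFun_surj`: additivity along a surjective intertwining map;
* `exists_res_conj`: an irreducible Brauer character restricts to a sum of conjugates of one;
* `coind`, `brauerFun_coind`: the coinduced representation and its Brauer character;
* `exists_coind_embed`: an irreducible representation embeds in a coinduced one.
-/

set_option autoImplicit false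

noncomputable section

namespace CfsgLib.Modular

open Cfsg CfsgLib.Blocks CfsgLib.Char CfsgLib.CharNormal Polynomial

attribute [local instance] CfsgLib.Blocks.resField

variable {M : Ideal AlgInt} [M.IsMaximal] {G : Type*} [Group G] {p : ℕ}

section general

variable {V W : Type*} [AddCommGroup V] [Module (Res M) V] [FiniteDimensional (Res M) V]
  [AddCommGroup W] [Module (Res M) W] [FiniteDimensional (Res M) W]

omit [FiniteDimensional (Res M) V] [FiniteDimensional (Res M) W] in
theorem ker_invariant {ρ : Representation (Res M) G V} {σ : Representation (Res M) G W} (f : V →ₗ[Res M] W)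
    (h : ∀ g v, f (ρ g v) = σ g (f v)) : ∀ g, LinearMap.ker f ≤ (LinearMap.ker f).comap (ρ g) :=
  fun g v hv => by
    rw [LinearMap.mem_ker] at hv
    rw [Submodule.mem_comap, LinearMap.mem_ker, h, hv, map_zero]

/-- Additivity along a surjective intertwining map. -/
theorem brauerFun_surj {ρ : Representation (Res M) G V} {σ : Representation (Res M) G W} (f : V →ₗ[Res M] W)
    (hf : Function.Surjective f) (h : ∀ g v, f (ρ g v) = σ g (f v)) :
    brauerFun p M ρ = brauerFun p M (subRep ρ (LinearMap.ker f) (ker_invariant f h)) + brauerFun p M σ := by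
  rw [brauerFun_eq_add ρ _ (ker_invariant f h)]
  congr 1
  refine brauerFun_equiv _ (f.quotKerEquivOfSurjective hf) fun g w => ?_
  obtain ⟨v, rfl⟩ := Submodule.mkQ_surjective _ w
  exact h g v

omit [FiniteDimensional (Res M) V] in
theorem brauerFun_zero_module [FiniteDimensional (Res M) V] [Subsingleton V] (ρ : Representation (Res M) G V) :
    brauerFun p M ρ = 0 := by
  funext g
  by_cases hg : p ∣ orderOf g
  · rw [brauerFun_singular _ hg]; rfl
  · rw [brauerFun_regular _ hg]
    have : (ρ g).charpoly.roots = 0 := by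
      rw [← Multiset.card_eq_zero, card_roots_charpoly, Module.finrank_zero_of_subsingleton]
    simp [this]

theorem isIntegral_brauerFun [Finite G] (hM : IsPModular p M) (ρ : Representation (Res M) G V) (g : G) :
    IsIntegral ℤ (brauerFun p M ρ g) := by
  by_cases hg : p ∣ orderOf g
  · rw [brauerFun_singular _ hg]; exact isIntegral_zero
  rw [brauerFun_regular _ hg]
  refine IsIntegral.multiset_sum fun z hz => ?_
  obtain ⟨l, hl, rfl⟩ := Multiset.mem_map.mp hz
  have hm := not_dvd_pm (G := G) hM.1
  exact IsIntegral.of_pow (Nat.pos_of_ne_zero fun h0 : pm p G = 0 => hm (by rw [h0]; exact dvd_zero p))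
    (by rw [(liftRoot_spec hM hm (pow_of_isRoot ρ hM.1 hg hl)).1]; exact isIntegral_one)

theorem resI_mul {a b : ℂ} (ha : a ∈ locRing M) (hb : b ∈ locRing M) : resI M (a * b) = resI M a * resI M b := by
  rw [show a * b = (((⟨a, ha⟩ : locRing M) * ⟨b, hb⟩ : locRing M) : ℂ) from rfl, resI_coe, map_mul,
    ← resI_coe ⟨a, ha⟩, ← resI_coe ⟨b, hb⟩]

theorem liftRoot_mul (hM : IsPModular p M) {m : ℕ} (hm : ¬ p ∣ m) {a b : Res M} (ha : a ^ m = 1)
    (hb : b ^ m = 1) : liftRoot M m (a * b) = liftRoot M m a * liftRoot M m b := by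
  have hm0 : 0 < m := Nat.pos_of_ne_zero fun h0 => hm (by rw [h0]; exact dvd_zero p)
  obtain ⟨x, hx, rfl⟩ := exists_root_resI hM hm ha
  obtain ⟨y, hy, rfl⟩ := exists_root_resI hM hm hb
  rw [← resI_mul (root_mem_locRing hm0 hx) (root_mem_locRing hm0 hy),
    liftRoot_resI hM hm (by rw [mul_pow, hx, hy, one_mul]), liftRoot_resI hM hm hx, liftRoot_resI hM hm hy]

theorem roots_charpoly_smul (f : V →ₗ[Res M] V) {c : Res M} (hc : c ≠ 0) :
    (c • f).charpoly.roots = f.charpoly.roots.map (c * ·) := by
  have := infinite_res (M := M)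
  have := res_isAlgClosed M
  suffices (c • f).charpoly = ((f.charpoly.roots.map (c * ·)).map fun a => X - C a).prod by
    rw [this, roots_multiset_prod_X_sub_C]
  refine Polynomial.funext fun t => ?_
  have e1 : algebraMap (Res M) (Module.End (Res M) V) t - c • f =
      c • (algebraMap (Res M) (Module.End (Res M) V) (t / c) - f) := by
    ext v
    simp [Module.algebraMap_end_apply, smul_sub, smul_smul, mul_div_cancel₀ _ hc]
  rw [LinearMap.eval_charpoly, e1, LinearMap.det_smul, ← LinearMap.eval_charpoly, eval_multiset_prod,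
    ← card_roots_charpoly f]
  conv_lhs => rw [(IsAlgClosed.splits f.charpoly).eq_prod_roots_of_monic (LinearMap.charpoly_monic f),
    eval_multiset_prod, roots_multiset_prod_X_sub_C]
  simp only [Multiset.map_map, Function.comp_def, eval_sub, eval_X, eval_C]
  rw [← Multiset.prod_replicate, ← Multiset.map_const', ← Multiset.prod_map_mul]
  congr 1
  refine Multiset.map_congr rfl fun a _ => ?_
  field_simp

theorem subRep_apply (ρ : Representation (Res M) G V) (U : Submodule (Res M) V)
    (hU : ∀ g, U ≤ U.comap (ρ g)) (g : G) (v : U) : (subRep ρ U hU g v : V) = ρ g (v : V) := rfl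

end general

/-- Pull a representation back along a homomorphism. -/
def pullRep {H : Type*} [Group H] {V : Type*} [AddCommGroup V] [Module (Res M) V]
    (ρ : Representation (Res M) G V) (f : H →* G) : Representation (Res M) H V :=
  MonoidHom.comp ρ f

@[simp] theorem pullRep_apply {H : Type*} [Group H] {V : Type*} [AddCommGroup V] [Module (Res M) V]
    (ρ : Representation (Res M) G V) (f : H →* G) (h : H) : pullRep ρ f h = ρ (f h) := rfl

section normal

variable [Fintype G] (N : Subgroup G) [hN : N.Normal] [Fintype N]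

omit [Fintype G] in
/-- Composition with an isomorphism keeps irreducibility. -/
theorem isIrreducible_comp_equiv {H : Type*} [Group H] (e : H ≃* G) {V : Type*} [AddCommGroup V]
    [Module (Res M) V] {σ : Representation (Res M) G V} (hσ : σ.IsIrreducible) :
    (pullRep σ e.toMonoidHom).IsIrreducible := by
  have : Nontrivial V := by
    obtain ⟨a, b, hab⟩ := hσ.exists_pair_ne
    by_contra h
    rw [not_nontrivial_iff_subsingleton] at h
    exact hab (Subrepresentation.toSubmodule_injective (Subsingleton.elim _ _))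
  exact
    { exists_pair_ne := ⟨⊥, ⊤, fun h => bot_ne_top (congrArg Subrepresentation.toSubmodule h)⟩
      eq_bot_or_eq_top := fun U => by
        rcases hσ.eq_bot_or_eq_top ⟨U.toSubmodule, fun g v hv => by
          have h1 := U.apply_mem_toSubmodule (e.symm g) hv
          simpa using h1⟩ with h | h
        · exact Or.inl (Subrepresentation.toSubmodule_injective
            (show U.toSubmodule = ⊥ from congrArg (Subrepresentation.toSubmodule (ρ := σ)) h))
        · exact Or.inr (Subrepresentation.toSubmodule_injective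
            (show U.toSubmodule = ⊤ from congrArg (Subrepresentation.toSubmodule (ρ := σ)) h)) }

omit [Fintype G] in
theorem brauerFun_conjNormal (hM : IsPModular p M) (g : G) {V : Type*} [AddCommGroup V] [Module (Res M) V]
    [FiniteDimensional (Res M) V] (σ : Representation (Res M) N V) :
    brauerFun p M (pullRep σ (MulAut.conjNormal g : MulAut N).toMonoidHom) = conjFun N g (brauerFun p M σ) := by
  funext n
  have e : N ≃* N := MulAut.conjNormal g
  rw [conjFun_eq_comp, Function.comp_apply]
  exact brauerFun_comp hM _ (MulEquiv.injective _) σ n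

omit [Fintype G] in
/-- Conjugates of irreducible Brauer characters are irreducible Brauer characters. -/
theorem conjFun_mem_ibrF (hM : IsPModular p M) (g : G) {φ : N → ℂ} (hφ : φ ∈ ibrF hM N) :
    conjFun N g φ ∈ ibrF hM N := by
  obtain ⟨j, σ, hσ, rfl⟩ := mem_ibrF.mp hφ
  exact mem_ibrF.mpr ⟨j, pullRep σ (MulAut.conjNormal g : MulAut N).toMonoidHom,
    isIrreducible_comp_equiv _ hσ, brauerFun_conjNormal N hM g σ⟩

variable {N}

omit [Fintype G] in
/-- An invariant subspace of the restriction to a normal subgroup has conjugate constituents. -/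
theorem exists_conj_sum (hM : IsPModular p M) {i j : ℕ} {ρ : Representation (Res M) G (Fin i → Res M)}
    {σ : Representation (Res M) N (Fin j → Res M)} (π : (Fin i → Res M) →ₗ[Res M] (Fin j → Res M))
    (hπ : ∀ (n : N) v, π (ρ n v) = σ n (π v)) (hσ : σ.IsIrreducible)
    (hinj : ∀ v, (∀ g : G, π (ρ g v) = 0) → v = 0) :
    ∀ (d : ℕ) (U : Submodule (Res M) (Fin i → Res M))
      (hU : ∀ n : N, U ≤ U.comap (pullRep ρ N.subtype n)),
      Module.finrank (Res M) U ≤ d → ∃ s : Multiset G,
        brauerFun p M (subRep (pullRep ρ N.subtype) U hU) =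
          (s.map fun g => conjFun N g (brauerFun p M σ)).sum := by
  intro d
  induction d with
  | zero =>
    intro U hU hd
    have : Subsingleton U := Module.finrank_zero_iff.mp (Nat.le_zero.mp hd)
    exact ⟨0, by rw [brauerFun_zero_module, Multiset.map_zero, Multiset.sum_zero]⟩
  | succ d ih =>
    intro U hU hd
    by_cases hbot : ∀ v ∈ U, ∀ g : G, π (ρ g v) = 0
    · have : Subsingleton U := ⟨fun a b => Subtype.ext ((hinj _ (hbot a a.2)).trans (hinj _ (hbot b b.2)).symm)⟩
      exact ⟨0, by rw [brauerFun_zero_module, Multiset.map_zero, Multiset.sum_zero]⟩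
    push Not at hbot
    obtain ⟨v₀, hv₀, g, hg⟩ := hbot
    set σg : Representation (Res M) N (Fin j → Res M) := pullRep σ (MulAut.conjNormal g : MulAut N).toMonoidHom
      with hσg
    let f : U →ₗ[Res M] (Fin j → Res M) := (π.comp (ρ g)).comp U.subtype
    have hf : ∀ (n : N) (v : U),
        f (subRep (pullRep ρ N.subtype) U hU n v) = σg n (f v) := by
      intro n v
      show π (ρ g (ρ (n : G) (v : Fin i → Res M))) = σ (MulAut.conjNormal g n) (π (ρ g (v : Fin i → Res M)))
      rw [← hπ]
      congr 1
      rw [← Module.End.mul_apply, ← Module.End.mul_apply, ← map_mul, ← map_mul, MulAut.conjNormal_apply,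
        inv_mul_cancel_right]
    have hsurj : Function.Surjective f := by
      have hirr := isIrreducible_comp_equiv (MulAut.conjNormal g : MulAut N) hσ
      rcases hirr.eq_bot_or_eq_top ⟨LinearMap.range f, fun n w hw => by
        obtain ⟨v, rfl⟩ := hw
        exact ⟨_, hf n v⟩⟩ with h | h
      · exfalso
        have h' : LinearMap.range f = ⊥ := congrArg Subrepresentation.toSubmodule h
        exact hg (LinearMap.congr_fun (LinearMap.range_eq_bot.mp h') ⟨v₀, hv₀⟩)
      · exact LinearMap.range_eq_top.mp (congrArg Subrepresentation.toSubmodule h)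
    let K : Submodule (Res M) (Fin i → Res M) := (LinearMap.ker f).map U.subtype
    have hK : ∀ n : N, K ≤ K.comap (pullRep ρ N.subtype n) := by
      rintro n _ ⟨v, hv, rfl⟩
      exact ⟨_, ker_invariant f hf n hv, rfl⟩
    have hKd : Module.finrank (Res M) K ≤ d := by
      have h1 : Module.finrank (Res M) K = Module.finrank (Res M) (LinearMap.ker f) :=
        ((LinearMap.ker f).equivMapOfInjective _ U.injective_subtype).finrank_eq.symm
      have h2 : Module.finrank (Res M) (LinearMap.ker f) < Module.finrank (Res M) U :=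
        Submodule.finrank_lt fun h => hg (LinearMap.mem_ker.mp (h ▸ Submodule.mem_top :
          (⟨v₀, hv₀⟩ : U) ∈ LinearMap.ker f))
      omega
    obtain ⟨s, hs⟩ := ih K hK hKd
    refine ⟨g ::ₘ s, ?_⟩
    rw [brauerFun_surj f hsurj hf, Multiset.map_cons, Multiset.sum_cons, ← hs, add_comm]
    congr 1
    · exact brauerFun_conjNormal N hM g σ
    · exact brauerFun_equiv _ ((LinearMap.ker f).equivMapOfInjective _ U.injective_subtype) fun n v =>
        Subtype.ext rfl

/-- An irreducible Brauer character restricts to a sum of conjugates of a quotient constituent. -/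
theorem exists_res_conj (hM : IsPModular p M) {μ : G → ℂ} (hμ : μ ∈ ibrF hM G) :
    ∃ (i j : ℕ) (ρ : Representation (Res M) G (Fin i → Res M)) (σ : Representation (Res M) N (Fin j → Res M))
      (π : (Fin i → Res M) →ₗ[Res M] (Fin j → Res M)) (s : Multiset G),
      ρ.IsIrreducible ∧ brauerFun p M ρ = μ ∧ σ.IsIrreducible ∧ (∀ (n : N) v, π (ρ n v) = σ n (π v)) ∧
      (∀ v, (∀ g : G, π (ρ g v) = 0) → v = 0) ∧
      (fun n : N => μ n) = (s.map fun g => conjFun N g (brauerFun p M σ)).sum := by
  obtain ⟨i, ρ, hρ, rfl⟩ := mem_ibrF.mp hμ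
  set V := Fin i → Res M
  let S : Set (Submodule (Res M) V) := {U | U ≠ ⊤ ∧ ∀ n : N, U ≤ U.comap (ρ n)}
  have hbot : (⊥ : Submodule (Res M) V) ∈ S := by
    refine ⟨fun h => ?_, fun n => by simp⟩
    obtain ⟨a, b, hab⟩ := hρ.exists_pair_ne
    have : Subsingleton V := ⟨fun x y => by
      have hx : x ∈ (⊥ : Submodule (Res M) V) := h ▸ Submodule.mem_top
      have hy : y ∈ (⊥ : Submodule (Res M) V) := h ▸ Submodule.mem_top
      rw [Submodule.mem_bot] at hx hy
      rw [hx, hy]⟩
    exact hab (Subrepresentation.toSubmodule_injective (Subsingleton.elim _ _))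
  obtain ⟨U, ⟨hUtop, hUinv⟩, hUmax⟩ := WellFounded.has_min (r := fun a b : Submodule (Res M) V => b < a)
    wellFounded_gt S ⟨⊥, hbot⟩
  set ρN : Representation (Res M) N V := pullRep ρ N.subtype with hρN
  obtain ⟨σ, he⟩ := exists_fin_equiv (quotRep ρN U hUinv)
  let e := (Module.finBasis (Res M) (V ⧸ U)).equivFun
  let π : V →ₗ[Res M] (Fin (Module.finrank (Res M) (V ⧸ U)) → Res M) := e.toLinearMap.comp U.mkQ
  have hπ : ∀ (n : N) v, π (ρ n v) = σ n (π v) := fun n v => he n (U.mkQ v)
  have hker : ∀ v, π v = 0 ↔ v ∈ U := fun v => by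
    show e (U.mkQ v) = 0 ↔ _
    rw [LinearEquiv.map_eq_zero_iff, Submodule.mkQ_apply, Submodule.Quotient.mk_eq_zero]
  have hπsurj : Function.Surjective π := e.surjective.comp U.mkQ_surjective
  have hσ : σ.IsIrreducible := by
    have : Nontrivial (V ⧸ U) := Submodule.Quotient.nontrivial_iff.mpr hUtop
    have : Nontrivial (Fin (Module.finrank (Res M) (V ⧸ U)) → Res M) := e.symm.toEquiv.nontrivial
    by_contra h
    obtain ⟨W, hWb, hWt, hW⟩ := exists_invariant_of_not_irreducible σ h
    refine hUmax (W.comap π) ⟨fun h' => hWt ?_, fun n v hv => ?_⟩ (lt_of_le_of_ne (fun v hv => ?_) fun h' => hWb ?_)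
    · rw [eq_top_iff]
      intro w _
      obtain ⟨v, rfl⟩ := hπsurj w
      exact (h' ▸ Submodule.mem_top : v ∈ W.comap π)
    · rw [Submodule.mem_comap, Submodule.mem_comap, hπ]; exact hW n hv
    · rw [Submodule.mem_comap, (hker v).mpr hv]; exact W.zero_mem
    · rw [eq_bot_iff]
      intro w hw
      obtain ⟨v, rfl⟩ := hπsurj w
      have : v ∈ U := h'.symm ▸ (hw : v ∈ W.comap π)
      rw [Submodule.mem_bot, hker]; exact this
  have hinj : ∀ v, (∀ g : G, π (ρ g v) = 0) → v = 0 := by
    intro v hv
    let K : Submodule (Res M) V := ⨅ g : G, LinearMap.ker (π.comp (ρ g))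
    rcases hρ.eq_bot_or_eq_top ⟨K, fun a w hw => by
      simp only [K, Submodule.mem_iInf, LinearMap.mem_ker, LinearMap.comp_apply] at hw ⊢
      intro g
      rw [← Module.End.mul_apply, ← map_mul]
      exact hw (g * a)⟩ with h | h
    · have h' : K = ⊥ := congrArg Subrepresentation.toSubmodule h
      have : v ∈ K := by simpa [K, Submodule.mem_iInf] using hv
      rwa [h', Submodule.mem_bot] at this
    · exfalso
      have h' : K = ⊤ := congrArg Subrepresentation.toSubmodule h
      refine hUtop (eq_top_iff.mpr fun w _ => (hker w).mp ?_)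
      have hw : w ∈ K := h' ▸ Submodule.mem_top
      simp only [K, Submodule.mem_iInf, LinearMap.mem_ker, LinearMap.comp_apply] at hw
      simpa using hw 1
  obtain ⟨s, hs⟩ := exists_conj_sum hM π hπ hσ hinj _ ⊤ (fun n v _ => Submodule.mem_top) le_rfl
  refine ⟨i, _, ρ, σ, π, s, hρ, rfl, hσ, hπ, hinj, ?_⟩
  rw [← hs]
  funext n
  rw [← brauerFun_equiv ρN (Submodule.topEquiv : (⊤ : Submodule (Res M) V) ≃ₗ[Res M] V).symm
    (σ := subRep ρN ⊤ fun n v _ => Submodule.mem_top) (fun g v => rfl)]
  exact (brauerFun_comp hM N.subtype N.subtype_injective ρ n).symm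

variable (N)

/-- The space of the coinduced representation. -/
def coindSpace {j : ℕ} (σ : Representation (Res M) N (Fin j → Res M)) (s : Finset (G ⧸ N)) :
    Submodule (Res M) (G → Fin j → Res M) where
  carrier := {f | (∀ (n : N) (y : G), f ((n : G) * y) = σ n (f y)) ∧ ∀ q ∈ s, f q.out = 0}
  add_mem' := fun {a b} ha hb => ⟨fun n y => by simp [ha.1 n y, hb.1 n y],
    fun q hq => by simp [ha.2 q hq, hb.2 q hq]⟩
  zero_mem' := ⟨fun n y => by simp, fun q _ => rfl⟩
  smul_mem' := fun c a ha => ⟨fun n y => by simp [ha.1 n y], fun q hq => by simp [ha.2 q hq]⟩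

/-- The coinduced representation, by right translation. -/
def coind {j : ℕ} (σ : Representation (Res M) N (Fin j → Res M)) :
    Representation (Res M) G (coindSpace N σ ∅) where
  toFun g :=
    { toFun := fun f => ⟨fun y => f.1 (y * g),
        fun n y => by dsimp only; rw [mul_assoc]; exact f.2.1 n (y * g), fun q hq => absurd hq (Finset.notMem_empty q)⟩
      map_add' := fun a b => rfl
      map_smul' := fun c a => rfl }
  map_one' := by
    refine LinearMap.ext fun f => Subtype.ext (funext fun y => ?_)
    exact congrArg f.1 (mul_one y)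
  map_mul' a b := by
    refine LinearMap.ext fun f => Subtype.ext (funext fun y => ?_)
    exact congrArg f.1 (mul_assoc y a b).symm

omit [Fintype G] [Fintype N] in
theorem coind_apply {j : ℕ} (σ : Representation (Res M) N (Fin j → Res M)) (g : G) (f : coindSpace N σ ∅)
    (y : G) : (coind N σ g f).1 y = f.1 (y * g) := rfl

omit [Fintype G] [Fintype N] in
theorem out_mul_mem (q : G ⧸ N) (n : N) : q.out * (n : G) * q.out⁻¹ ∈ N := hN.conj_mem n n.2 _

omit [Fintype G] [Fintype N] in
theorem coind_normal {j : ℕ} (σ : Representation (Res M) N (Fin j → Res M)) {s : Finset (G ⧸ N)}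
    {f : G → Fin j → Res M} (hf : f ∈ coindSpace N σ s) (n : N) (q : G ⧸ N) :
    f (q.out * n) = σ (MulAut.conjNormal q.out n) (f q.out) := by
  rw [← hf.1, MulAut.conjNormal_apply, inv_mul_cancel_right]

/-- The restriction of the coinduced representation to an invariant piece. -/
def coindPiece {j : ℕ} (σ : Representation (Res M) N (Fin j → Res M)) (s : Finset (G ⧸ N)) :
    Representation (Res M) N (coindSpace N σ s) where
  toFun g :=
    { toFun := fun f => ⟨fun y => f.1 (y * g),
        fun n y => by dsimp only; rw [mul_assoc]; exact f.2.1 n (y * g),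
        fun q hq => by dsimp only; rw [coind_normal N σ f.2 g q, f.2.2 q hq, map_zero]⟩
      map_add' := fun a b => rfl
      map_smul' := fun c a => rfl }
  map_one' := by
    refine LinearMap.ext fun f => Subtype.ext (funext fun y => ?_)
    show f.1 (y * ((1 : N) : G)) = f.1 y
    rw [Subgroup.coe_one, mul_one]
  map_mul' a b := by
    refine LinearMap.ext fun f => Subtype.ext (funext fun y => ?_)
    show f.1 (y * ((a * b : N) : G)) = f.1 (y * (a : G) * (b : G))
    rw [Subgroup.coe_mul, mul_assoc]

theorem brauerFun_coindPiece (hM : IsPModular p M) {j : ℕ} (σ : Representation (Res M) N (Fin j → Res M))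
    (s : Finset (G ⧸ N)) [Fintype (G ⧸ N)] [DecidableEq (G ⧸ N)] :
    brauerFun p M (coindPiece N σ s) = ∑ q ∈ sᶜ, conjFun N q.out (brauerFun p M σ) := by
  induction hk : sᶜ using Finset.induction_on generalizing s with
  | empty =>
    rw [Finset.sum_empty]
    have hs : s = Finset.univ := Finset.compl_eq_empty_iff s |>.mp hk
    have : Subsingleton (coindSpace N σ s) := by
      refine ⟨fun a b => Subtype.ext (funext fun y => ?_)⟩
      have h0 : ∀ f : coindSpace N σ s, f.1 y = 0 := fun f => by
        set q : G ⧸ N := (y : G ⧸ N)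
        have hn : y * q.out⁻¹ ∈ N := by
          rw [← QuotientGroup.eq_one_iff, QuotientGroup.mk_mul, QuotientGroup.mk_inv, QuotientGroup.out_eq',
            mul_inv_cancel]
        have h1 := f.2.1 ⟨_, hn⟩ q.out
        rw [inv_mul_cancel_right, f.2.2 q (hs ▸ Finset.mem_univ q), map_zero] at h1
        exact h1
      rw [h0, h0]
    exact brauerFun_zero_module _
  | @insert q t hq ih =>
    have hqs : q ∉ s := Finset.mem_compl.mp (hk ▸ Finset.mem_insert_self q t)
    have ht : (insert q s)ᶜ = t := by rw [Finset.compl_insert, hk, Finset.erase_insert hq]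
    let f : coindSpace N σ s →ₗ[Res M] (Fin j → Res M) :=
      { toFun := fun a => a.1 q.out, map_add' := fun a b => rfl, map_smul' := fun c a => rfl }
    have hf : ∀ n a, f (coindPiece N σ s n a) =
        (pullRep σ (MulAut.conjNormal q.out : MulAut N).toMonoidHom) n (f a) :=
      fun n a => coind_normal N σ a.2 n q
    have hsurj : Function.Surjective f := by
      classical
      intro v
      have hsame : ∀ (n : N) (y : G), ((((n : G) * y : G)) : G ⧸ N) = (y : G ⧸ N) := fun n y => by
        rw [QuotientGroup.mk_mul, (QuotientGroup.eq_one_iff (n : G)).mpr n.2, one_mul]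
      have hmem : ∀ y : G, (y : G ⧸ N) = q → y * q.out⁻¹ ∈ N := fun y hy => by
        rw [← QuotientGroup.eq_one_iff, QuotientGroup.mk_mul, QuotientGroup.mk_inv, QuotientGroup.out_eq', hy,
          mul_inv_cancel]
      refine ⟨⟨fun y => if hy : (y : G ⧸ N) = q then σ ⟨_, hmem y hy⟩ v else 0, fun n y => ?_, fun r hr => ?_⟩, ?_⟩
      · dsimp only
        by_cases hy : (y : G ⧸ N) = q
        · rw [dif_pos ((hsame n y).trans hy), dif_pos hy, ← Module.End.mul_apply, ← map_mul]
          congr 2
          exact Subtype.ext (mul_assoc _ _ _)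
        · rw [dif_neg fun h => hy ((hsame n y).symm.trans h), dif_neg hy, map_zero]
      · dsimp only
        rw [dif_neg]
        rw [QuotientGroup.out_eq']
        exact fun h => hqs (h ▸ hr)
      · show dite _ _ _ = v
        rw [dif_pos (QuotientGroup.out_eq' q)]
        rw [show (⟨q.out * q.out⁻¹, hmem _ (QuotientGroup.out_eq' q)⟩ : N) = 1 from
          Subtype.ext (mul_inv_cancel _), map_one, Module.End.one_apply]
    rw [brauerFun_surj f hsurj hf, Finset.sum_insert hq, add_comm]
    congr 1
    · exact brauerFun_conjNormal N hM q.out σ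
    · rw [← ih (insert q s) ht]
      let e : LinearMap.ker f ≃ₗ[Res M] coindSpace N σ (insert q s) :=
        { toFun := fun a => ⟨a.1.1, a.1.2.1, Finset.forall_mem_insert _ _ _ |>.mpr ⟨LinearMap.mem_ker.mp a.2, a.1.2.2⟩⟩
          invFun := fun b => ⟨⟨b.1, b.2.1, fun r hr => b.2.2 r (Finset.mem_insert_of_mem hr)⟩,
            LinearMap.mem_ker.mpr (b.2.2 q (Finset.mem_insert_self q s))⟩
          left_inv := fun a => rfl
          right_inv := fun b => rfl
          map_add' := fun a b => rfl
          map_smul' := fun c a => rfl }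
      exact brauerFun_equiv _ e fun n a => rfl

/-- The Brauer character of the coinduced representation. -/
theorem brauerFun_coind (hM : IsPModular p M) {j : ℕ} (σ : Representation (Res M) N (Fin j → Res M))
    [Fintype (G ⧸ N)] [DecidableEq (G ⧸ N)] :
    (∀ n : N, brauerFun p M (coind N σ) n = ∑ q : G ⧸ N, conjFun N q.out (brauerFun p M σ) n) ∧
      ∀ g : G, g ∉ N → brauerFun p M (coind N σ) g = 0 := by
  classical
  refine ⟨fun n => ?_, fun g hg => ?_⟩
  · rw [show brauerFun p M (coind N σ) (n : G) =
        brauerFun p M (pullRep (coind N σ) N.subtype) n from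
      (brauerFun_comp hM N.subtype N.subtype_injective (coind N σ) n).symm]
    have h := congrFun (brauerFun_coindPiece N hM σ ∅) n
    rw [Finset.compl_empty, Finset.sum_apply] at h
    exact h
  by_cases hreg : p ∣ orderOf g
  · exact brauerFun_singular _ hreg
  set gb : G ⧸ N := (g : G ⧸ N) with hgb
  set d := orderOf gb with hd
  have hd1 : d ≠ 1 := fun h => hg ((QuotientGroup.eq_one_iff g).mp (orderOf_eq_one_iff.mp h))
  have hdg : d ∣ orderOf g := orderOf_map_dvd (QuotientGroup.mk' N) g
  have hd0 : d ≠ 0 := (orderOf_pos gb).ne'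
  have hdp : ¬ p ∣ d := fun h => hreg (h.trans hdg)
  have hzprim := Complex.isPrimitiveRoot_exp d hd0
  set z := Complex.exp (2 * Real.pi * Complex.I / d)
  have hm := not_dvd_pm (G := G) hM.1
  have hdm : d ∣ pm p G := hdg.trans (orderOf_dvd_of_pow_eq_one (pow_pm_eq_one hM.1 hreg))
  set ζ : Res M := resI M z
  have hζd : ζ ^ d = 1 := resI_pow (Nat.pos_of_ne_zero hd0) hzprim.pow_eq_one
  have hζm : ζ ^ pm p G = 1 := by
    obtain ⟨e, he⟩ := hdm
    rw [he, pow_mul, hζd, one_pow]
  have hzm : z ^ pm p G = 1 := by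
    obtain ⟨e, he⟩ := hdm
    rw [he, pow_mul, hzprim.pow_eq_one, one_pow]
  have hzne : z ≠ 1 := hzprim.ne_one (by omega)
  have hζ0 : ζ ≠ 0 := fun h => by rw [h, zero_pow hd0] at hζd; exact zero_ne_one hζd
  -- the scaling function
  let rep : G ⧸ N → G ⧸ N := fun q => (QuotientGroup.mk q : (G ⧸ N) ⧸ Subgroup.zpowers gb).out
  have hrep : ∀ q, ∃ k : ℕ, gb ^ k = (rep q)⁻¹ * q := fun q => by
    rw [← Submonoid.mem_powers_iff, (isOfFinOrder_of_finite gb).mem_powers_iff_mem_zpowers, ← QuotientGroup.eq]
    exact QuotientGroup.out_eq' _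
  choose J hJ using hrep
  have hrep' : ∀ q, rep (q * gb) = rep q := fun q => by
    have : (QuotientGroup.mk (q * gb) : (G ⧸ N) ⧸ Subgroup.zpowers gb) = QuotientGroup.mk q := by
      rw [QuotientGroup.eq, mul_inv_rev, inv_mul_cancel_right]
      exact (Subgroup.zpowers gb).inv_mem (Subgroup.mem_zpowers gb)
    exact congrArg Quotient.out this
  have hc : ∀ y : G, ζ ^ J ((y * g : G) : G ⧸ N) = ζ * ζ ^ J (y : G ⧸ N) := fun y => by
    have h : gb ^ J ((y * g : G) : G ⧸ N) = gb ^ (J (y : G ⧸ N) + 1) := by
      rw [hJ, QuotientGroup.mk_mul, hrep', ← mul_assoc, pow_succ, hJ]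
    rw [← pow_succ', pow_eq_pow_mod _ hζd, pow_eq_pow_mod (J (y : G ⧸ N) + 1) hζd,
      pow_eq_pow_iff_modEq.mp h]
  have hcn : ∀ (n : N) (y : G), J (((n : G) * y : G) : G ⧸ N) = J (y : G ⧸ N) := fun n y => by
    rw [QuotientGroup.mk_mul, (QuotientGroup.eq_one_iff (n : G)).mpr n.2, one_mul]
  have hne : ∀ y : G, ζ ^ J (y : G ⧸ N) ≠ 0 := fun y => pow_ne_zero _ hζ0
  let D : coindSpace N σ ∅ ≃ₗ[Res M] coindSpace N σ ∅ :=
    { toFun := fun f => ⟨fun y => ζ ^ J (y : G ⧸ N) • f.1 y,
        fun n y => by dsimp only; rw [hcn n y, f.2.1 n y, map_smul], fun q hq => absurd hq (Finset.notMem_empty q)⟩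
      invFun := fun f => ⟨fun y => (ζ ^ J (y : G ⧸ N))⁻¹ • f.1 y,
        fun n y => by dsimp only; rw [hcn n y, f.2.1 n y, map_smul], fun q hq => absurd hq (Finset.notMem_empty q)⟩
      left_inv := fun f => Subtype.ext (funext fun y => inv_smul_smul₀ (hne y) _)
      right_inv := fun f => Subtype.ext (funext fun y => smul_inv_smul₀ (hne y) _)
      map_add' := fun a b => Subtype.ext (funext fun y => smul_add _ _ _)
      map_smul' := fun c a => Subtype.ext (funext fun y => smul_comm (ζ ^ J (y : G ⧸ N)) c (a.1 y)) }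
  have hconj : D.symm.conj (coind N σ g) = ζ • coind N σ g := by
    refine LinearMap.ext fun f => Subtype.ext (funext fun y => ?_)
    show (ζ ^ J (y : G ⧸ N))⁻¹ • (ζ ^ J ((y * g : G) : G ⧸ N) • f.1 (y * g)) = ζ • f.1 (y * g)
    rw [hc y, smul_smul, mul_comm ζ, ← mul_assoc, inv_mul_cancel₀ (hne y), one_mul]
  have hroots : (coind N σ g).charpoly.roots = (coind N σ g).charpoly.roots.map (ζ * ·) := by
    conv_lhs => rw [← LinearEquiv.charpoly_conj D.symm (coind N σ g), hconj, roots_charpoly_smul _ hζ0]
  have hB : brauerFun p M (coind N σ) g = z * brauerFun p M (coind N σ) g := by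
    rw [brauerFun_regular _ hreg, ← Multiset.sum_map_mul_left]
    conv_lhs => rw [hroots, Multiset.map_map]
    refine congrArg Multiset.sum (Multiset.map_congr rfl fun l hl => ?_)
    rw [Function.comp_apply, liftRoot_mul hM hm hζm (pow_of_isRoot _ hM.1 hreg hl), liftRoot_resI hM hm hzm]
  have h0 : (1 - z) * brauerFun p M (coind N σ) g = 0 := by linear_combination hB
  exact (mul_eq_zero.mp h0).resolve_left (sub_ne_zero.mpr (Ne.symm hzne))

/-- An irreducible representation embeds into a coinduced one. -/
theorem exists_coind_embed {i j : ℕ} {ρ : Representation (Res M) G (Fin i → Res M)}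
    {σ : Representation (Res M) N (Fin j → Res M)} (π : (Fin i → Res M) →ₗ[Res M] (Fin j → Res M))
    (hπ : ∀ (n : N) v, π (ρ n v) = σ n (π v)) (hinj : ∀ v, (∀ g : G, π (ρ g v) = 0) → v = 0) :
    ∃ (U : Submodule (Res M) (coindSpace N σ ∅)) (hU : ∀ g, U ≤ U.comap (coind N σ g)),
      brauerFun p M (V := U) (subRep (coind N σ) U hU) = brauerFun p M ρ := by
  let ι : (Fin i → Res M) →ₗ[Res M] coindSpace N σ ∅ :=
    { toFun := fun v => ⟨fun y => π (ρ y v), fun n y => by dsimp only; rw [map_mul, Module.End.mul_apply, hπ],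
        fun q hq => absurd hq (Finset.notMem_empty q)⟩
      map_add' := fun a b => Subtype.ext (funext fun y => by simp)
      map_smul' := fun c a => Subtype.ext (funext fun y => by simp) }
  have hι : ∀ g v, ι (ρ g v) = coind N σ g (ι v) := fun g v => Subtype.ext (funext fun y => by
    show π (ρ y (ρ g v)) = π (ρ (y * g) v)
    rw [map_mul, Module.End.mul_apply])
  have hinj' : Function.Injective ι := by
    rw [← LinearMap.ker_eq_bot, LinearMap.ker_eq_bot']
    exact fun v hv => hinj v fun g => congrFun (congrArg Subtype.val hv) g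
  refine ⟨LinearMap.range ι, ?_, ?_⟩
  · rintro g _ ⟨v, rfl⟩
    exact ⟨ρ g v, hι g v⟩
  · exact (brauerFun_equiv ρ (LinearEquiv.ofInjective ι hinj') fun g v => Subtype.ext (hι g v)).symm

end normal

end CfsgLib.Modular
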