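import Cfsg.Agent.Lib.Modular.Lift

/-!
# Brauer irreducible characters and composition series

* `ibr`: the Brauer characters of the irreducible representations over the residue field;
* `Acts`: an element of the group algebra acts as a scalar;
* `exists_constituents`: every Brauer character is a sum of irreducible ones, on which central scalars persist.
-/

set_option autoImplicit false

noncomputable section

namespace CfsgLib.Modular

open Cfsg CfsgLib.Blocks

attribute [local instance] CfsgLib.Blocks.resField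

variable {M : Ideal AlgInt} [M.IsMaximal] {G : Type*} [Group G] {p : ℕ}

/-- The irreducible Brauer characters. -/
def ibr (p : ℕ) (M : Ideal AlgInt) [M.IsMaximal] (G : Type*) [Group G] : Set (G → ℂ) :=
  {φ | ∃ (n : ℕ) (σ : Representation (Res M) G (Fin n → Res M)), σ.IsIrreducible ∧ brauerFun p M σ = φ}

/-- An element of the group algebra acts as a scalar. -/
def Acts {V : Type*} [AddCommGroup V] [Module (Res M) V] (ρ : Representation (Res M) G V)
    (r : MonoidAlgebra (Res M) G) (c : Res M) : Prop :=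
  ∀ v : V, ρ.asAlgebraHom r v = c • v

variable {V W : Type*} [AddCommGroup V] [Module (Res M) V] [AddCommGroup W] [Module (Res M) W]
  {ρ : Representation (Res M) G V}

theorem asAlgebraHom_comm {σ : Representation (Res M) G W} (f : V →ₗ[Res M] W)
    (h : ∀ g v, f (ρ g v) = σ g (f v)) (r : MonoidAlgebra (Res M) G) (v : V) :
    f (ρ.asAlgebraHom r v) = σ.asAlgebraHom r (f v) := by
  induction r using MonoidAlgebra.induction_on with
  | of g => simp [Representation.asAlgebraHom_of, h]
  | add a b iha ihb => simp [iha, ihb]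
  | smul c a ih => simp [ih]

theorem acts_quot [FiniteDimensional (Res M) V] (U : Submodule (Res M) V) (hU : ∀ g, U ≤ U.comap (ρ g))
    {r : MonoidAlgebra (Res M) G} {c : Res M} (h : Acts ρ r c) : Acts (quotRep ρ U hU) r c := by
  intro w
  obtain ⟨v, rfl⟩ := U.mkQ_surjective w
  rw [← asAlgebraHom_comm (ρ := ρ) U.mkQ (fun g x => rfl) r v, h v, map_smul]

theorem acts_sub [FiniteDimensional (Res M) V] (U : Submodule (Res M) V) (hU : ∀ g, U ≤ U.comap (ρ g))
    {r : MonoidAlgebra (Res M) G} {c : Res M} (h : Acts ρ r c) : Acts (subRep ρ U hU) r c := by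
  intro v
  apply U.subtype_injective
  rw [asAlgebraHom_comm (σ := ρ) U.subtype (fun g x => rfl) r v, h, map_smul]

theorem acts_equiv {σ : Representation (Res M) G W} (e : V ≃ₗ[Res M] W)
    (he : ∀ g v, e (ρ g v) = σ g (e v))
    {r : MonoidAlgebra (Res M) G} {c : Res M} (h : Acts ρ r c) : Acts σ r c := by
  intro w
  obtain ⟨v, rfl⟩ := e.surjective w
  rw [← LinearEquiv.coe_toLinearMap, ← asAlgebraHom_comm (ρ := ρ) e.toLinearMap he r v, h v, map_smul]

/-- Coordinates. -/
theorem exists_fin_equiv [FiniteDimensional (Res M) V] (ρ : Representation (Res M) G V) :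
    ∃ σ : Representation (Res M) G (Fin (Module.finrank (Res M) V) → Res M),
      ∀ g v, (Module.finBasis (Res M) V).equivFun (ρ g v) = σ g ((Module.finBasis (Res M) V).equivFun v) := by
  let E := (Module.finBasis (Res M) V).equivFun
  refine ⟨{ toFun := fun g => E.conj (ρ g)
            map_one' := by rw [map_one]; exact E.conj_id
            map_mul' := fun a b => by rw [map_mul, Module.End.mul_eq_comp, E.conj_comp]; rfl }, fun g v => ?_⟩
  show E (ρ g v) = E.conj (ρ g) (E v)
  rw [LinearEquiv.conj_apply_apply, LinearEquiv.symm_apply_apply]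

theorem exists_constituents_fin (n : ℕ) : ∀ ρ : Representation (Res M) G (Fin n → Res M),
    ∃ s : Multiset (G → ℂ), s.sum = brauerFun p M ρ ∧
      ∀ φ ∈ s, ∃ (j : ℕ) (σ : Representation (Res M) G (Fin j → Res M)), σ.IsIrreducible ∧
        brauerFun p M σ = φ ∧ ∀ r c, Acts ρ r c → Acts σ r c := by
  induction n using Nat.strong_induction_on with
  | _ n ih =>
  intro ρ
  rcases Nat.eq_zero_or_pos n with rfl | hn
  · refine ⟨0, ?_, by simp⟩
    funext g
    by_cases hg : p ∣ orderOf g
    · simp [brauerFun_singular, hg]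
    · rw [Multiset.sum_zero, brauerFun_regular _ hg]
      have : (ρ g).charpoly.roots = 0 := by
        rw [← Multiset.card_eq_zero, card_roots_charpoly]; simp
      simp [this]
  have : Nonempty (Fin n) := ⟨⟨0, hn⟩⟩
  by_cases hirr : ρ.IsIrreducible
  · exact ⟨{brauerFun p M ρ}, Multiset.sum_singleton _, fun φ hφ =>
      ⟨n, ρ, hirr, (Multiset.mem_singleton.mp hφ).symm, fun r c h => h⟩⟩
  obtain ⟨U, hb, ht, hU⟩ := exists_invariant_of_not_irreducible ρ hirr
  obtain ⟨h1, h2⟩ := finrank_sub_lt hb ht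
  rw [Module.finrank_fintype_fun_eq_card, Fintype.card_fin] at h1 h2
  obtain ⟨σ₁, hσ₁⟩ := exists_fin_equiv (subRep ρ U hU)
  obtain ⟨σ₂, hσ₂⟩ := exists_fin_equiv (quotRep ρ U hU)
  obtain ⟨s₁, hs₁, ha₁⟩ := ih _ h1 σ₁
  obtain ⟨s₂, hs₂, ha₂⟩ := ih _ h2 σ₂
  refine ⟨s₁ + s₂, ?_, fun φ hφ => ?_⟩
  · rw [Multiset.sum_add, hs₁, hs₂, brauerFun_eq_add ρ U hU, brauerFun_equiv _ _ hσ₁,
      brauerFun_equiv _ _ hσ₂]
  · rcases Multiset.mem_add.mp hφ with h | h
    · obtain ⟨j, σ, h1, h2, h3⟩ := ha₁ φ h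
      exact ⟨j, σ, h1, h2, fun r c hc => h3 r c (acts_equiv _ hσ₁ (acts_sub U hU hc))⟩
    · obtain ⟨j, σ, h1, h2, h3⟩ := ha₂ φ h
      exact ⟨j, σ, h1, h2, fun r c hc => h3 r c (acts_equiv _ hσ₂ (acts_quot U hU hc))⟩

/-- Every Brauer character is a sum of irreducible ones. -/
theorem exists_constituents [FiniteDimensional (Res M) V] (ρ : Representation (Res M) G V) :
    ∃ s : Multiset (G → ℂ), s.sum = brauerFun p M ρ ∧
      ∀ φ ∈ s, ∃ (j : ℕ) (σ : Representation (Res M) G (Fin j → Res M)), σ.IsIrreducible ∧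
        brauerFun p M σ = φ ∧ ∀ r c, Acts ρ r c → Acts σ r c := by
  obtain ⟨σ, hσ⟩ := exists_fin_equiv ρ
  obtain ⟨s, hs, ha⟩ := exists_constituents_fin (p := p) _ σ
  refine ⟨s, hs.trans (brauerFun_equiv _ _ hσ).symm, fun φ hφ => ?_⟩
  obtain ⟨j, τ, h1, h2, h3⟩ := ha φ hφ
  exact ⟨j, τ, h1, h2, fun r c hc => h3 r c (acts_equiv _ hσ hc)⟩

end CfsgLib.Modular
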