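import Cfsg.Agent.Lib.Modular.Independence
import Cfsg.Agent.Lib.Modular.Reduction
import Cfsg.Agent.Lib.BlockArith.RankTrace

/-!
# Decomposition numbers and the block partition of the irreducible Brauer characters

* `ibrF`, `dnum`, `regPart_eq`: restrictions to `p`-regular elements are nonnegative integral combinations;
* `ibrOf`, `dnum_eq_zero_of_notMem`, `ibrOf_disjoint`, `exists_ibrOf`: the block partition;
* `span_ibr`: the irreducible Brauer characters of a block span the restrictions of its members;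
* `blockRank_eq_card`: `l(B)` is their number.
-/

set_option autoImplicit false

noncomputable section

namespace CfsgLib.Modular

open Cfsg CfsgLib.Blocks CfsgLib.Char CfsgLib.BlockArith

attribute [local instance] CfsgLib.Blocks.resField

variable {M : Ideal AlgInt} [M.IsMaximal] {G : Type*} [Group G] [Fintype G] {p : ℕ}

/-- The irreducible Brauer characters as a finite set. -/
def ibrF (hM : IsPModular p M) (G : Type*) [Group G] [Fintype G] : Finset (G → ℂ) :=
  (ibr_finite (G := G) hM).toFinset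

theorem mem_ibrF {hM : IsPModular p M} {φ : G → ℂ} : φ ∈ ibrF hM G ↔ φ ∈ ibr p M G :=
  Set.Finite.mem_toFinset _

theorem exists_ibr_decomp (hM : IsPModular p M) (χ : IrrCharacter G) :
    ∃ d : (G → ℂ) → ℕ,
      (pRegularPart p (χ : G → ℂ) = ∑ φ ∈ ibrF hM G, (d φ : ℂ) • φ) ∧
      ∀ φ, d φ ≠ 0 → φ ∈ ibrF hM G ∧ ∀ (B : Set (IrrCharacter G)) [DecidablePred (· ∈ B)] (hB : IsPBlock M B),
        ∃ (j : ℕ) (σ : Representation (Res M) G (Fin j → Res M)), σ.IsIrreducible ∧
          brauerFun p M σ = φ ∧ Acts σ (red (idem hB)) (if χ ∈ B then 1 else 0) := by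
  classical
  obtain ⟨n, A, hA⟩ := exists_integral_rep hM χ
  obtain ⟨s, hs, hcons⟩ := exists_constituents (p := p) (redRep A)
  have hreg : pRegularPart p (χ : G → ℂ) = brauerFun p M (redRep A) := by
    funext g
    rw [pRegularPart_apply]
    split_ifs with hg
    · rw [brauerFun_singular _ hg]
    · rw [brauerFun_redRep hM A hg, hA]
  have hmem : ∀ φ ∈ s, φ ∈ ibrF hM G := fun φ hφ => by
    obtain ⟨j, σ, h1, h2, -⟩ := hcons φ hφ
    exact mem_ibrF.mpr ⟨j, σ, h1, h2⟩
  refine ⟨fun φ => s.count φ, ?_, fun φ hφ => ⟨hmem φ (Multiset.count_ne_zero.mp hφ), fun B _ hB => ?_⟩⟩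
  · rw [hreg, ← hs, Finset.sum_multiset_count]
    refine (Finset.sum_subset (fun φ hφ => hmem φ (Multiset.mem_toFinset.mp hφ)) fun φ _ hφ => ?_).trans
      (Finset.sum_congr rfl fun φ _ => (Nat.cast_smul_eq_nsmul ℂ _ _).symm)
    rw [Multiset.count_eq_zero.mpr (fun h => hφ (Multiset.mem_toFinset.mpr h)), zero_smul]
  · obtain ⟨j, σ, h1, h2, h3⟩ := hcons φ (Multiset.count_ne_zero.mp hφ)
    refine ⟨j, σ, h1, h2, h3 _ _ ?_⟩
    convert redRep_acts χ A hA hB using 2

/-- The decomposition numbers. -/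
def dnum (hM : IsPModular p M) (χ : IrrCharacter G) : (G → ℂ) → ℕ := (exists_ibr_decomp hM χ).choose

theorem regPart_eq (hM : IsPModular p M) (χ : IrrCharacter G) :
    pRegularPart p (χ : G → ℂ) = ∑ φ ∈ ibrF hM G, (dnum hM χ φ : ℂ) • φ :=
  (exists_ibr_decomp hM χ).choose_spec.1

theorem mem_of_dnum_ne_zero (hM : IsPModular p M) {χ : IrrCharacter G} {φ : G → ℂ} (h : dnum hM χ φ ≠ 0) :
    φ ∈ ibrF hM G :=
  ((exists_ibr_decomp hM χ).choose_spec.2 φ h).1

theorem ibrF_regular (hM : IsPModular p M) {φ : G → ℂ} (hφ : φ ∈ ibrF hM G) :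
    (∀ g, p ∣ orderOf g → φ g = 0) ∧ ∀ g h, φ (h * g * h⁻¹) = φ g := by
  obtain ⟨n, σ, -, rfl⟩ := mem_ibrF.mp hφ
  exact ⟨fun g hg => brauerFun_singular σ hg, brauerFun_conj σ⟩

/-- Independence, over the finite set. -/
theorem ibrF_independent (hM : IsPModular p M) {s : Finset (G → ℂ)} (hs : s ⊆ ibrF hM G)
    {c : (G → ℂ) → ℂ} (h : ∑ φ ∈ s, c φ • φ = 0) : ∀ φ ∈ s, c φ = 0 := by
  intro φ hφ
  refine congrFun (brauer_independent hM (φ := fun x : s => (x : G → ℂ)) Subtype.val_injective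
    (fun x => mem_ibrF.mp (hs x.2)) (c := fun x => c x) fun g _ => ?_) ⟨φ, hφ⟩
  have h2 := congrFun h g
  simp only [Finset.sum_apply, Pi.smul_apply, smul_eq_mul, Pi.zero_apply] at h2
  rw [← h2]
  exact Finset.sum_coe_sort s (fun x => c x * x g)

open Classical in
/-- The irreducible Brauer characters of a set of characters. -/
def ibrOf (hM : IsPModular p M) (B : Set (IrrCharacter G)) : Finset (G → ℂ) :=
  (ibrF hM G).filter fun φ => ∃ χ ∈ B, dnum hM χ φ ≠ 0

theorem mem_ibrOf {hM : IsPModular p M} {B : Set (IrrCharacter G)} {φ : G → ℂ} :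
    φ ∈ ibrOf hM B ↔ φ ∈ ibrF hM G ∧ ∃ χ ∈ B, dnum hM χ φ ≠ 0 := by
  classical
  simp [ibrOf]

theorem ibrOf_subset (hM : IsPModular p M) (B : Set (IrrCharacter G)) : ibrOf hM B ⊆ ibrF hM G :=
  fun _ h => (mem_ibrOf.mp h).1

theorem trace_eq_of_brauerFun_eq (hM : IsPModular p M) {i j : ℕ}
    {σ : Representation (Res M) G (Fin i → Res M)} {τ : Representation (Res M) G (Fin j → Res M)}
    (h : brauerFun p M σ = brauerFun p M τ) (r : MonoidAlgebra (Res M) G) :
    LinearMap.trace (Res M) _ (σ.asAlgebraHom r) = LinearMap.trace (Res M) _ (τ.asAlgebraHom r) := by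
  have : Fact p.Prime := ⟨hM.1⟩
  have : CharP (Res M) p := res_charP M hM
  have key : ∀ g, LinearMap.trace (Res M) _ (σ g) = LinearMap.trace (Res M) _ (τ g) := by
    intro g
    obtain ⟨z, x, hzx, hcomm, ⟨k, hk⟩, hx⟩ := exists_isPPart (p := p) g
    have hz : z ^ p ^ k = 1 := by rw [← hk, pow_orderOf_eq_one]
    rw [← traceForm_asModule σ g, ← traceForm_asModule τ g, ← hzx,
      Points.traceForm_mul (p := p) σ.asModule hcomm (n := k) hz,
      Points.traceForm_mul (p := p) τ.asModule hcomm (n := k) hz, traceForm_asModule, traceForm_asModule,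
      ← (resI_brauerFun σ hM hx).2, ← (resI_brauerFun τ hM hx).2, h]
  simp only [asAlgebraHom_eq_sum, map_sum, map_smul, key]

theorem asModule_trace_lsmul {i : ℕ} (σ : Representation (Res M) G (Fin i → Res M))
    (a : MonoidAlgebra (Res M) G) :
    LinearMap.trace (Res M) σ.asModule (Algebra.lsmul (Res M) (Res M) σ.asModule a) =
      LinearMap.trace (Res M) _ (σ.asAlgebraHom a) := by
  congr 1

theorem exists_trace_one {i : ℕ} (σ : Representation (Res M) G (Fin i → Res M)) (hσ : σ.IsIrreducible) :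
    ∃ a : MonoidAlgebra (Res M) G, LinearMap.trace (Res M) _ (σ.asAlgebraHom a) = 1 := by
  classical
  have := res_isAlgClosed M
  have : IsSimpleModule (MonoidAlgebra (Res M) G) σ.asModule :=
    σ.irreducible_iff_isSimpleModule_asModule.mp hσ
  obtain ⟨a, ha⟩ := exists_trace_eq (k := Res M) (A := MonoidAlgebra (Res M) G) (fun _ : Unit => σ.asModule)
    (fun i j h => absurd (Subsingleton.elim i j) h) ()
  refine ⟨a, ?_⟩
  rw [← asModule_trace_lsmul]
  simpa using ha ()

theorem ibrOf_disjoint (hM : IsPModular p M) {B B' : Set (IrrCharacter G)} (hB : IsPBlock M B)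
    (hB' : IsPBlock M B') {φ : G → ℂ} (h : φ ∈ ibrOf hM B) (h' : φ ∈ ibrOf hM B') : B = B' := by
  classical
  obtain ⟨-, χ, hχ, hd⟩ := mem_ibrOf.mp h
  obtain ⟨-, χ', hχ', hd'⟩ := mem_ibrOf.mp h'
  obtain ⟨i, σ, -, hσ, ha⟩ := ((exists_ibr_decomp hM χ).choose_spec.2 φ hd).2 B hB
  obtain ⟨j, τ, hτi, hτ, hb⟩ := ((exists_ibr_decomp hM χ').choose_spec.2 φ hd').2 B hB
  rw [if_pos hχ] at ha
  by_contra hne
  rw [if_neg fun h2 => hne (isPBlock_eq_of_mem hB hB' h2 hχ')] at hb
  obtain ⟨a, ha1⟩ := exists_trace_one τ hτi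
  have h1 : τ.asAlgebraHom (red (idem hB) * a) = 0 := by
    rw [map_mul]; ext v; simp [Module.End.mul_apply, hb _]
  have h2 : σ.asAlgebraHom (red (idem hB) * a) = σ.asAlgebraHom a := by
    rw [map_mul]; ext v; simp [Module.End.mul_apply, ha _]
  have h3 := trace_eq_of_brauerFun_eq hM (hσ.trans hτ.symm) (red (idem hB) * a)
  rw [h1, h2, map_zero, trace_eq_of_brauerFun_eq hM (hσ.trans hτ.symm) a, ha1] at h3
  exact one_ne_zero h3

theorem dnum_eq_zero_of_notMem (hM : IsPModular p M) {B : Set (IrrCharacter G)} (hB : IsPBlock M B)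
    {χ : IrrCharacter G} {φ : G → ℂ} (hφ : φ ∈ ibrOf hM B) (hχ : χ ∉ B) : dnum hM χ φ = 0 := by
  by_contra h
  have hc : IsPBlock M (blockOf M (χ : G → ℂ)) := isPBlock_blockOf χ
  exact hχ ((ibrOf_disjoint hM hB hc hφ (mem_ibrOf.mpr
    ⟨mem_of_dnum_ne_zero hM h, χ, mem_blockOf_self χ, h⟩)) ▸ mem_blockOf_self χ)

theorem regPart_eq_block (hM : IsPModular p M) {B : Set (IrrCharacter G)} {χ : IrrCharacter G}
    (hχ : χ ∈ B) : pRegularPart p (χ : G → ℂ) = ∑ φ ∈ ibrOf hM B, (dnum hM χ φ : ℂ) • φ := by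
  rw [regPart_eq hM χ]
  refine (Finset.sum_subset (ibrOf_subset hM B) fun φ hφ hn => ?_).symm
  have : dnum hM χ φ = 0 := by
    by_contra h; exact hn (mem_ibrOf.mpr ⟨hφ, χ, hχ, h⟩)
  rw [this, Nat.cast_zero, zero_smul]

theorem eq_sum_regPart (hM : IsPModular p M) {φ : G → ℂ} (hφ : φ ∈ ibrF hM G) :
    φ = ∑ χ : IrrCharacter G, classInner φ (χ : G → ℂ) • pRegularPart p (χ : G → ℂ) := by
  classical
  obtain ⟨hs, hc⟩ := ibrF_regular hM hφ
  have h := classFun_eq_sum (f := φ) hc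
  funext g
  simp only [Finset.sum_apply, Pi.smul_apply, smul_eq_mul, pRegularPart_apply]
  by_cases hg : p ∣ orderOf g
  · simp [hg, hs g hg]
  · simp only [hg, if_false]
    have := congrFun h g
    simp only [Finset.sum_apply, Pi.smul_apply, smul_eq_mul] at this
    exact this

theorem exists_ibrOf (hM : IsPModular p M) {φ : G → ℂ} (hφ : φ ∈ ibrF hM G) :
    ∃ B : Set (IrrCharacter G), IsPBlock M B ∧ φ ∈ ibrOf hM B := by
  classical
  by_contra hne
  push Not at hne
  have hz : ∀ χ : IrrCharacter G, dnum hM χ φ = 0 := fun χ => by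
    by_contra h
    exact hne _ (isPBlock_blockOf (M := M) χ) (mem_ibrOf.mpr ⟨hφ, χ, mem_blockOf_self χ, h⟩)
  have key : ∀ ψ ∈ ibrF hM G, (if ψ = φ then (1 : ℂ) else 0) -
      ∑ χ : IrrCharacter G, classInner φ (χ : G → ℂ) * (dnum hM χ ψ : ℂ) = 0 := by
    refine ibrF_independent hM (Finset.Subset.refl _) ?_
    simp only [sub_smul, Finset.sum_sub_distrib, Finset.sum_smul, mul_smul, ite_smul, one_smul, zero_smul,
      Finset.sum_ite_eq', if_pos hφ]
    rw [Finset.sum_comm]
    simp only [← Finset.smul_sum, ← regPart_eq hM]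
    rw [← eq_sum_regPart hM hφ, sub_self]
  have := key φ hφ
  rw [if_pos rfl] at this
  simp [hz] at this

/-- A block Brauer character is a combination of the restrictions of members of the block. -/
theorem ibrOf_mem_span (hM : IsPModular p M) {B : Set (IrrCharacter G)} (hB : IsPBlock M B) {φ : G → ℂ}
    (hφ : φ ∈ ibrOf hM B) :
    φ ∈ Submodule.span ℂ ((fun χ : IrrCharacter G => pRegularPart p (χ : G → ℂ)) '' B) := by
  classical
  have hφF := ibrOf_subset hM B hφ
  let c : IrrCharacter G → ℂ := fun χ => classInner φ (χ : G → ℂ)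
  let R : G → ℂ := ∑ χ ∈ Finset.univ.filter (· ∈ B), c χ • pRegularPart p (χ : G → ℂ)
  have hR : R ∈ Submodule.span ℂ ((fun χ : IrrCharacter G => pRegularPart p (χ : G → ℂ)) '' B) :=
    Submodule.sum_mem _ fun χ hχ => Submodule.smul_mem _ _
      (Submodule.subset_span ⟨χ, (Finset.mem_filter.mp hχ).2, rfl⟩)
  suffices φ = R by rw [this]; exact hR
  have key : ∀ ψ ∈ ibrF hM G,
      (if ψ = φ then (1 : ℂ) else 0) = ∑ χ : IrrCharacter G, c χ * (dnum hM χ ψ : ℂ) := by
    intro ψ hψ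
    refine sub_eq_zero.mp (ibrF_independent hM (Finset.Subset.refl _) (c := fun ψ =>
      (if ψ = φ then (1 : ℂ) else 0) - ∑ χ : IrrCharacter G, c χ * (dnum hM χ ψ : ℂ)) ?_ ψ hψ)
    simp only [sub_smul, Finset.sum_sub_distrib, Finset.sum_smul, mul_smul, ite_smul, one_smul, zero_smul,
      Finset.sum_ite_eq', if_pos hφF]
    rw [Finset.sum_comm]
    simp only [← Finset.smul_sum, ← regPart_eq hM]
    rw [← eq_sum_regPart hM hφF, sub_self]
  have h1 : R = ∑ ψ ∈ ibrF hM G,
      (∑ χ ∈ Finset.univ.filter (· ∈ B), c χ * (dnum hM χ ψ : ℂ)) • ψ := by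
    simp only [R, Finset.sum_smul, mul_smul]
    rw [Finset.sum_comm]
    simp only [← Finset.smul_sum, ← regPart_eq hM]
  rw [h1, Finset.sum_eq_single φ]
  · rw [Finset.sum_filter_of_ne, ← key φ hφF, if_pos rfl, one_smul]
    intro χ _ hne
    by_contra hχB
    exact hne (by rw [dnum_eq_zero_of_notMem hM hB hφ hχB, Nat.cast_zero, mul_zero])
  · intro ψ hψ hne
    by_cases hψB : ψ ∈ ibrOf hM B
    · rw [Finset.sum_filter_of_ne, ← key ψ hψ, if_neg hne, zero_smul]
      intro χ _ hne'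
      by_contra hχB
      exact hne' (by rw [dnum_eq_zero_of_notMem hM hB hψB hχB, Nat.cast_zero, mul_zero])
    · rw [Finset.sum_eq_zero, zero_smul]
      intro χ hχ
      have : dnum hM χ ψ = 0 := by
        by_contra h; exact hψB (mem_ibrOf.mpr ⟨hψ, χ, (Finset.mem_filter.mp hχ).2, h⟩)
      rw [this, Nat.cast_zero, mul_zero]
  · exact fun h => absurd hφF h

theorem span_ibr (hM : IsPModular p M) {B : Set (IrrCharacter G)} (hB : IsPBlock M B) :
    Submodule.span ℂ ((fun χ : IrrCharacter G => pRegularPart p (χ : G → ℂ)) '' B) =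
      Submodule.span ℂ (Set.range fun φ : ibrOf hM B => (φ : G → ℂ)) := by
  refine le_antisymm (Submodule.span_le.mpr ?_) (Submodule.span_le.mpr ?_)
  · rintro _ ⟨χ, hχ, rfl⟩
    simp only [SetLike.mem_coe]
    rw [regPart_eq_block hM hχ]
    exact Submodule.sum_mem _ fun φ hφ => Submodule.smul_mem _ _ (Submodule.subset_span ⟨⟨φ, hφ⟩, rfl⟩)
  · rintro _ ⟨⟨φ, hφ⟩, rfl⟩
    exact ibrOf_mem_span hM hB hφ

theorem blockRank_eq_card (hM : IsPModular p M) {B : Set (IrrCharacter G)} (hB : IsPBlock M B) :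
    blockRank p B = (ibrOf hM B).card := by
  have hli : LinearIndependent ℂ (fun φ : ibrOf hM B => (φ : G → ℂ)) := by
    rw [Fintype.linearIndependent_iff]
    intro c hc
    refine congrFun (brauer_independent hM (φ := fun x : ibrOf hM B => (x : G → ℂ)) Subtype.val_injective
      (fun x => mem_ibrF.mp (ibrOf_subset hM B x.2)) (c := c) fun g _ => ?_)
    have h2 := congrFun hc g
    simp only [Finset.sum_apply, Pi.smul_apply, smul_eq_mul, Pi.zero_apply] at h2
    exact h2
  rw [blockRank, span_ibr hM hB, finrank_span_eq_card hli, Fintype.card_coe]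

end CfsgLib.Modular
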