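import Cfsg.Agent.Lib.Blocks.AlgInt
import Mathlib.FieldTheory.IsAlgClosed.AlgebraicClosure
import Mathlib.FieldTheory.AlgebraicClosure
import Mathlib.FieldTheory.Minpoly.IsIntegrallyClosed
import Mathlib.RingTheory.Localization.Integral
import Mathlib.RingTheory.Polynomial.Content
import Mathlib.LinearAlgebra.Determinant

/-!
# The local integers inside the algebraic numbers

* `mem_or_inv_mem`: an algebraic number or its inverse is a local integer;
* `Alg`: the algebraic numbers; `alg_mem_or_inv_mem`;
* `exists_integral_coordinates`: among finitely many vectors spanning a space over the algebraic numbers some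
  basis gives all the others local-integral coordinates.
-/

set_option autoImplicit false

noncomputable section

namespace CfsgLib.Modular

open Cfsg CfsgLib.Blocks Polynomial

variable {M : Ideal AlgInt}

theorem mem_or_inv_mem_aux [M.IsMaximal] (x : ℂ) (n : ℕ) : ∀ P : AlgInt[X], P.natDegree ≤ n → aeval x P = 0 →
    (∃ j, P.coeff j ∉ M) → x ∈ locRing M ∨ x⁻¹ ∈ locRing M := by
  induction n with
  | zero =>
    intro P hd h0 ⟨j, hj⟩
    rw [eq_C_of_natDegree_le_zero hd, aeval_C] at h0
    have h1 : P.coeff 0 = 0 := Subtype.ext h0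
    exfalso
    rcases Nat.eq_zero_or_pos j with rfl | hpos
    · exact hj (h1 ▸ M.zero_mem)
    · exact hj (by rw [coeff_eq_zero_of_natDegree_lt (by omega)]; exact M.zero_mem)
  | succ n ih =>
    intro P hd h0 ⟨j, hj⟩
    by_cases hd' : P.natDegree ≤ n
    · exact ih P hd' h0 ⟨j, hj⟩
    have hdeg : P.natDegree = n + 1 := by omega
    let b : AlgInt := P.coeff (n + 1)
    have hint : IsIntegral ℤ ((b : ℂ) * x) := by
      refine isIntegral_trans (R := ℤ) (A := AlgInt) _ ?_
      have h := isIntegral_leadingCoeff_smul P x h0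
      rw [leadingCoeff, hdeg] at h
      exact h
    let y : AlgInt := ⟨(b : ℂ) * x, hint⟩
    by_cases hb : b ∈ M
    swap
    · refine Or.inl ⟨y, b, hb, ?_⟩
      exact (mul_div_cancel_left₀ x (coe_ne_zero_of_notMem hb))
    by_cases hy : y ∈ M
    swap
    · refine Or.inr ⟨b, y, hy, ?_⟩
      have hy0 : (b : ℂ) * x ≠ 0 := coe_ne_zero_of_notMem hy
      show (b : ℂ) / ((b : ℂ) * x) = x⁻¹
      rw [div_mul_eq_div_div, div_self (left_ne_zero_of_mul hy0), one_div]
    refine ih (P.eraseLead + C y * X ^ n) ?_ ?_ ?_
    · refine natDegree_add_le_of_degree_le ?_ (natDegree_C_mul_X_pow_le _ _)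
      exact (eraseLead_natDegree_le P).trans (by omega)
    · have h1 : aeval x P = aeval x P.eraseLead + (b : ℂ) * x ^ (n + 1) := by
        conv_lhs => rw [← eraseLead_add_C_mul_X_pow P, map_add, map_mul, map_pow, aeval_C, aeval_X,
          leadingCoeff, hdeg]
        rfl
      rw [map_add, map_mul, map_pow, aeval_C, aeval_X]
      show aeval x P.eraseLead + (b : ℂ) * x * x ^ n = 0
      rw [mul_assoc, ← pow_succ', ← h1, h0]
    · refine ⟨j, fun hmem => hj ?_⟩
      rw [coeff_add, coeff_C_mul_X_pow] at hmem
      by_cases hjn : j = n + 1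
      · rw [hjn]; exact hb
      rw [eraseLead_coeff_of_ne _ (hdeg.symm ▸ hjn)] at hmem
      split_ifs at hmem with h
      · exact (M.add_mem_iff_left hy).mp hmem
      · simpa using hmem

variable [hmax : M.IsMaximal]

/-- An algebraic number or its inverse is a local integer. -/
theorem mem_or_inv_mem {p : ℕ} (hM : IsPModular p M) {x : ℂ} (hx : IsAlgebraic ℤ x) :
    x ∈ locRing M ∨ x⁻¹ ∈ locRing M := by
  obtain ⟨f, hf0, hfx⟩ := hx
  have hprim : f.primPart.IsPrimitive := f.isPrimitive_primPart
  refine mem_or_inv_mem_aux x f.primPart.natDegree (f.primPart.map (algebraMap ℤ AlgInt))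
    natDegree_map_le ?_ ?_
  · rw [aeval_map_algebraMap]
    exact (aeval_primPart_eq_zero hf0 hfx)
  · by_contra hall
    push Not at hall
    have hdvd : ∀ j, (p : ℤ) ∣ f.primPart.coeff j := by
      intro j
      have h := hall j
      rw [coeff_map] at h
      exact (intCast_mem_iff hM _).mp h
    have hunit := hprim (p : ℤ) (C_dvd_iff_dvd_coeff _ _ |>.mpr hdvd)
    rw [Int.isUnit_iff_natAbs_eq, Int.natAbs_natCast] at hunit
    exact hM.1.ne_one hunit

/-- The algebraic numbers. -/
abbrev Alg : IntermediateField ℚ ℂ := algebraicClosure ℚ ℂ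

theorem isAlgebraic_int (x : Alg) : IsAlgebraic ℤ (x : ℂ) :=
  (IsFractionRing.isAlgebraic_iff ℤ ℚ ℂ).mpr (mem_algebraicClosure_iff.mp x.2)

theorem mem_alg_of_isIntegral {z : ℂ} (hz : IsIntegral ℤ z) : z ∈ Alg :=
  mem_algebraicClosure_iff.mpr (hz.tower_top (A := ℚ)).isAlgebraic

theorem alg_mem_or_inv_mem {p : ℕ} (hM : IsPModular p M) (x : Alg) :
    (x : ℂ) ∈ locRing M ∨ (x : ℂ)⁻¹ ∈ locRing M :=
  mem_or_inv_mem hM (isAlgebraic_int x)

/-- Among finitely many nonzero algebraic numbers one divides all the others. -/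
theorem exists_dominant {p : ℕ} (hM : IsPModular p M) {ι : Type*} (s : Finset ι) (a : ι → Alg)
    (h : ∃ i ∈ s, a i ≠ 0) :
    ∃ i ∈ s, a i ≠ 0 ∧ ∀ j ∈ s, ((a j / a i : Alg) : ℂ) ∈ locRing M := by
  classical
  induction s using Finset.induction with
  | empty => simp at h
  | insert k s hk ih =>
    by_cases hs : ∃ i ∈ s, a i ≠ 0
    · obtain ⟨i, hi, hi0, hall⟩ := ih hs
      rcases alg_mem_or_inv_mem hM (a k / a i) with hq | hq
      · refine ⟨i, Finset.mem_insert_of_mem hi, hi0, fun j hj => ?_⟩
        rcases Finset.mem_insert.mp hj with rfl | hj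
        exacts [hq, hall j hj]
      · by_cases hk0 : a k = 0
        · refine ⟨i, Finset.mem_insert_of_mem hi, hi0, fun j hj => ?_⟩
          rcases Finset.mem_insert.mp hj with rfl | hj
          · rw [hk0, zero_div]; exact Subring.zero_mem _
          · exact hall j hj
        refine ⟨k, Finset.mem_insert_self k s, hk0, fun j hj => ?_⟩
        rcases Finset.mem_insert.mp hj with rfl | hj
        · rw [div_self hk0]; exact Subring.one_mem _
        · rw [show a j / a k = (a j / a i) * (a k / a i)⁻¹ by rw [inv_div]; field_simp,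
            IntermediateField.coe_mul, IntermediateField.coe_inv]
          exact Subring.mul_mem _ (hall j hj) hq
    · push Not at hs
      obtain ⟨i, hi, hi0⟩ := h
      have hik : i = k := (Finset.mem_insert.mp hi).resolve_right fun h' => hi0 (hs i h')
      refine ⟨k, Finset.mem_insert_self k s, hik ▸ hi0, fun j hj => ?_⟩
      rcases Finset.mem_insert.mp hj with rfl | hj
      · rw [div_self (hik ▸ hi0)]; exact Subring.one_mem _
      · rw [hs j hj, zero_div]; exact Subring.zero_mem _

/-- Some basis out of a spanning family gives the whole family local-integral coordinates. -/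
theorem exists_integral_coordinates {p : ℕ} (hM : IsPModular p M) {ι V : Type*} [Fintype ι]
    [AddCommGroup V] [Module Alg V] [FiniteDimensional Alg V] (v : ι → V)
    (hspan : Submodule.span Alg (Set.range v) = ⊤) :
    ∃ b : Module.Basis (Fin (Module.finrank Alg V)) Alg V,
      (∀ i, ∃ j, b i = v j) ∧ ∀ j i, ((b.repr (v j) i : Alg) : ℂ) ∈ locRing M := by
  classical
  let b₀ := Module.finBasis Alg V
  let D : (Fin (Module.finrank Alg V) → ι) → Alg := fun f => b₀.det (v ∘ f)
  have hne : ∃ f ∈ (Finset.univ : Finset (Fin (Module.finrank Alg V) → ι)), D f ≠ 0 := by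
    by_contra hall
    push Not at hall
    refine b₀.det_ne_zero (AlternatingMap.coe_multilinearMap_injective ?_)
    refine MultilinearMap.ext fun w => ?_
    have hw : ∀ i, w i ∈ Submodule.span Alg (Set.range v) := fun i => hspan ▸ Submodule.mem_top
    simp only [Submodule.mem_span_range_iff_exists_fun] at hw
    choose c hc using hw
    rw [show w = fun i => ∑ j, c i j • v j from funext fun i => (hc i).symm]
    rw [MultilinearMap.map_sum]
    refine (Finset.sum_eq_zero fun f _ => ?_).trans rfl
    rw [MultilinearMap.map_smul_univ]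
    have h0 : b₀.det (v ∘ f) = 0 := hall f (Finset.mem_univ f)
    exact smul_eq_zero_of_right _ h0
  obtain ⟨f, -, hf0, hdom⟩ := exists_dominant hM _ D hne
  obtain ⟨hli, hsp⟩ := (Module.Basis.is_basis_iff_det b₀).mpr (isUnit_iff_ne_zero.mpr hf0 : IsUnit (b₀.det (v ∘ f)))
  let b := Module.Basis.mk hli hsp.ge
  refine ⟨b, fun i => ⟨f i, by rw [Module.Basis.mk_apply]; rfl⟩, fun j i => ?_⟩
  have hb : ⇑b = v ∘ f := Module.Basis.coe_mk _ _
  have hrep : b.repr (v j) i * D f = D (Function.update f i j) := by
    show b.repr (v j) i * b₀.det (v ∘ f) = b₀.det (v ∘ Function.update f i j)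
    rw [Function.comp_update, ← hb]
    conv_rhs => rw [← b.sum_repr (v j)]
    rw [AlternatingMap.map_update_sum, Finset.sum_eq_single i]
    · rw [AlternatingMap.map_update_smul, Function.update_eq_self, smul_eq_mul]
    · intro k _ hki
      rw [AlternatingMap.map_update_smul, AlternatingMap.map_update_self _ _ hki.symm, smul_zero]
    · simp
  have h := hdom (Function.update f i j) (Finset.mem_univ _)
  rwa [← hrep, mul_div_cancel_right₀ _ hf0] at h

end CfsgLib.Modular
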