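import Cfsg.Agent.Lib.Modular.Constituents
import Cfsg.Agent.Lib.Modular.Valuation
import Cfsg.Agent.Lib.Blocks.PointsCentral
import Cfsg.Agent.Lib.Blocks.PPart

/-!
# Irreducible Brauer characters are linearly independent
-/

set_option autoImplicit false

noncomputable section

namespace CfsgLib.Modular

open Cfsg CfsgLib.Blocks CfsgLib.Blocks.Points

attribute [local instance] CfsgLib.Blocks.resField

/-- Families with algebraic entries that are independent over the algebraic numbers stay independent. -/
theorem linearIndependent_map {ι α : Type*} [Fintype ι] [Fintype α] {w : ι → α → Alg}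
    (h : ∀ c : ι → Alg, (∀ x, ∑ i, c i * w i x = 0) → c = 0) {c : ι → ℂ}
    (hc : ∀ x, ∑ i, c i * ((w i x : Alg) : ℂ) = 0) : c = 0 := by
  classical
  let T : (ι → Alg) →ₗ[Alg] (α → Alg) :=
    { toFun := fun c x => ∑ i, c i * w i x
      map_add' := fun a b => by funext x; simp [add_mul, Finset.sum_add_distrib]
      map_smul' := fun a b => by funext x; simp [mul_assoc, Finset.mul_sum] }
  have hT : LinearMap.ker T = ⊥ := LinearMap.ker_eq_bot'.mpr fun c hc => h c fun x => congrFun hc x
  obtain ⟨L, hL⟩ := LinearMap.exists_leftInverse_of_injective T hT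
  funext j
  have key : ∀ i, ∑ x, (L (Pi.single x 1) j) * w i x = if i = j then 1 else 0 := by
    intro i
    have h1 : L (T (Pi.single i 1)) = Pi.single i 1 := LinearMap.congr_fun hL _
    have h2 : T (Pi.single i 1) = ∑ x, w i x • (Pi.single x (1 : Alg) : α → Alg) := by
      funext y
      simp only [T, LinearMap.coe_mk, AddHom.coe_mk, Finset.sum_apply, Pi.smul_apply, Pi.single_apply,
        smul_eq_mul, mul_ite, mul_one, mul_zero, ite_mul, one_mul, zero_mul, Finset.sum_ite_eq,
        Finset.sum_ite_eq', Finset.mem_univ, if_true]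
    rw [h2, map_sum] at h1
    have h3 := congrFun h1 j
    simp only [Finset.sum_apply, map_smul, Pi.smul_apply, smul_eq_mul, Pi.single_apply] at h3
    rw [show (if i = j then (1 : Alg) else 0) = if j = i then 1 else 0 from if_congr eq_comm rfl rfl, ← h3]
    exact Finset.sum_congr rfl fun x _ => mul_comm _ _
  calc c j = ∑ i, c i * (((if i = j then 1 else 0 : Alg)) : ℂ) := by
        rw [Finset.sum_eq_single j] <;> simp +contextual
    _ = ∑ x, ((L (Pi.single x 1) j : Alg) : ℂ) * ∑ i, c i * ((w i x : Alg) : ℂ) := by
        simp only [← key, IntermediateField.coe_sum, IntermediateField.coe_mul, Finset.mul_sum]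
        rw [Finset.sum_comm]
        exact Finset.sum_congr rfl fun i _ => Finset.sum_congr rfl fun x _ => by ring
    _ = 0 := by simp [hc]

variable {M : Ideal AlgInt} [M.IsMaximal] {G : Type*} [Group G] [Fintype G] {p : ℕ}
  {V : Type*} [AddCommGroup V] [Module (Res M) V] [FiniteDimensional (Res M) V]

theorem brauerFun_mem_alg (hM : IsPModular p M) (ρ : Representation (Res M) G V) (g : G) :
    brauerFun p M ρ g ∈ Alg := by
  by_cases hg : p ∣ orderOf g
  · rw [brauerFun_singular _ hg]; exact zero_mem _
  rw [brauerFun_regular _ hg]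
  refine multiset_sum_mem _ fun z hz => ?_
  obtain ⟨l, hl, rfl⟩ := Multiset.mem_map.mp hz
  have hm := not_dvd_pm (G := G) hM.1
  exact mem_alg_of_isIntegral (IsIntegral.of_pow (Nat.pos_of_ne_zero fun (h0 : pm p G = 0) => hm (by rw [h0]; exact dvd_zero p))
    (by rw [(liftRoot_spec hM hm (pow_of_isRoot ρ hM.1 hg hl)).1]; exact isIntegral_one))

omit [Fintype G] [FiniteDimensional (Res M) V] in
theorem traceForm_asModule (ρ : Representation (Res M) G V) (g : G) :
    traceForm (Res M) ρ.asModule g = LinearMap.trace (Res M) V (ρ g) := by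
  rw [traceForm]
  congr 1
  ext v
  show MonoidAlgebra.single g (1 : Res M) • (show ρ.asModule from v) = _
  exact (Representation.asModuleEquiv_map_smul ρ _ _).trans (by
    rw [Representation.asAlgebraHom_single, one_smul]; rfl)

/-- A vanishing combination of irreducible Brauer characters is trivial. -/
theorem brauer_independent (hM : IsPModular p M) {ι : Type*} [Fintype ι] {φ : ι → G → ℂ}
    (hinj : Function.Injective φ) (hφ : ∀ i, φ i ∈ ibr p M G) {c : ι → ℂ}
    (hc : ∀ g, ¬ p ∣ orderOf g → ∑ i, c i * φ i g = 0) : c = 0 := by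
  classical
  have : Fact p.Prime := ⟨hM.1⟩
  have := res_isAlgClosed M
  have : CharP (Res M) p := res_charP M hM
  choose n σ hirr hbr using hφ
  let w : ι → G → Alg := fun i g => ⟨brauerFun p M (σ i) g, brauerFun_mem_alg hM (σ i) g⟩
  refine linearIndependent_map (w := w) ?_ fun x => ?_
  swap
  · show ∑ i, c i * brauerFun p M (σ i) x = 0
    by_cases hx : p ∣ orderOf x
    · simp [brauerFun_singular _ hx]
    · simpa [hbr] using hc x hx
  intro d hd
  by_contra hne
  obtain ⟨i₀, -, hi₀, hdom⟩ := exists_dominant hM Finset.univ d (by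
    by_contra hall; push Not at hall; exact hne (funext fun i => hall i (Finset.mem_univ i)))
  let e : ι → locRing M := fun i => ⟨_, hdom i (Finset.mem_univ i)⟩
  have hed : ∀ i, (e i : ℂ) = (d i : ℂ) / (d i₀ : ℂ) := fun i => by simp [e, IntermediateField.coe_div]
  have hrel : ∀ g, ¬ p ∣ orderOf g → ∑ i, res M (e i) * LinearMap.trace (Res M) _ (σ i g) = 0 := by
    intro g hg
    let b : ι → locRing M := fun i => ⟨_, (resI_brauerFun (σ i) hM hg).1⟩
    have h0 : (∑ i, e i * b i : locRing M) = 0 := by
      apply Subtype.ext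
      have h := congrArg (fun z : Alg => (z : ℂ) / (d i₀ : ℂ)) (hd g)
      simp only [IntermediateField.coe_sum, IntermediateField.coe_mul, IntermediateField.coe_zero,
        zero_div, Finset.sum_div] at h
      rw [AddSubmonoidClass.coe_finsetSum, ZeroMemClass.coe_zero, ← h]
      refine Finset.sum_congr rfl fun i _ => ?_
      rw [Subring.coe_mul, hed]
      show _ / _ * brauerFun p M (σ i) g = _ * brauerFun p M (σ i) g / _
      ring
    have h1 := congrArg (res M) h0
    rw [map_sum, map_zero] at h1
    rw [← h1]
    refine Finset.sum_congr rfl fun i _ => ?_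
    rw [map_mul, ← resI_coe (b i), ← (resI_brauerFun (σ i) hM hg).2]
  let S : ι → Type := fun i => (σ i).asModule
  let _ : ∀ i, AddCommGroup (S i) := fun i => inferInstanceAs (AddCommGroup (σ i).asModule)
  let _ : ∀ i, Module (Res M) (S i) := fun i => inferInstanceAs (Module (Res M) (σ i).asModule)
  let _ : ∀ i, Module (MonoidAlgebra (Res M) G) (S i) := fun i =>
    inferInstanceAs (Module (MonoidAlgebra (Res M) G) (σ i).asModule)
  have : ∀ i, IsScalarTower (Res M) (MonoidAlgebra (Res M) G) (S i) := fun i =>
    inferInstanceAs (IsScalarTower (Res M) (MonoidAlgebra (Res M) G) (σ i).asModule)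
  have : ∀ i, FiniteDimensional (Res M) (S i) := fun i =>
    inferInstanceAs (Module.Finite (Res M) (σ i).asModule)
  have : ∀ i, IsSimpleModule (MonoidAlgebra (Res M) G) (S i) := fun i =>
    (σ i).irreducible_iff_isSimpleModule_asModule.mp (hirr i)
  have hne' : ∀ i j, i ≠ j → IsEmpty (S i ≃ₗ[MonoidAlgebra (Res M) G] S j) := by
    intro i j hij
    refine ⟨fun E => hij (hinj ?_)⟩
    rw [← hbr i, ← hbr j]
    let E' : (Fin (n i) → Res M) ≃ₗ[Res M] (Fin (n j) → Res M) :=
      (σ i).asModuleEquiv.symm ≪≫ₗ E.restrictScalars (Res M) ≪≫ₗ (σ j).asModuleEquiv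
    refine brauerFun_equiv _ E' fun g v => ?_
    show (σ j).asModuleEquiv (E ((σ i).asModuleEquiv.symm (σ i g v))) =
      σ j g ((σ j).asModuleEquiv (E ((σ i).asModuleEquiv.symm v)))
    rw [Representation.asModuleEquiv_symm_map_rho, map_smul, Representation.asModuleEquiv_map_smul,
      Representation.asAlgebraHom_of]
  have hzero := trace_forms_independent (k := Res M) S hne' (fun i => res M (e i)) (fun a => by
    induction a using MonoidAlgebra.induction_on with
    | of g =>
      obtain ⟨z, hz⟩ := exists_isPPart (p := p) g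
      obtain ⟨h, hzh, hcomm, ⟨j, hj⟩, hh⟩ := hz
      rw [← hrel h hh]
      refine Finset.sum_congr rfl fun i _ => ?_
      congr 1
      show traceForm (Res M) (σ i).asModule g = _
      rw [← hzh, traceForm_mul (p := p) (σ i).asModule hcomm (n := j) (by rw [← hj, pow_orderOf_eq_one])]
      exact traceForm_asModule (σ i) h
    | add a b iha ihb =>
      simp only [map_add, mul_add, Finset.sum_add_distrib, iha, ihb, add_zero]
    | smul r a ih =>
      simp only [map_smul, smul_eq_mul, mul_left_comm _ r, ← Finset.mul_sum, ih, mul_zero])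
  have h1 : res M (e i₀) = 0 := congrFun hzero i₀
  have h2 : e i₀ = 1 := Subtype.ext (by
    rw [hed, div_self (fun h => hi₀ (Subtype.ext h))]; rfl)
  rw [h2, map_one] at h1
  exact one_ne_zero h1

theorem ibr_finite (hM : IsPModular p M) : (ibr p M G).Finite := by
  classical
  refine Set.finite_coe_iff.mp ?_
  have : LinearIndependent ℂ (fun φ : ibr p M G => (φ : G → ℂ)) := by
    rw [linearIndependent_iff']
    intro s c hc i hi
    have h := brauer_independent hM (φ := fun x : s => ((x : ibr p M G) : G → ℂ))
      (fun a b h => Subtype.ext (Subtype.ext h)) (fun x => x.1.2) (c := fun x => c x) (fun g _ => by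
        have h2 := congrFun hc g
        simp only [Finset.sum_apply, Pi.smul_apply, smul_eq_mul, Pi.zero_apply] at h2
        rw [← h2]
        exact Finset.sum_coe_sort s (fun x => c x * (x : G → ℂ) g))
    exact congrFun h ⟨i, hi⟩
  exact this.finite

end CfsgLib.Modular
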