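import Cfsg.Agent.Lib.Modular.OverInvariant
import Cfsg.Agent.Lib.Blocks.Heights

/-!
# The single block of full defect over an invariant character of `O_{p'}`

* `isPBlock_over`: the characters over `θ` form one block;
* `isDefectGroup_over`: its defect groups are the Sylow `p`-subgroups.
-/

set_option autoImplicit false

noncomputable section

namespace CfsgLib.Modular

open Cfsg CfsgLib.Blocks CfsgLib.Char CfsgLib.CharNormal
open scoped commutatorElement

attribute [local instance] CfsgLib.Blocks.resField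

variable {M : Ideal AlgInt} [M.IsMaximal] {G : Type*} [Group G] [Fintype G] {p : ℕ}

/-- The hypotheses: `K ≤ L` with `p ∤ |K|`, `L / K` a `p`-group, `θ` invariant, and only elements of
`L` centralize `Q` modulo `K`. -/
structure IsOverSetup (p : ℕ) (K L Q : Subgroup G) [K.Normal] (θ : K → ℂ) : Prop where
  le : K ≤ L
  not_dvd : ¬ p ∣ Nat.card K
  index : ∃ j : ℕ, K.relIndex L = p ^ j
  inv : ∀ g : G, conjFun K g θ = θ
  isP : IsPGroup p Q
  sub : Q ≤ L
  fix : ∀ x : G, (∀ q ∈ Q, ⁅x, q⁆ ∈ K) → x ∈ L

variable {K L Q : Subgroup G} [hKn : K.Normal] [hLn : L.Normal] [Fintype K] [Fintype L]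
  {θ : IrrCharacter K}

theorem IsOverSetup.bomega_eq (hM : IsPModular p M) (h : IsOverSetup p K L Q (θ : K → ℂ))
    {χ ψ : IrrCharacter G} (hχ : classInner (fun k : K => (χ : G → ℂ) k) (θ : K → ℂ) ≠ 0)
    (hψ : classInner (fun k : K => (ψ : G → ℂ) k) (θ : K → ℂ) ≠ 0) :
    ψ ∈ blockOf M (χ : G → ℂ) := by
  classical
  have : Finite (ConjClasses G) := Finite.of_surjective _ ConjClasses.mk_surjective
  have := Fintype.ofFinite (ConjClasses G)
  have hB := isPBlock_blockOf (M := M) χ
  have h1 := bomega_idem hB χ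
  rw [if_pos (mem_blockOf_self χ), bomega_eq_sum] at h1
  have h2 := bomega_idem hB ψ
  rw [bomega_eq_sum] at h2
  have hterm : ∀ C : ConjClasses G, rcoeff (idem hB) C.out * bomega χ (zclass M C.out) =
      rcoeff (idem hB) C.out * bomega ψ (zclass M C.out) := by
    intro C
    by_cases hreg : p ∣ orderOf C.out
    · rw [rcoeff_idem_singular hM hB hreg, zero_mul, zero_mul]
    · congr 1
      by_cases hL : C.out ∈ L
      · have hK : C.out ∈ K := mem_of_pRegular K L hM.1 h.index hL hreg
        rw [bomega_apply, bomega_apply, ← memLocalIdeal_sub_iff, coe_zomega_zclass, coe_zomega_zclass,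
          centralChar_eq_icc_of_over χ.2 hχ hK, centralChar_eq_icc_of_over ψ.2 hψ hK, sub_self]
        exact (res_eq_zero_iff M 0).mp (map_zero _)
      · rw [bomega_eq_zero_of_over K L h.le hM h.not_dvd h.index h.inv h.isP h.sub h.fix χ hχ hL,
          bomega_eq_zero_of_over K L h.le hM h.not_dvd h.index h.inv h.isP h.sub h.fix ψ hψ hL]
  rw [Finset.sum_congr rfl (fun C _ => (hterm C).symm), h1] at h2
  by_contra hc
  rw [if_neg hc] at h2
  exact one_ne_zero h2

/-- The characters over `θ` form one block. -/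
theorem IsOverSetup.isPBlock_over (hM : IsPModular p M) (h : IsOverSetup p K L Q (θ : K → ℂ)) :
    IsPBlock M {χ : IrrCharacter G | classInner (fun k : K => (χ : G → ℂ) k) (θ : K → ℂ) ≠ 0} := by
  obtain ⟨χ, hχ⟩ := exists_irr_over K θ.2
  refine ⟨χ, Set.ext fun ψ => ⟨fun hψ => h.bomega_eq hM hχ hψ, fun hψ => ?_⟩⟩
  exact (over_iff_of_sameBlock hM h.not_dvd hψ θ).mp hχ

/-- The defect groups are the Sylow subgroups. -/
theorem IsOverSetup.isDefectGroup_over [hp : Fact p.Prime] (hM : IsPModular p M)
    (h : IsOverSetup p K L Q (θ : K → ℂ)) :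
    (∀ P : Sylow p G, IsDefectGroup p M
      {χ : IrrCharacter G | classInner (fun k : K => (χ : G → ℂ) k) (θ : K → ℂ) ≠ 0} (P : Subgroup G)) ∧
    ∀ D : Subgroup G, IsDefectGroup p M
      {χ : IrrCharacter G | classInner (fun k : K => (χ : G → ℂ) k) (θ : K → ℂ) ≠ 0} D →
      ∃ P : Sylow p G, D = (P : Subgroup G) := by
  classical
  set B := {χ : IrrCharacter G | classInner (fun k : K => (χ : G → ℂ) k) (θ : K → ℂ) ≠ 0}
  have hB : IsPBlock M B := h.isPBlock_over hM
  obtain ⟨χ, hχ⟩ := IsPBlock.nonempty hB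
  have hfull : blockDefect p B = (Nat.card G).factorization p := by
    obtain ⟨y, hy⟩ := exists_defectClass hB hχ
    obtain ⟨hc, hω⟩ := (isDefectClass_iff hB hχ y).mp hy
    have hyreg : ¬ p ∣ orderOf y := fun hd => hc (rcoeff_idem_singular hM hB hd)
    have hyL : y ∈ L := by
      by_contra hL
      exact hω (bomega_eq_zero_of_over K L h.le hM h.not_dvd h.index h.inv h.isP h.sub h.fix χ hχ hL)
    have hyK : y ∈ K := mem_of_pRegular K L hM.1 h.index hyL hyreg
    have hidx : ¬ p ∣ (Subgroup.centralizer ({y} : Set G)).index := by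
      intro hd
      refine hω ?_
      obtain ⟨i, hi⟩ := hd
      have hcs := res_eq_smul_of_invariant K χ.2 θ.2 h.inv hχ
      have hθd := CfsgLib.CharBlocks.charDegree_dvd_card θ.2
      have hd1 : ¬ p ∣ charDegree (θ : K → ℂ) := fun hd => h.not_dvd (hd.trans hθd)
      let w : locRing M := ⟨(θ : K → ℂ) ⟨y, hyK⟩ * (charDegree (θ : K → ℂ) : ℂ)⁻¹,
        Subring.mul_mem _ (algInt_le_locRing M (char_isIntegral (isCharacter_of_isIrr θ.2) _))
          (natCast_inv_mem_locRing hM hd1)⟩
      have hz : zomega χ (zclass M y) = ((p * i : ℕ) : locRing M) * w := Subtype.ext (by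
        rw [coe_zomega_zclass, centralChar, hi]
        push_cast
        have e1 := congrFun hcs ⟨y, hyK⟩
        have e2 := congrFun hcs 1
        simp only [OneMemClass.coe_one, Pi.smul_apply, smul_eq_mul] at e1 e2
        have hχ1 := irr_one_ne_zero χ.2
        rw [e1, e2]
        rw [e2] at hχ1
        have := left_ne_zero_of_mul hχ1
        have := right_ne_zero_of_mul hχ1
        simp only [w]
        rw [← CfsgLib.Char.charDegree_cast (isCharacter_of_isIrr θ.2)]
        field_simp)
      rw [bomega_apply, hz, map_mul, (res_natCast_eq_zero_iff M hM _).mpr (dvd_mul_right p i), zero_mul]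
    rw [(blockDefect_eq_of_defectClass hM hB hy).1,
      ← Subgroup.index_mul_card (Subgroup.centralizer ({y} : Set G)),
      Nat.factorization_mul Subgroup.index_ne_zero_of_finite Nat.card_pos.ne', Finsupp.add_apply,
      Nat.factorization_eq_zero_of_not_dvd hidx, zero_add]
  have key : ∀ D : Subgroup G, IsDefectGroup p M B D → ∃ P : Sylow p G, D = (P : Subgroup G) := by
    intro D hD
    have hc : Nat.card D = p ^ (Nat.card G).factorization p := by
      rw [card_defectGroup hM hB hD, hfull]
    exact ⟨Sylow.ofCard D hc, (Sylow.coe_ofCard D hc).symm⟩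
  refine ⟨fun P => ?_, key⟩
  obtain ⟨D, hD⟩ := exists_isDefectGroup (p := p) hB
  obtain ⟨P', rfl⟩ := key D hD
  obtain ⟨g, rfl⟩ := MulAction.exists_smul_eq G P' P
  have h1 := IsDefectGroup.conj hB hD g
  exact h1

end CfsgLib.Modular
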