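import Cfsg.Agent.Lib.Modular.OverBlock
import Cfsg.Agent.Lib.Cores.PConstrained

/-!
# The setup at `O_{p'}(G) ≤ O_{p',p}(G)`
-/

set_option autoImplicit false

noncomputable section

namespace CfsgLib.Modular

open Cfsg CfsgLib.CharNormal CfsgLib.Cores
open scoped commutatorElement

variable {G : Type*} [Group G] [Finite G] {p : ℕ} [Fact p.Prime]

theorem relIndex_pPrimeCore_pPrimePCore :
    ∃ j : ℕ, (pPrimeCore p G).relIndex (pPrimePCore p G) = p ^ j := by
  obtain ⟨j, hj⟩ := card_pCore_eq_pow (G := G ⧸ pPrimeCore p G) p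
  refine ⟨j, ?_⟩
  rw [show pPrimeCore p G = (QuotientGroup.mk' (pPrimeCore p G)).ker from (QuotientGroup.ker_mk' _).symm,
    Subgroup.relIndex_ker, map_mk'_pPrimePCore]
  exact hj

/-- The centralizer condition gives the setup. -/
theorem isOverSetup_core {θ : pPrimeCore p G → ℂ} (hinv : ∀ g : G, conjFun (pPrimeCore p G) g θ = θ)
    {Q : Subgroup G} (hQL : Q ≤ pPrimePCore p G) (hQp : IsPGroup p Q)
    (hC : Subgroup.centralizer (Q : Set G) ≤ pPrimePCore p G) :
    IsOverSetup p (pPrimeCore p G) (pPrimePCore p G) Q θ where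
  le := pPrimeCore_le_pPrimePCore
  not_dvd := not_dvd_card_pPrimeCore p
  index := relIndex_pPrimeCore_pPrimePCore
  inv := hinv
  isP := hQp
  sub := hQL
  fix := fun x hx => by
    obtain ⟨n, hn, y, hy, rfl⟩ := exists_mul_of_map_mk'_centralizes hQp (coprime_card_pPrimeCore p) hx
    exact mul_mem (pPrimeCore_le_pPrimePCore hn) (hC hy)

end CfsgLib.Modular
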