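import Cfsg.Agent.Lib.Modular.TraceForm
import Cfsg.Agent.Lib.Modular.Realize
import Cfsg.Agent.Lib.Modular.Reduction
import Cfsg.Agent.Lib.Char.PResidualSum
import Cfsg.Agent.Lib.Blocks.Covering

/-!
# Characters over an invariant character of a normal `p'`-subgroup

Let `K ≤ L` be normal in `G`, `p ∤ |K|`, `L / K` a `p`-group, `θ` a `G`-invariant irreducible
character of `K` and `Q ≤ L` a `p`-group such that only elements of `L` centralize `Q` modulo `K`.
* `bomega_eq_zero_of_over`: the reduced central character of `χ` over `θ` vanishes outside `L`.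
-/

set_option autoImplicit false

noncomputable section

namespace CfsgLib.Modular

open Cfsg CfsgLib.Blocks CfsgLib.Char CfsgLib.CharNormal
open scoped ComplexConjugate commutatorElement

attribute [local instance] CfsgLib.Blocks.resField

variable {M : Ideal AlgInt} [M.IsMaximal] {G : Type*} [Group G] {p : ℕ}

/-- An invariant function without nonzero fixed values sums to zero in characteristic `p`. -/
theorem sum_eq_zero_of_invariant {k : Type*} [AddCommMonoid k] (hchar : ∀ v : k, p • v = 0)
    {Q : Type*} [Group Q] [Finite Q] [hp : Fact p.Prime] (hQ : IsPGroup p Q) {Ω : Type*} [Fintype Ω]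
    [MulAction Q Ω] (f : Ω → k) (hinv : ∀ (q : Q) (c : Ω), f (q • c) = f c)
    (hfix : ∀ c ∈ MulAction.fixedPoints Q Ω, f c = 0) : ∑ c, f c = 0 := by
  classical
  let _ : Fintype (MulAction.orbitRel.Quotient Q Ω) := Quotient.fintype _
  rw [← Finset.sum_fiberwise Finset.univ (fun c => Quotient.mk (MulAction.orbitRel Q Ω) c) f]
  refine Finset.sum_eq_zero fun o _ => ?_
  induction o using Quotient.inductionOn with
  | h c₀ =>
    have hmem : ∀ c, c ∈ Finset.univ.filter (fun c => (Quotient.mk (MulAction.orbitRel Q Ω) c) =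
        Quotient.mk (MulAction.orbitRel Q Ω) c₀) ↔ c ∈ MulAction.orbit Q c₀ := by
      intro c
      rw [Finset.mem_filter, Quotient.eq, MulAction.orbitRel_apply]
      simp
    by_cases hf : c₀ ∈ MulAction.fixedPoints Q Ω
    · refine Finset.sum_eq_zero fun c hc => ?_
      obtain ⟨q, rfl⟩ := (hmem c).mp hc
      rw [hinv]; exact hfix c₀ hf
    · rw [Finset.sum_congr rfl (g := fun _ => f c₀) (fun c hc => by
        obtain ⟨q, rfl⟩ := (hmem c).mp hc
        exact hinv q c₀), Finset.sum_const]
      obtain ⟨j, hj⟩ := hQ.card_orbit c₀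
      have hcard : (Finset.univ.filter fun c => (Quotient.mk (MulAction.orbitRel Q Ω) c) =
          Quotient.mk (MulAction.orbitRel Q Ω) c₀).card = p ^ j := by
        rw [← hj, Nat.card_eq_fintype_card, ← Set.toFinset_card]
        congr 1
        ext c
        rw [hmem, Set.mem_toFinset]
      rw [hcard]
      rcases j with _ | j
      · exfalso
        rw [pow_zero] at hj
        refine hf fun q => ?_
        have hs := (Nat.card_eq_one_iff_unique.mp hj).1
        exact congrArg Subtype.val (hs.elim ⟨q • c₀, q, rfl⟩ ⟨c₀, MulAction.mem_orbit_self c₀⟩)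
      · rw [pow_succ', mul_nsmul', hchar]

variable [Fintype G] (K L : Subgroup G) [hKn : K.Normal] [hLn : L.Normal] [Fintype K] [Fintype L]

omit [Fintype G] hLn [Fintype K] [Fintype L] in
theorem mem_of_pRegular (hp : p.Prime) (hidx : ∃ j : ℕ, K.relIndex L = p ^ j) {l : G}
    (hl : l ∈ L) (hreg : ¬ p ∣ orderOf l) : l ∈ K := by
  have h := mem_of_index_pow (N := K.subgroupOf L) hp hidx (g := ⟨l, hl⟩)
    (by rwa [← Subgroup.orderOf_coe])
  exact h

variable {θ : IrrCharacter K} (hKL : K ≤ L)

omit [Fintype G] hLn in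
include hKL in
/-- The extension of an invariant character to `L`, as a representation. -/
theorem exists_ext_rep [Fact p.Prime] (hK : ¬ p ∣ Nat.card K) (hidx : ∃ j : ℕ, K.relIndex L = p ^ j)
    (hinv : ∀ g : G, conjFun K g (θ : K → ℂ) = θ) :
    ∃ (d : ℕ) (σ : Representation ℂ L (Fin d → ℂ)), σ.IsIrreducible ∧
      ∀ k : K, σ.character (Subgroup.inclusion hKL k) = (θ : K → ℂ) k := by
  classical
  obtain ⟨j, hj⟩ := hidx
  let e := Subgroup.subgroupOfEquivOfLe hKL
  let _ : Fintype (K.subgroupOf L) := Fintype.ofFinite _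
  set θ' : K.subgroupOf L → ℂ := (θ : K → ℂ) ∘ e with hθ'
  have hθ'i : IsIrrCharacter (K.subgroupOf L) θ' := isIrr_comp_mulEquiv θ.2 e
  have hcard : Nat.card (K.subgroupOf L) = Nat.card K := Nat.card_congr e.toEquiv
  have hlin : ∀ f : K.subgroupOf L →* ℂˣ, ¬ p ∣ orderOf f := fun f hd => hK (hcard ▸ hd.trans
    (orderOf_dvd_of_pow_eq_one (MonoidHom.ext fun n => by
      rw [MonoidHom.pow_apply, ← map_pow, pow_card_eq_one', map_one]; rfl)))
  have hdeg : ¬ p ∣ charDegree θ' := fun hd => hK (hcard ▸ hd.trans
    (CfsgLib.CharBlocks.charDegree_dvd_card hθ'i))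
  have hinv' : ∀ g : L, conjFun (K.subgroupOf L) g θ' = θ' := by
    intro g
    funext n
    exact congrFun (hinv (g : G)) (e n)
  obtain ⟨χ, ⟨hχ, -⟩, -⟩ := existsUnique_prime_ext hj hlin hθ'i hinv' hdeg
  obtain ⟨d, σ, hσ, hσc⟩ := χ.2
  exact ⟨d, σ, hσ, fun k => by
    rw [congrFun hσc]
    exact (hχ (e.symm k)).trans (congrArg (θ : K → ℂ) (e.apply_symm_apply k))⟩

/-- Kernel of the twisted relations. -/
def twistKer (c : L → K → Res M) {V : Type*} [AddCommGroup V] [Module (Res M) V]
    (ρ : Representation (Res M) G V) : Submodule (Res M) V :=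
  ⨅ q : L, LinearMap.ker (ρ (q : G) - ∑ k : K, c q k • ρ (k : G))

omit [Fintype G] hKn hLn [Fintype L] in
theorem mem_twistKer {c : L → K → Res M} {V : Type*} [AddCommGroup V] [Module (Res M) V]
    {ρ : Representation (Res M) G V} {v : V} :
    v ∈ twistKer K L c ρ ↔ ∀ q : L, ρ (q : G) v = ∑ k : K, c q k • ρ (k : G) v := by
  simp [twistKer, sub_eq_zero, LinearMap.sum_apply]

include hKL in
/-- **Vanishing outside `L`.** -/
theorem bomega_eq_zero_of_over (hM : IsPModular p M) (hK : ¬ p ∣ Nat.card K)
    (hidx : ∃ j : ℕ, K.relIndex L = p ^ j) (hinv : ∀ g : G, conjFun K g (θ : K → ℂ) = θ)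
    {Q : Subgroup G} (hQp : IsPGroup p Q) (hQL : Q ≤ L)
    (hfix : ∀ x : G, (∀ q ∈ Q, ⁅x, q⁆ ∈ K) → x ∈ L)
    (χ : IrrCharacter G) (hover : classInner (fun k : K => (χ : G → ℂ) k) (θ : K → ℂ) ≠ 0)
    {g : G} (hg : g ∉ L) : bomega χ (zclass M g) = 0 := by
  classical
  have : Fact p.Prime := ⟨hM.1⟩
  have : CharP (Res M) p := res_charP M hM
  -- the extension `σ` of `θ` and its values in the local ring
  obtain ⟨d, σ, hσ, hσθ⟩ := exists_ext_rep K L hKL hK hidx hinv
  let σK : Representation ℂ K (Fin d → ℂ) := σ.comp (Subgroup.inclusion hKL)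
  have hσKc : σK.character = (θ : K → ℂ) := funext hσθ
  have : σK.IsIrreducible := isIrreducible_of_isIrrCharacter σK (hσKc ▸ θ.2)
  have hθint : ∀ k : K, (θ : K → ℂ) k ∈ locRing M := fun k =>
    algInt_le_locRing M (char_isIntegral (isCharacter_of_isIrr θ.2) k)
  have hψint : ∀ l : L, σ.character l ∈ locRing M := fun l =>
    algInt_le_locRing M (char_isIntegral (isCharacter_char σ) l)
  let th : K → locRing M := fun k => ⟨_, hθint k⟩
  let ps : L → locRing M := fun l => ⟨_, hψint l⟩
  let Ki : locRing M := ⟨(Nat.card K : ℂ)⁻¹, natCast_inv_mem_locRing hM hK⟩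
  have hKi : Ki * (Nat.card K : locRing M) = 1 := Subtype.ext (by
    push_cast
    exact inv_mul_cancel₀ card_ne_zero')
  have hKcr : res M Ki * (Nat.card K : Res M) = 1 := by
    rw [← map_natCast (res M), ← map_mul, hKi, map_one]
  have hthps : ∀ k : K, ps (Subgroup.inclusion hKL k) = th k := fun k => Subtype.ext (hσθ k)
  have hrm : ∀ (a : K), repMat σK a = repMat σ (Subgroup.inclusion hKL a) := fun a => rfl
  have htr : ∀ a : L, (repMat σ a).trace = σ.character a := fun a =>
    (LinearMap.trace_eq_matrix_trace ℂ (Pi.basisFun ℂ (Fin d)) (σ a)).trans (by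
      rw [LinearMap.toMatrix_eq_toMatrix']; rfl) |>.symm
  have conv1 : ∀ q l : L, (d : locRing M) *
      ∑ k : K, ps (q * (Subgroup.inclusion hKL k)⁻¹) * ps (Subgroup.inclusion hKL k * l) =
        (Nat.card K : locRing M) * ps (q * l) := by
    intro q l
    refine Subtype.ext ?_
    push_cast
    have h := schur_sum_trace σK (repMat σ q) (repMat σ l)
    simp only [hrm, map_inv, ← repMat_mul, htr] at h
    simpa [ps] using h
  have conv2 : ∀ x y : K, (d : locRing M) * ∑ h : K, th (h * x * h⁻¹ * y) =
      (Nat.card K : locRing M) * (th x * th y) := by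
    intro x y
    refine Subtype.ext ?_
    push_cast
    have h := schur_sum_conj σK (repMat σK x) (repMat σK y)
    simp only [hrm, ← repMat_mul, htr, ← map_mul, hσθ] at h
    simpa [th] using h
  -- the reduced extension
  let ψ₀ : IrrCharacter L := ⟨σ.character, d, σ, hσ, rfl⟩
  obtain ⟨n₀, B, hB⟩ := exists_integral_rep hM ψ₀
  let f0 : L → Res M := fun l => res M (ps l)
  have hf0tr : ∀ l : L, LinearMap.trace (Res M) _ (redRep B l) = f0 l := by
    intro l
    show LinearMap.trace (Res M) _ (Matrix.toLin' ((B l).map (res M))) = _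
    rw [Matrix.trace_toLin'_eq]
    exact ((AddMonoidHom.map_trace (res M).toAddMonoidHom (B l)).symm).trans
      (congrArg (res M) (Subtype.ext (hB l)))
  have hdec : ∀ l : L, ∃ (z : L) (x : K), l = z * Subgroup.inclusion hKL x ∧
      Commute z (Subgroup.inclusion hKL x) ∧ (∃ a : ℕ, orderOf z = p ^ a) := by
    intro l
    obtain ⟨z, x, hzx, hcomm, hz, hx⟩ := exists_isPPart (p := p) l
    exact ⟨z, ⟨x, mem_of_pRegular K L hM.1 hidx x.2 (by rwa [Subgroup.orderOf_coe])⟩, hzx.symm,
      hcomm, hz⟩
  have hf0dec : ∀ (z : L) (x : K), Commute z (Subgroup.inclusion hKL x) →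
      (∃ a : ℕ, orderOf z = p ^ a) → f0 (z * Subgroup.inclusion hKL x) = res M (th x) := by
    intro z x hc hz
    rw [← hf0tr, trace_mul_pElement hM (redRep B) hc hz, hf0tr, ← hthps]
  let cj : G → L → L := fun g l => ⟨g * l * g⁻¹, hLn.conj_mem _ l.2 g⟩
  have hf0inv : ∀ (g : G) (l : L), f0 (cj g l) = f0 l := by
    intro g l
    obtain ⟨z, x, rfl, hc, hz⟩ := hdec l
    let x' : K := ⟨g * x * g⁻¹, hKn.conj_mem _ x.2 g⟩
    have e1 : cj g (z * Subgroup.inclusion hKL x) = cj g z * Subgroup.inclusion hKL x' := Subtype.ext (by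
      simp [cj, x', mul_assoc])
    rw [e1, hf0dec z x hc hz, hf0dec _ x' ?_ ?_]
    · exact congrArg (res M) (Subtype.ext (congrFun (hinv g) x))
    · refine Subtype.ext ?_
      have := congrArg (fun y : L => g * (y : G) * g⁻¹) hc.eq
      simpa [cj, x', mul_assoc] using this
    · obtain ⟨a, ha⟩ := hz
      refine ⟨a, ?_⟩
      have : ((cj g z : L) : G) = MulAut.conj g (z : G) := rfl
      rw [← Subgroup.orderOf_coe, this, MulEquiv.orderOf_eq, Subgroup.orderOf_coe, ha]
  let cq : L → K → Res M := fun q k => res M ((d : locRing M) * Ki) * f0 (q * (Subgroup.inclusion hKL k)⁻¹)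
  have hcq : ∀ q l : L, ∑ k : K, cq q k * f0 (Subgroup.inclusion hKL k * l) = f0 (q * l) := by
    intro q l
    have h := congrArg (res M) (conv1 q l)
    simp only [map_mul, map_sum, map_natCast, Finset.mul_sum] at h
    calc ∑ k : K, cq q k * f0 (Subgroup.inclusion hKL k * l)
        = res M Ki * ∑ k : K, (d : Res M) * (f0 (q * (Subgroup.inclusion hKL k)⁻¹) *
            f0 (Subgroup.inclusion hKL k * l)) := by
          rw [Finset.mul_sum]
          exact Finset.sum_congr rfl fun k _ => by simp only [cq, map_mul, map_natCast]; ring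
      _ = res M Ki * ((Nat.card K : Res M) * f0 (q * l)) := by rw [h]
      _ = _ := by rw [← mul_assoc, hKcr, one_mul]
  -- the representation
  obtain ⟨n, A, hA⟩ := exists_integral_rep hM χ
  set ρ := redRep A with hρ
  let Ac : G →* Matrix (Fin n) (Fin n) ℂ := ((locRing M).subtype.mapMatrix).toMonoidHom.comp A
  let ρc : Representation ℂ G (Fin n → ℂ) :=
    (Matrix.toLinAlgEquiv' (R := ℂ) (n := Fin n)).toMonoidHom.comp Ac
  have hρc : ρc.character = (χ : G → ℂ) := funext fun x => by
    show LinearMap.trace ℂ _ (Matrix.toLin' (Ac x)) = _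
    rw [Matrix.trace_toLin'_eq, ← hA x]
    exact (AddMonoidHom.map_trace (locRing M).subtype.toAddMonoidHom (A x)).symm
  have : ρc.IsIrreducible := isIrreducible_of_isIrrCharacter ρc (hρc ▸ χ.2)
  have hlift : ∀ {ι : Type _} [Fintype ι] (a : ι → locRing M) (x : ι → G) (c : locRing M),
      (∑ i, (a i : ℂ) • ρc (x i)) = (c : ℂ) • LinearMap.id →
        (∑ i, res M (a i) • ρ (x i)) = res M c • LinearMap.id := by
    intro ι _ a x c h
    have hm : ∑ i, a i • A (x i) = c • (1 : Matrix (Fin n) (Fin n) (locRing M)) := by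
      ext i j
      have := congrFun (congrFun (congrArg LinearMap.toMatrix' h) i) j
      simp [Matrix.sum_apply, ρc, Ac, LinearMap.toMatrix'_toLin', Matrix.one_apply] at this
      simp [Matrix.sum_apply, Matrix.one_apply]
      convert this using 1
      rcases eq_or_ne i j with e | e <;> simp [e]
    have h2 := congrArg (fun X : Matrix (Fin n) (Fin n) (locRing M) => Matrix.toLin' (X.map (res M))) hm
    refine LinearMap.ext fun v => funext fun i => ?_
    have h3 := congrFun (LinearMap.congr_fun h2 v) i
    simpa [ρ, redRep, Matrix.mulVec, dotProduct, Matrix.sum_apply, Matrix.one_apply, Finset.mul_sum,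
      Finset.sum_mul, mul_assoc, Finset.sum_comm (γ := Fin n), apply_ite (res M)] using h3
  -- the central scalars
  have hT : ∀ v, ∑ x ∈ Finset.univ.filter (IsConj g), ρ x v = bomega χ (zclass M g) • v := by
    have h := (classSum_eq_smul ρc g).1
    have h' := hlift (ι := {x : G // IsConj g x}) (fun _ => 1) Subtype.val (zomega χ (zclass M g)) (by
      simp only [OneMemClass.coe_one, one_smul]
      rw [← Finset.sum_subtype (Finset.univ.filter (IsConj g)) (by simp) (fun x => ρc x), h, hρc,
        coe_zomega_zclass]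
      congr 1
      have hn : (Module.finrank ℂ (Fin n → ℂ) : ℂ) = (χ : G → ℂ) 1 := by
        rw [← hρc, Representation.char_one]
      rw [centralChar, ← CfsgLib.Char.card_isConj_eq_index g, hn])
    intro v
    have h3 := LinearMap.congr_fun h' v
    simp only [map_one, one_smul, LinearMap.sum_apply, LinearMap.smul_apply, LinearMap.id_apply] at h3
    rw [Finset.sum_subtype (Finset.univ.filter (IsConj g)) (p := IsConj g) (by simp)]
    exact h3
  let ev : K → locRing M := fun k => (d : locRing M) * Ki * th k⁻¹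
  have hE : ∀ v, ∑ k : K, res M (ev k) • ρ (k : G) v = v := by
    have hcl : ∀ (x : G) (k : K), ev ⟨x * k * x⁻¹, hKn.conj_mem _ k.2 x⟩ = ev k := fun x k => by
      simp only [ev]
      congr 1
      refine Subtype.ext ?_
      exact (congrArg (θ : K → ℂ) (Subtype.ext (by simp [mul_assoc]))).trans (congrFun (hinv x) k⁻¹)
    obtain ⟨c, hc⟩ := exists_eq_smul_id ρc (∑ k : K, (ev k : ℂ) • ρc (k : G)) fun y => by
      rw [← Module.End.mul_eq_comp, ← Module.End.mul_eq_comp, Finset.sum_mul, Finset.mul_sum]
      refine Fintype.sum_equiv (MulAut.conjNormal y⁻¹ : MulAut K).toEquiv _ _ fun k => ?_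
      have e : ev ((MulAut.conjNormal y⁻¹ : MulAut K).toEquiv k) = ev k :=
        (congrArg ev (Subtype.ext (by simp))).trans (hcl y⁻¹ k)
      rw [e, smul_mul_assoc, mul_smul_comm, ← map_mul, ← map_mul]
      congr 2
      simp [mul_assoc]
    have hsq : c * c = c := by
      have h2 : (∑ k : K, (ev k : ℂ) • ρc (k : G)) * (∑ k : K, (ev k : ℂ) • ρc (k : G)) =
          ∑ k : K, (ev k : ℂ) • ρc (k : G) := by
        rw [Finset.sum_mul_sum]
        rw [Finset.sum_congr rfl fun a _ => (Fintype.sum_equiv (Equiv.mulLeft a)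
          (fun b : K => ((ev a : ℂ) • ρc (a : G)) * ((ev b : ℂ) • ρc (b : G)))
          (fun m : K => ((ev a : ℂ) * (ev (a⁻¹ * m) : ℂ)) • ρc (m : G)) fun b => by
            simp [smul_mul_assoc, mul_smul_comm, smul_smul, mul_comm]), Finset.sum_comm]
        refine Finset.sum_congr rfl fun m _ => ?_
        rw [← Finset.sum_smul]
        congr 1
        have h := congrArg (fun z : locRing M => (Ki : ℂ) * (Ki : ℂ) * (d : ℂ) * (z : ℂ))
          (conv1 1 (Subgroup.inclusion hKL m⁻¹))
        simp only [Subring.coe_mul, SubringClass.coe_natCast, AddSubmonoidClass.coe_finsetSum,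
          one_mul, ← map_inv, ← map_mul, hthps] at h
        have hK1 : (Ki : ℂ) * (Nat.card K : ℂ) = 1 := inv_mul_cancel₀ card_ne_zero'
        calc ∑ a : K, (ev a : ℂ) * (ev (a⁻¹ * m) : ℂ)
            = (Ki : ℂ) * (Ki : ℂ) * (d : ℂ) * ((d : ℂ) * ∑ a : K, (th a⁻¹ : ℂ) * (th (a * m⁻¹) : ℂ)) := by
              simp only [Finset.mul_sum, ev, Subring.coe_mul, SubringClass.coe_natCast]
              refine Finset.sum_congr rfl fun a _ => ?_
              have : (th (a⁻¹ * m)⁻¹ : ℂ) = th (a * m⁻¹) := by
                refine Eq.trans ?_ (isClassFunction_of_isIrr θ.2 (a * m⁻¹) m⁻¹)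
                exact congrArg (θ : K → ℂ) (by group)
              rw [this]; ring
          _ = (ev m : ℂ) := by
              rw [h]
              simp only [ev, Subring.coe_mul, SubringClass.coe_natCast]
              linear_combination (Ki : ℂ) * (d : ℂ) * (th m⁻¹ : ℂ) * hK1
      rw [hc, smul_mul_smul_comm, ← Module.End.one_eq_id, one_mul] at h2
      have := congrArg (LinearMap.trace ℂ (Fin n → ℂ)) h2
      simp only [map_smul, LinearMap.trace_one, smul_eq_mul] at this
      exact mul_right_cancel₀ (by exact_mod_cast (finrank_pos_of_irreducible ρc).ne') this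
    have hc0 : c ≠ 0 := by
      intro h0
      have := congrArg (LinearMap.trace ℂ (Fin n → ℂ)) hc
      rw [h0, zero_smul, map_zero, map_sum] at this
      simp only [map_smul, smul_eq_mul] at this
      refine hover ?_
      have hd0 : (d : ℂ) ≠ 0 := by exact_mod_cast (finrank_pos_of_irreducible σ).ne' ∘ (by simp)
      rw [classInner_def]
      refine (mul_right_inj' hd0).mp ?_
      rw [mul_zero, ← this, Finset.mul_sum, Finset.mul_sum]
      refine Finset.sum_congr rfl fun k _ => ?_
      rw [← hρc, ← char_inv (isCharacter_of_isIrr θ.2)]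
      simp only [ev, th, Ki, Subring.coe_mul, SubringClass.coe_natCast, Representation.character]
      ring
    have hc1 : c = 1 := by
      rcases mul_left_eq_self₀.mp hsq with h | h
      · exact h
      · exact absurd h hc0
    intro v
    have := hlift ev (fun k : K => (k : G)) 1 (by rw [hc, hc1, OneMemClass.coe_one])
    simpa using LinearMap.congr_fun this v
  -- the twisted relations hold on a nonzero invariant subspace
  set W := twistKer K L cq ρ with hW
  have hWinv : ∀ (x : G), ∀ v ∈ W, ρ x v ∈ W := by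
    intro x v hv
    rw [hW, mem_twistKer] at hv ⊢
    intro q
    let q' : L := cj x⁻¹ q
    have hq : (q : G) * x = x * (q' : G) := by simp [q', cj, mul_assoc]
    rw [← Module.End.mul_apply, ← map_mul, hq, map_mul, Module.End.mul_apply, hv q', map_sum]
    refine Fintype.sum_equiv (MulAut.conjNormal x : MulAut K).toEquiv _ _ fun k => ?_
    rw [map_smul, ← Module.End.mul_apply, ← map_mul, ← Module.End.mul_apply, ← map_mul]
    have e1 : cq q' k = cq q ((MulAut.conjNormal x : MulAut K).toEquiv k) := by
      simp only [cq]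
      congr 1
      refine (hf0inv x _).symm.trans (congrArg f0 (Subtype.ext ?_))
      simp [q', cj, mul_assoc]
    rw [e1]
    congr 2
    refine congrArg ρ ?_
    simp [mul_assoc]
  have hnz : ∃ v ∈ W, v ≠ 0 := by
    let ρL := pullRep ρ L.subtype
    let S : Set (Submodule (Res M) (Fin n → Res M)) := {U | U ≠ ⊥ ∧ ∀ l : L, U ≤ U.comap (ρL l)}
    have hne : (⊤ : Submodule (Res M) (Fin n → Res M)) ≠ ⊥ := by
      have hn : 0 < n := by simpa using finrank_pos_of_irreducible ρc
      have : Nonempty (Fin n) := ⟨⟨0, hn⟩⟩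
      exact top_ne_bot
    obtain ⟨U, ⟨hU0, hUinv⟩, hmin⟩ := WellFounded.has_min (r := fun a b : Submodule (Res M) (Fin n → Res M) => a < b)
      wellFounded_lt S ⟨⊤, hne, fun l => by simp⟩
    set τ := subRep ρL U hUinv with hτ
    have : Nontrivial U := Submodule.nontrivial_iff_ne_bot.mpr hU0
    have hτirr : τ.IsIrreducible := by
      by_contra hirr
      obtain ⟨U', h0, h1, hinv'⟩ := exists_invariant_of_not_irreducible τ hirr
      refine hmin (U'.map U.subtype) ⟨fun h => h0 ?_, fun l => ?_⟩ (lt_of_le_of_ne (Submodule.map_subtype_le U U') ?_)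
      · exact Submodule.map_injective_of_injective U.injective_subtype (by rw [h, Submodule.map_bot])
      · rintro _ ⟨v, hv, rfl⟩
        exact ⟨_, hinv' l hv, rfl⟩
      · intro h
        refine h1 (Submodule.map_injective_of_injective U.injective_subtype ?_)
        rw [h, Submodule.map_subtype_top]
    -- the trace form of `τ`
    let t : L → Res M := fun l => LinearMap.trace (Res M) U (τ l)
    have htK : ∀ (h x : K), t (Subgroup.inclusion hKL (h * x * h⁻¹)) = t (Subgroup.inclusion hKL x) := by
      intro h x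
      simp only [t, map_mul, map_inv]
      rw [LinearMap.trace_mul_comm, ← mul_assoc, ← map_mul, inv_mul_cancel, map_one, one_mul]
    have hEU : ∀ x : K, ∑ k : K, res M (ev k) * t (Subgroup.inclusion hKL (k * x)) =
        t (Subgroup.inclusion hKL x) := by
      intro x
      have he : ∑ k : K, res M (ev k) • τ (Subgroup.inclusion hKL (k * x)) = τ (Subgroup.inclusion hKL x) := by
        refine LinearMap.ext fun u => Subtype.ext ?_
        simp only [LinearMap.sum_apply, AddSubmonoidClass.coe_finsetSum, LinearMap.smul_apply,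
          SetLike.val_smul, hτ, subRep_apply, ρL, pullRep_apply, Subgroup.coe_subtype,
          Subgroup.coe_inclusion, Subgroup.coe_mul, map_mul, Module.End.mul_apply]
        exact hE _
      have := congrArg (LinearMap.trace (Res M) U) he
      simpa [t] using this
    let S₀ : Res M := ∑ m : K, t (Subgroup.inclusion hKL m) * res M (th m⁻¹)
    have htx : ∀ x : K, t (Subgroup.inclusion hKL x) = res M (th x) * (res M Ki * S₀) := by
      intro x
      have h1 : (Nat.card K : Res M) * t (Subgroup.inclusion hKL x) = res M (th x) * S₀ := by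
        calc (Nat.card K : Res M) * t (Subgroup.inclusion hKL x)
            = ∑ h : K, t (Subgroup.inclusion hKL (h * x * h⁻¹)) := by
              rw [Finset.sum_congr rfl fun h _ => htK h x, Finset.sum_const, Finset.card_univ,
                nsmul_eq_mul, Nat.card_eq_fintype_card]
          _ = ∑ h : K, ∑ m : K, res M (ev (m * (h * x * h⁻¹)⁻¹)) * t (Subgroup.inclusion hKL m) := by
              refine Finset.sum_congr rfl fun h _ => ?_
              rw [← hEU]
              exact Fintype.sum_equiv (Equiv.mulRight (h * x * h⁻¹)) _ _ fun k => by simp [mul_assoc]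
          _ = ∑ m : K, t (Subgroup.inclusion hKL m) * (res M Ki * res M ((d : locRing M) *
                ∑ h : K, th (h * x * h⁻¹ * m⁻¹))) := by
              rw [Finset.sum_comm]
              refine Finset.sum_congr rfl fun m _ => ?_
              rw [map_mul, map_sum, Finset.mul_sum, Finset.mul_sum, Finset.mul_sum]
              refine Finset.sum_congr rfl fun h _ => ?_
              simp only [ev, map_mul]
              rw [show (m * (h * x * h⁻¹)⁻¹)⁻¹ = h * x * h⁻¹ * m⁻¹ by group]
              ring
          _ = res M (th x) * S₀ := by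
              rw [Finset.mul_sum]
              refine Finset.sum_congr rfl fun m _ => ?_
              rw [conv2, map_mul, map_mul, map_natCast]
              linear_combination (t (Subgroup.inclusion hKL m) * res M (th x) * res M (th m⁻¹)) * hKcr
      linear_combination (res M Ki) * h1 - t (Subgroup.inclusion hKL x) * hKcr
    have htl : ∀ l : L, t l = f0 l * (res M Ki * S₀) := by
      intro l
      obtain ⟨z, x, rfl, hc, hz⟩ := hdec l
      rw [hf0dec z x hc hz, ← htx]
      exact trace_mul_pElement hM τ hc hz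
    obtain ⟨u, hu⟩ := exists_ne (0 : U)
    refine ⟨u, ?_, fun h => hu (Subtype.ext h)⟩
    rw [hW, mem_twistKer]
    intro q
    have hD : τ q - ∑ k : K, cq q k • τ (Subgroup.inclusion hKL k) = 0 := by
      refine eq_zero_of_trace_mul τ hτirr _ fun l => ?_
      have hsc : ∀ (f : K → Module.End (Res M) U) (e : Module.End (Res M) U),
          (∑ k : K, f k) ∘ₗ e = ∑ k : K, f k ∘ₗ e := fun f e => LinearMap.ext fun v => by
        simp [LinearMap.sum_apply]
      rw [Module.End.mul_eq_comp, LinearMap.sub_comp, hsc]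
      refine (map_sub (LinearMap.trace (Res M) U) _ _).trans ?_
      rw [map_sum, sub_eq_zero,
        ← Module.End.mul_eq_comp, ← map_mul]
      refine Eq.trans (htl _) ?_
      rw [← hcq, Finset.sum_mul]
      refine Finset.sum_congr rfl fun k _ => ?_
      rw [LinearMap.smul_comp, map_smul, smul_eq_mul, ← Module.End.mul_eq_comp, ← map_mul]
      rw [show LinearMap.trace (Res M) U (τ (Subgroup.inclusion hKL k * l)) = _ from htl _]
      ring
    have hD' : (τ q : Module.End (Res M) U) = ∑ k : K, cq q k • τ (Subgroup.inclusion hKL k) :=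
      eq_of_sub_eq_zero hD
    have := congrArg Subtype.val (LinearMap.congr_fun hD' u)
    simpa [hτ, ρL, subRep_apply] using this
  obtain ⟨v, hv, hv0⟩ := hnz
  -- the class sum kills the subspace
  let φ : Q →* ConjAct (G ⧸ K) :=
    ConjAct.toConjAct.toMonoidHom.comp ((QuotientGroup.mk' K).comp Q.subtype)
  letI : MulAction Q (G ⧸ K) := MulAction.compHom _ φ
  let _ : Fintype (G ⧸ K) := Fintype.ofFinite _
  let F : G ⧸ K → (Fin n → Res M) := fun c =>
    ∑ x ∈ (Finset.univ.filter (IsConj g)).filter (fun x => QuotientGroup.mk' K x = c), ρ x v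
  have hsum : ∑ c, F c = bomega χ (zclass M g) • v :=
    (Finset.sum_fiberwise _ (fun x => QuotientGroup.mk' K x) fun x => ρ x v).trans (hT v)
  have hzero : ∑ c, F c = 0 := by
    refine sum_eq_zero_of_invariant (p := p) (fun w => ?_) hQp F ?_ ?_
    · rw [← Nat.cast_smul_eq_nsmul (Res M), CharP.cast_eq_zero, zero_smul]
    · intro q c
      let qL : L := ⟨q, hQL q.2⟩
      let u := ρ (q : G)⁻¹ v
      have hu : u ∈ W := hWinv _ v hv
      let Z : (Fin n → Res M) →ₗ[Res M] (Fin n → Res M) :=
        ∑ x ∈ (Finset.univ.filter (IsConj g)).filter (fun x => QuotientGroup.mk' K x = c), ρ x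
      have hZK : ∀ (k : K) w, Z (ρ (k : G) w) = ρ (k : G) (Z w) := by
        intro k w
        simp only [Z, LinearMap.sum_apply, map_sum]
        refine Finset.sum_equiv (MulAut.conj (k : G)⁻¹).toEquiv (fun x => ?_) fun x _ => ?_
        · have hk : QuotientGroup.mk' K (k : G) = 1 := (QuotientGroup.eq_one_iff _).mpr k.2
          have hcx : IsConj x (MulAut.conj (k : G)⁻¹ x) := isConj_iff.mpr ⟨(k : G)⁻¹, rfl⟩
          simp only [Finset.mem_filter, Finset.mem_univ, true_and, MulEquiv.coe_toEquiv]
          show IsConj g x ∧ _ ↔ IsConj g (MulAut.conj (k : G)⁻¹ x) ∧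
            QuotientGroup.mk' K (MulAut.conj (k : G)⁻¹ x) = c
          rw [show QuotientGroup.mk' K (MulAut.conj (k : G)⁻¹ x) = QuotientGroup.mk' K x by
            rw [MulAut.conj_apply, map_mul, map_mul, map_inv, map_inv, hk]; simp]
          exact and_congr_left fun _ => ⟨fun h => h.trans hcx, fun h => h.trans hcx.symm⟩
        · simp only [MulEquiv.coe_toEquiv, ← Module.End.mul_apply, ← map_mul]
          simp [mul_assoc]
      have hFq : F (q • c) = ρ (q : G) (Z u) := by
        simp only [F, Z, u, LinearMap.sum_apply, map_sum]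
        refine (Finset.sum_equiv (MulAut.conj (q : G)).toEquiv (fun x => ?_) fun x _ => ?_).symm
        · have hcx : IsConj x (MulAut.conj (q : G) x) := isConj_iff.mpr ⟨(q : G), rfl⟩
          simp only [Finset.mem_filter, Finset.mem_univ, true_and, MulEquiv.coe_toEquiv]
          show IsConj g x ∧ _ ↔ IsConj g (MulAut.conj (q : G) x) ∧
            QuotientGroup.mk' K (MulAut.conj (q : G) x) = q • c
          rw [show q • c = QuotientGroup.mk' K (q : G) * c * (QuotientGroup.mk' K (q : G))⁻¹ from rfl,
            MulAut.conj_apply, map_mul, map_mul, map_inv]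
          exact and_congr ⟨fun h => h.trans hcx, fun h => h.trans hcx.symm⟩
            ⟨fun h => by rw [h], fun h => mul_left_cancel (mul_right_cancel h)⟩
        · simp only [MulEquiv.coe_toEquiv, ← Module.End.mul_apply, ← map_mul]
          simp [mul_assoc]
      have hZu : Z u ∈ W := by
        simp only [Z, LinearMap.sum_apply]
        exact Submodule.sum_mem _ fun x _ => hWinv x u hu
      rw [hFq, (mem_twistKer K L).mp hZu qL]
      rw [Finset.sum_congr rfl fun k _ => by rw [← hZK k u, ← map_smul], ← map_sum,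
        ← (mem_twistKer K L).mp hu qL]
      simp [u, qL, Z, F, LinearMap.sum_apply, ← Module.End.mul_apply, ← map_mul]
    · intro c hc
      refine Finset.sum_eq_zero fun x hx => ?_
      simp only [Finset.mem_filter, Finset.mem_univ, true_and] at hx
      exfalso
      apply hg
      have hxL : x ∈ L := hfix x fun q hq => by
        have h := hc ⟨q, hq⟩
        change QuotientGroup.mk' K q * c * (QuotientGroup.mk' K q)⁻¹ = c at h
        rw [← hx.2, mul_inv_eq_iff_eq_mul, ← map_mul, ← map_mul] at h
        rw [← QuotientGroup.eq_one_iff]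
        show QuotientGroup.mk' K ⁅x, q⁆ = 1
        simp only [commutatorElement_def, map_mul, map_inv] at h ⊢
        rw [← h]; group
      obtain ⟨y, hy⟩ := isConj_iff.mp hx.1.symm
      exact hy ▸ hLn.conj_mem x hxL y
  rw [hsum] at hzero
  exact (smul_eq_zero.mp hzero).resolve_right hv0

end CfsgLib.Modular
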