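import Cfsg.Agent.Lib.Modular.Decomposition

/-!
# Projective indecomposable characters

* `pim`: `Φ_φ = ∑ d_{χφ} χ`; `pim_singular`: it vanishes at `p`-singular elements;
* `pim_one`: its degree is a positive multiple of the full `p`-part of the group order.
-/

set_option autoImplicit false

noncomputable section

namespace CfsgLib.Modular

open Cfsg CfsgLib.Blocks CfsgLib.Char CfsgLib.BlockArith
open scoped ComplexConjugate

attribute [local instance] CfsgLib.Blocks.resField

variable {M : Ideal AlgInt} [M.IsMaximal] {G : Type*} [Group G] [Fintype G] {p : ℕ}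

/-- The projective indecomposable character. -/
def pim (hM : IsPModular p M) (φ : G → ℂ) : G → ℂ := ∑ χ : IrrCharacter G, (dnum hM χ φ : ℂ) • (χ : G → ℂ)

theorem isCharacter_pim (hM : IsPModular p M) (φ : G → ℂ) : IsCharacter G (pim hM φ) := by
  unfold pim
  refine isCharacter_sum _ fun χ _ => ?_
  rw [Nat.cast_smul_eq_nsmul]
  exact isCharacter_nsmul (isCharacter_of_isIrr χ.2) _

theorem pim_singular (hM : IsPModular p M) {φ : G → ℂ} (hφ : φ ∈ ibrF hM G) {x : G} (hx : p ∣ orderOf x) :
    pim hM φ x = 0 := by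
  classical
  have key : ∀ ψ ∈ ibrF hM G, pim hM ψ x = 0 := by
    refine ibrF_independent hM (Finset.Subset.refl _) ?_
    funext h
    simp only [pim, Finset.sum_apply, Pi.smul_apply, smul_eq_mul, Finset.sum_mul, Pi.zero_apply]
    rw [Finset.sum_comm]
    by_cases hh : p ∣ orderOf h
    · exact Finset.sum_eq_zero fun χ _ => Finset.sum_eq_zero fun ψ hψ => by
        rw [(ibrF_regular hM hψ).1 h hh, mul_zero]
    have h2 : ∑ χ : IrrCharacter G, (χ : G → ℂ) x * conj ((χ : G → ℂ) h⁻¹) = 0 := by
      rw [second_orthogonality, if_neg fun hc => hh ?_]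
      obtain ⟨c, hc⟩ := isConj_iff.mp hc
      rwa [← orderOf_inv, ← hc, show orderOf (c * x * c⁻¹) = orderOf x from
        orderOf_injective (MulAut.conj c).toMonoidHom (MulAut.conj c).injective x]
    rw [← h2]
    refine Finset.sum_congr rfl fun χ _ => ?_
    have h3 := congrFun (regPart_eq hM χ) h
    rw [pRegularPart_apply, if_neg hh] at h3
    simp only [Finset.sum_apply, Pi.smul_apply, smul_eq_mul] at h3
    rw [char_inv (isCharacter_of_isIrr χ.2), Complex.conj_conj, h3, Finset.mul_sum]
    exact Finset.sum_congr rfl fun ψ _ => by ring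
  exact key φ hφ

theorem pim_one (hM : IsPModular p M) {φ : G → ℂ} (hφ : φ ∈ ibrF hM G) :
    ∃ n : ℕ, 0 < n ∧ p ^ (Nat.card G).factorization p ∣ n ∧ pim hM φ 1 = (n : ℂ) := by
  classical
  have : Fact p.Prime := ⟨hM.1⟩
  let n := ∑ χ : IrrCharacter G, dnum hM χ φ * charDegree (χ : G → ℂ)
  have hn : pim hM φ 1 = (n : ℂ) := by
    simp only [pim, n, Finset.sum_apply, Pi.smul_apply, smul_eq_mul, Nat.cast_sum, Nat.cast_mul,
      CfsgLib.CharBlocks.coe_charDegree_irr]
  refine ⟨n, ?_, ?_, hn⟩
  · obtain ⟨B, -, hB⟩ := exists_ibrOf hM hφ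
    obtain ⟨-, χ, -, hd⟩ := mem_ibrOf.mp hB
    exact (Nat.mul_pos (Nat.pos_of_ne_zero hd) (Nat.pos_of_ne_zero (charDegree_ne_zero χ))).trans_le
      (Finset.single_le_sum (f := fun χ : IrrCharacter G => dnum hM χ φ * charDegree (χ : G → ℂ))
        (fun _ _ => Nat.zero_le _) (Finset.mem_univ χ))
  · obtain ⟨P⟩ := (inferInstance : Nonempty (Sylow p G))
    have := Fintype.ofFinite (P : Subgroup G)
    obtain ⟨m, hm⟩ := classInner_char_nat (isCharacter_res (P : Subgroup G) (isCharacter_pim hM φ))
      (isCharacter_of_isIrr (irrOne (G := (P : Subgroup G))).2)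
    have h1 := card_mul_classInner (fun y : (P : Subgroup G) => pim hM φ y) (irrOne : IrrCharacter (P : Subgroup G))
    rw [hm, Finset.sum_eq_single (1 : (P : Subgroup G))] at h1
    · rw [char_conj_one (isCharacter_of_isIrr (irrOne (G := (P : Subgroup G))).2)] at h1
      rw [show ((irrOne : IrrCharacter ↥(P : Subgroup G)) : ↥(P : Subgroup G) → ℂ) 1 = 1 from rfl, mul_one] at h1
      rw [show ((1 : (P : Subgroup G)) : G) = 1 from rfl, hn, P.card_eq_multiplicity] at h1
      exact ⟨m, by exact_mod_cast h1.symm⟩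
    · intro y _ hy
      have hord : p ∣ orderOf (y : G) := by
        obtain ⟨k, hk⟩ := IsPGroup.iff_orderOf.mp P.2 y
        rw [Subgroup.orderOf_coe, hk]
        refine dvd_pow_self p fun hk0 => hy (orderOf_eq_one_iff.mp ?_)
        rw [hk, hk0, pow_zero]
      rw [pim_singular hM hφ hord, zero_mul]
    · simp

end CfsgLib.Modular
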