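import Cfsg.Agent.Lib.Modular.PimDual
import Cfsg.Agent.Lib.BlockArith.CharCount
import Cfsg.Agent.Lib.Modular.GaloisFix
import Cfsg.Agent.Lib.Blocks.GaloisInv

/-!
# Traces of Galois automorphisms on a block, section by section

* `sum_block_sectionKer`: the kernel of a block on a section;
* `galois_trace_ge`: the number of fixed characters of a block is at least `l(B)`.
-/

set_option autoImplicit false

noncomputable section

namespace CfsgLib.Modular

open Cfsg CfsgLib.Blocks CfsgLib.Char CfsgLib.BlockArith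
open scoped ComplexConjugate

variable {M : Ideal AlgInt} [M.IsMaximal] {G : Type*} [Group G] [Fintype G] {p : ℕ} [hp : Fact p.Prime]
  {x : G} [Fintype (Subgroup.centralizer ({x} : Set G))]

/-- The kernel of a block on a section is the sum of the kernels of the inducing blocks. -/
theorem sum_block_sectionKer (hM : IsPModular p M) (hx : ∃ k : ℕ, orderOf x = p ^ k)
    {B : Set (IrrCharacter G)} (hB : IsPBlock M B) [DecidablePred (· ∈ B)]
    [Fintype {b : Set (IrrCharacter (Subgroup.centralizer ({x} : Set G))) // IsPBlock M b}]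
    [DecidablePred fun b : {b : Set (IrrCharacter (Subgroup.centralizer ({x} : Set G))) // IsPBlock M b} =>
      IsInducedBlock M (Subgroup.centralizer ({x} : Set G)) b.1 B]
    {y z : Subgroup.centralizer ({x} : Set G)} (hy : ¬ p ∣ orderOf y) (hz : ¬ p ∣ orderOf z) :
    ∑ χ : IrrCharacter G, (if χ ∈ B then (χ : G → ℂ) (x * (y : G)) * conj ((χ : G → ℂ) (x * (z : G))) else 0) =
      (Nat.card (Subgroup.centralizer ({x} : Set G)) : ℂ) *
        ∑ b : {b : Set (IrrCharacter (Subgroup.centralizer ({x} : Set G))) // IsPBlock M b},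
          (if IsInducedBlock M (Subgroup.centralizer ({x} : Set G)) b.1 B then
            BlockArith.blockKer p b.1 y z else 0) := by
  classical
  have hconj : ∀ (χ : IrrCharacter G) (c : Subgroup.centralizer ({x} : Set G)),
      conj ((χ : G → ℂ) (x * (c : G))) = (χ : G → ℂ) (x⁻¹ * ((c⁻¹ : Subgroup.centralizer ({x} : Set G)) : G)) :=
    fun χ c => by
      rw [← char_inv (isCharacter_of_isIrr χ.2), mul_inv_rev, Subgroup.coe_inv,
        (commute_of_mem_centralizer c).inv_left.inv_right.eq]
  have hstep : ∀ χ : IrrCharacter G,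
      (if χ ∈ B then (χ : G → ℂ) (x * (y : G)) * conj ((χ : G → ℂ) (x * (z : G))) else 0) =
      ∑ b : {b : Set (IrrCharacter (Subgroup.centralizer ({x} : Set G))) // IsPBlock M b},
        (if IsInducedBlock M (Subgroup.centralizer ({x} : Set G)) b.1 B then
          ∑ c : Subgroup.centralizer ({x} : Set G), BlockArith.blockKer p b.1 z⁻¹ c *
            ((χ : G → ℂ) (x * (y : G)) * (χ : G → ℂ) (x⁻¹ * (c : G))) else 0) := by
    intro χ
    have h := congrArg (fun t => (χ : G → ℂ) (x * (y : G)) * conj t) (sum_inducing hM hx hB χ hz)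
    simp only [map_sum, Finset.mul_sum, apply_ite conj, map_zero, mul_ite, mul_zero] at h
    rw [← h]
    refine Finset.sum_congr rfl fun b _ => ?_
    split_ifs with hb
    · rw [blockPart_regular_eq hM b.2 _ hz, map_sum, Finset.mul_sum, ← Equiv.sum_comp (Equiv.inv _)]
      refine Finset.sum_congr rfl fun c _ => ?_
      rw [Equiv.inv_apply, map_mul, hconj, inv_inv]
      have hK : conj (BlockArith.blockKer p b.1 z c⁻¹) = BlockArith.blockKer p b.1 z⁻¹ c := by
        conv_rhs => rw [← inv_inv c, blockKer_inv]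
        simp only [BlockArith.blockKer, Matrix.of_apply, orderOf_inv, or_comm (a := p ∣ orderOf z), apply_ite conj,
          map_zero, map_mul, map_inv₀, map_natCast, map_sum, Complex.conj_conj, mul_comm (conj _)]
      rw [hK]
      ring
    · rfl
  simp only [hstep]
  rw [Finset.sum_comm, Finset.mul_sum]
  refine Finset.sum_congr rfl fun b _ => ?_
  split_ifs with hb
  · rw [Finset.sum_comm]
    simp only [← Finset.mul_sum]
    rw [sum_section_mul hx b.1 z⁻¹ y hy, blockKer_inv]
  · simp

omit [Fintype (Subgroup.centralizer ({x} : Set G))] in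
/-- The contribution of a section to the trace of an automorphism is a natural number. -/
theorem section_term_nat (hM : IsPModular p M) (hx : ∃ k : ℕ, orderOf x = p ^ k) {k : ℕ}
    (hk : k.Coprime (Nat.card G)) (hkreg : ∀ g : G, ¬ p ∣ orderOf g → g ^ k = g)
    {B : Set (IrrCharacter G)} (hB : IsPBlock M B) [DecidablePred (· ∈ B)] :
    ∃ n : ℕ, (Nat.card (Subgroup.centralizer ({x} : Set G)) : ℂ)⁻¹ *
      ∑ᶠ s : Subgroup.centralizer ({x} : Set G), pRegularPart p (fun c : Subgroup.centralizer ({x} : Set G) =>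
        ∑ χ : IrrCharacter G, if χ ∈ B then
          (χ : G → ℂ) ((x * (c : G)) ^ k) * conj ((χ : G → ℂ) (x * (c : G))) else 0) s = n := by
  classical
  let _ := Fintype.ofFinite (Subgroup.centralizer ({x} : Set G))
  rw [finsum_eq_sum_of_fintype]
  have hpow : ∀ c : Subgroup.centralizer ({x} : Set G), ¬ p ∣ orderOf c →
      (x * (c : G)) ^ k = x ^ k * (c : G) := fun c hc => by
    rw [(commute_of_mem_centralizer c).mul_pow, hkreg (c : G) (by rwa [Subgroup.orderOf_coe])]
  have hxk : ∃ j : ℕ, orderOf (x ^ k) = p ^ j := by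
    obtain ⟨j, hj⟩ := hx
    exact ⟨j, by rw [(Nat.Coprime.coprime_dvd_right (orderOf_dvd_natCard x) hk).symm.orderOf_pow, hj]⟩
  by_cases hc : IsConj x (x ^ k)
  · obtain ⟨t, ht⟩ := isConj_iff.mp hc
    have hC : Subgroup.centralizer ({x ^ k} : Set G) = Subgroup.centralizer ({x} : Set G) :=
      centralizer_pow_of_coprime x (hk.coprime_dvd_right (orderOf_dvd_natCard x))
    have hmem : ∀ c : G, c ∈ Subgroup.centralizer ({x} : Set G) →
        t⁻¹ * c * t ∈ Subgroup.centralizer ({x} : Set G) := by
      intro c hc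
      rw [← hC, Subgroup.mem_centralizer_singleton_iff, ← ht] at hc
      rw [Subgroup.mem_centralizer_singleton_iff]
      calc t⁻¹ * c * t * x = t⁻¹ * (c * (t * x * t⁻¹)) * t := by group
        _ = t⁻¹ * ((t * x * t⁻¹) * c) * t := by rw [hc]
        _ = x * (t⁻¹ * c * t) := by group
    let f : Subgroup.centralizer ({x} : Set G) →* Subgroup.centralizer ({x} : Set G) :=
      MonoidHom.mk' (fun c => ⟨t⁻¹ * c * t, hmem c c.2⟩) fun a b => Subtype.ext (by
        simp only [Subgroup.coe_mul]; group)
    have hf : Function.Bijective f := Finite.injective_iff_bijective.mp fun a b h => Subtype.ext (by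
      have h' : t⁻¹ * (a : G) * t = t⁻¹ * (b : G) * t := congrArg Subtype.val h
      simpa using h')
    let e := MulEquiv.ofBijective f hf
    let _ := Fintype.ofFinite {b : Set (IrrCharacter (Subgroup.centralizer ({x} : Set G))) // IsPBlock M b}
    choose n hn using fun b : {b : Set (IrrCharacter (Subgroup.centralizer ({x} : Set G))) // IsPBlock M b} =>
      blockKer_aut_nat hM e b.2
    refine ⟨∑ b, (if IsInducedBlock M (Subgroup.centralizer ({x} : Set G)) b.1 B then n b else 0), ?_⟩
    push_cast
    have hsum : ∀ (P : Prop) [Decidable P] (w : Subgroup.centralizer ({x} : Set G) → ℂ),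
        (if P then ∑ s, w s else 0) = ∑ s, if P then w s else 0 := fun P _ w => by split_ifs <;> simp
    simp only [← hn, hsum]
    rw [Finset.sum_comm, Finset.mul_sum]
    refine Finset.sum_congr rfl fun s _ => ?_
    rw [pRegularPart_apply]
    by_cases hs : p ∣ orderOf s
    · rw [if_pos hs, mul_zero]
      exact (Finset.sum_eq_zero fun b _ => by simp [BlockArith.blockKer, hs]).symm
    rw [if_neg hs, hpow s hs, ← ht]
    have hes : ¬ p ∣ orderOf (e s) := by rwa [e.orderOf_eq]
    have hval : ∀ χ : IrrCharacter G, (χ : G → ℂ) (t * x * t⁻¹ * (s : G)) = (χ : G → ℂ) (x * (e s : G)) := by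
      intro χ
      rw [show (e s : G) = t⁻¹ * (s : G) * t from rfl,
        ← isClassFunction_of_isIrr χ.2 (x * (t⁻¹ * (s : G) * t)) t]
      congr 1
      group
    simp only [hval]
    rw [sum_block_sectionKer hM hx hB hes hs, ← mul_assoc,
      inv_mul_cancel₀ (Nat.cast_ne_zero.mpr Nat.card_pos.ne'), one_mul]
  · refine ⟨0, ?_⟩
    rw [Nat.cast_zero, Finset.sum_eq_zero, mul_zero]
    intro s _
    rw [pRegularPart_apply]
    split_ifs with hs
    · rfl
    rw [hpow s hs]
    refine block_orthogonality hM (x := x ^ k) (y := x)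
      (isPPart_mul ((commute_of_mem_centralizer s).pow_left k) hxk (by rwa [Subgroup.orderOf_coe]))
      (isPPart_mul (commute_of_mem_centralizer s) hx (by rwa [Subgroup.orderOf_coe])) (fun h => hc h.symm) hB

omit [Fintype (Subgroup.centralizer ({x} : Set G))] in
/-- A Galois automorphism trivial on `p′`-roots of unity fixes at least `l(B)` characters of `B`. -/
theorem galois_trace_ge (hM : IsPModular p M) {σ : ℂ ≃+* ℂ} {k : ℕ}
    (hσ : ∀ z : ℂ, z ^ Nat.card G = 1 → σ z = z ^ k)
    (hk : k.Coprime (Nat.card G)) (hkreg : ∀ g : G, ¬ p ∣ orderOf g → g ^ k = g)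
    {B : Set (IrrCharacter G)} (hB : IsPBlock M B) :
    blockRank p B ≤ Nat.card {χ : IrrCharacter G // χ ∈ B ∧ CharNormal.galIrr σ χ = χ} := by
  classical
  let F : G → ℂ := fun g => ∑ χ : IrrCharacter G, if χ ∈ B then
    (χ : G → ℂ) (g ^ k) * conj ((χ : G → ℂ) g) else 0
  let F' : G → ℂ := fun g => if p ∣ orderOf g then F g else 0
  have hFc : ∀ g c : G, F (c * g * c⁻¹) = F g := fun g c => by
    refine Finset.sum_congr rfl fun χ _ => ?_
    rw [conj_pow, isClassFunction_of_isIrr χ.2, isClassFunction_of_isIrr χ.2]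
  have hF'c : IsClassFunction G F' := fun g c => by
    simp only [F', hFc, (SemiconjBy.conj_mk c g).orderOf_eq]
  have hcount : (Nat.card G : ℂ) * (Nat.card {χ : IrrCharacter G // χ ∈ B ∧ CharNormal.galIrr σ χ = χ} : ℂ) =
      ∑ g : G, F g := by
    simp only [F]
    rw [Finset.sum_comm, Nat.card_eq_fintype_card, Nat.card_eq_fintype_card, Fintype.card_subtype,
      Finset.card_eq_sum_ones, Nat.cast_sum, Finset.sum_filter, Finset.mul_sum]
    refine Finset.sum_congr rfl fun χ _ => ?_
    by_cases hχ : χ ∈ B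
    · simp only [hχ, true_and, if_true]
      have e : ∀ g : G, (χ : G → ℂ) (g ^ k) * conj ((χ : G → ℂ) g) =
          (CharNormal.galIrr σ χ : G → ℂ) g * conj ((χ : G → ℂ) g) := fun g => by
        rw [CharNormal.galIrr_apply, CharNormal.ringEquiv_char_apply hσ (isCharacter_of_isIrr χ.2)
          (orderOf_dvd_natCard g)]
      rw [Finset.sum_congr rfl fun g _ => e g, ← card_mul_classInner, classInner_irrCharacter,
        Nat.card_eq_fintype_card]
      split_ifs <;> simp
    · simp [hχ]
  have hreg : ∑ g : G, (if p ∣ orderOf g then 0 else F g) = (Nat.card G : ℂ) * (blockRank p B : ℂ) := by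
    rw [card_mul_blockRank hM hB]
    have e : ∀ g : G, (if p ∣ orderOf g then 0 else F g) = ∑ χ : IrrCharacter G, if χ ∈ B then
        (if p ∣ orderOf g then 0 else (χ : G → ℂ) g * conj ((χ : G → ℂ) g)) else 0 := fun g => by
      by_cases hg : p ∣ orderOf g
      · simp [hg]
      · simp only [F, if_neg hg, hkreg g hg]
    rw [Finset.sum_congr rfl fun g _ => e g, Finset.sum_comm]
    exact Finset.sum_congr rfl fun χ _ => by split_ifs with hχ <;> simp
  let X : Finset G := (Finset.univ : Finset G).filter fun x =>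
    Quotient.out (ConjClasses.mk x) = x ∧ ∃ j : ℕ, orderOf x = p ^ j
  have hX : ∀ x ∈ X, ∃ j : ℕ, orderOf x = p ^ j := fun x hx => (Finset.mem_filter.mp hx).2.2
  have hXrep : ∀ g : G, (∃ j : ℕ, orderOf g = p ^ j) → ∃! x, x ∈ X ∧ IsConj g x := by
    rintro g ⟨j, hj⟩
    have hmk : ConjClasses.mk (Quotient.out (ConjClasses.mk g)) = ConjClasses.mk g :=
      Quotient.out_eq (ConjClasses.mk g)
    have hout : IsConj g (Quotient.out (ConjClasses.mk g)) := ConjClasses.mk_eq_mk_iff_isConj.mp hmk.symm
    refine ⟨Quotient.out (ConjClasses.mk g), ⟨Finset.mem_filter.mpr ⟨Finset.mem_univ _,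
      congrArg Quotient.out hmk, j, ?_⟩, hout⟩, fun x hx => ?_⟩
    · obtain ⟨c, hc⟩ := isConj_iff.mp hout
      rw [← hc, ← hj]
      exact (SemiconjBy.conj_mk c g).orderOf_eq.symm
    · rw [ConjClasses.mk_eq_mk_iff_isConj.mpr hx.2]
      exact (Finset.mem_filter.mp hx.1).2.1.symm
  have hterm : ∀ x ∈ X, ∃ n : ℕ, (Nat.card G : ℂ) * (Nat.card (Subgroup.centralizer ({x} : Set G)) : ℂ)⁻¹ *
      ∑ᶠ s : Subgroup.centralizer ({x} : Set G),
        pRegularPart p (fun c : Subgroup.centralizer ({x} : Set G) => F' (x * (c : G))) s = (Nat.card G : ℂ) * n := by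
    intro x hx
    by_cases h1 : x = 1
    · refine ⟨0, ?_⟩
      rw [finsum_eq_zero_of_forall_eq_zero fun s => ?_]
      · simp
      rw [pRegularPart_apply]
      split_ifs with hs
      · rfl
      · simp only [F', h1, one_mul]
        rw [if_neg (by rwa [Subgroup.orderOf_coe])]
    · obtain ⟨n, hn⟩ := section_term_nat hM (hX x hx) hk hkreg hB
      refine ⟨n, ?_⟩
      rw [← hn, ← mul_assoc]
      refine congrArg _ (finsum_congr fun s => ?_)
      rw [pRegularPart_apply, pRegularPart_apply]
      split_ifs with hs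
      · rfl
      · refine if_pos ?_
        obtain ⟨j, hj⟩ := hX x hx
        have hjpos : j ≠ 0 := fun h => h1 (orderOf_eq_one_iff.mp (by rw [hj, h, pow_zero]))
        rw [(commute_of_mem_centralizer s).orderOf_mul_eq_mul_orderOf_of_coprime (by
          rw [hj, Subgroup.orderOf_coe]; exact ((Fact.out : p.Prime).coprime_iff_not_dvd.mpr hs).pow_left j), hj]
        exact (dvd_pow_self p hjpos).mul_right _
  choose! n hn using hterm
  have hsec := sum_by_sections X hX hXrep hF'c
  rw [Finset.sum_congr rfl hn, ← Finset.mul_sum, ← Nat.cast_sum] at hsec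
  have hsplit : ∑ g : G, F g = ∑ g : G, (if p ∣ orderOf g then 0 else F g) + ∑ g : G, F' g := by
    rw [← Finset.sum_add_distrib]
    exact Finset.sum_congr rfl fun g _ => by by_cases hg : p ∣ orderOf g <;> simp [F', hg]
  rw [← hcount, hreg, hsec, ← mul_add, ← Nat.cast_add] at hsplit
  have h := Nat.cast_injective (mul_left_cancel₀ (Nat.cast_ne_zero.mpr Nat.card_pos.ne') hsplit)
  rw [h]
  exact Nat.le_add_right _ _

end CfsgLib.Modular
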